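import Mathlib
import Cfsg.Agent.BlockChar.Support
import Cfsg.Agent.Blocks.Congr
import Cfsg.Agent.Char.Gen

/-!
# The indicator of p-regular elements, twisted by a character

`eta p χ` is `conj χ` on p-regular elements and zero elsewhere.  Its central character values
vanish outside the block of `χ`, and are units on the block when `χ` has height zero.  This gives
the third main theorem and its generalisations by Okuyama and Blau.
-/

namespace Cfsg.Agent.BlockThms

open scoped ComplexConjugate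
open Cfsg.Agent Cfsg.Agent.Blocks

universe u

variable {G : Type u} [Group G] {p : ℕ} {M : Ideal Cfsg.AlgInt}

/-- `conj χ` on p-regular elements, zero elsewhere. -/
noncomputable def eta (p : ℕ) (χ : G → ℂ) : G → ℂ :=
  open Classical in fun x => if Cfsg.IsPRegular p x then conj (χ x) else 0

theorem eta_of_regular (χ : G → ℂ) {x : G} (h : Cfsg.IsPRegular p x) :
    eta p χ x = conj (χ x) := if_pos h

theorem eta_of_singular (χ : G → ℂ) {x : G} (h : ¬ Cfsg.IsPRegular p x) : eta p χ x = 0 :=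
  if_neg h

theorem isClassFunction_eta {χ : G → ℂ} (h : Cfsg.IsClassFunction G χ) :
    Cfsg.IsClassFunction G (eta p χ) := by
  intro x k
  have hc : IsConj x (k * x * k⁻¹) := isConj_iff.2 ⟨k, rfl⟩
  by_cases hx : Cfsg.IsPRegular p x
  · rw [eta_of_regular _ hx, eta_of_regular _ (BlockChar.isPRegular_of_isConj hc hx), h x k]
  · rw [eta_of_singular _ hx,
      eta_of_singular _ fun h' => hx (BlockChar.isPRegular_of_isConj hc.symm h')]

theorem eta_comp_coe (H : Subgroup G) (χ : G → ℂ) :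
    (fun x : H => eta p χ (x : G)) = eta p (fun x : H => χ (x : G)) := by
  funext x
  have e : Cfsg.IsPRegular p (x : G) ↔ Cfsg.IsPRegular p x := by
    simp only [Cfsg.IsPRegular, Subgroup.orderOf_coe]
  by_cases hx : Cfsg.IsPRegular p x
  · rw [eta_of_regular _ hx, eta_of_regular _ (e.2 hx)]
  · rw [eta_of_singular _ hx, eta_of_singular _ (mt e.1 hx)]

theorem memLocalRing_eta [Finite G] (hM : Cfsg.IsPModular p M) {χ : G → ℂ}
    (hχ : Cfsg.IsCharacter G χ) (g : G) : Cfsg.MemLocalRing M (eta p χ g) := by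
  by_cases hg : Cfsg.IsPRegular p g
  · rw [eta_of_regular _ hg, ← Char.IsChar.inv_eq_conj hχ g]
    exact memLocalRing_char hM hχ _
  · rw [eta_of_singular _ hg]
    exact (localRing hM).zero_mem

theorem blockHeight_eq_zero_iff {B : Set (Cfsg.IrrCharacter G)} {χ : Cfsg.IrrCharacter G}
    (hχ : χ ∈ B) : Cfsg.blockHeight p B (χ : G → ℂ) = 0 ↔ ∀ ψ ∈ B,
      (Cfsg.charDegree (χ : G → ℂ)).factorization p ≤
        (Cfsg.charDegree (ψ : G → ℂ)).factorization p := by
  rw [Cfsg.blockHeight, Nat.sub_eq_zero_iff_le]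
  constructor
  · exact fun h ψ hψ => h.trans (Nat.sInf_le ⟨ψ, hψ, rfl⟩)
  · refine fun h => le_csInf ⟨_, χ, hχ, rfl⟩ ?_
    rintro _ ⟨ψ, hψ, rfl⟩
    exact h ψ hψ

theorem exists_height_zero [Finite G] (hM : Cfsg.IsPModular p M)
    {B : Set (Cfsg.IrrCharacter G)} (hB : Cfsg.IsPBlock M B) :
    ∃ χ ∈ B, Cfsg.blockHeight p B ((χ : Cfsg.IrrCharacter G) : G → ℂ) = 0 := by
  obtain ⟨χ, hχ, h⟩ := Set.exists_min_image B
    (fun ψ : Cfsg.IrrCharacter G => (Cfsg.charDegree (ψ : G → ℂ)).factorization p)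
    (Set.toFinite B) (IsPBlock.nonempty hM hB)
  exact ⟨χ, hχ, (blockHeight_eq_zero_iff hχ).2 h⟩

variable [Fintype G]

/-- Orthogonality over the p-regular elements between characters of different blocks. -/
theorem sum_eta_mul_eq_zero (hM : Cfsg.IsPModular p M) {B : Set (Cfsg.IrrCharacter G)}
    (hB : Cfsg.IsPBlock M B) {χ ψ : Cfsg.IrrCharacter G} (hχ : χ ∈ B) (hψ : ψ ∉ B) :
    ∑ x, eta p (χ : G → ℂ) x * (ψ : G → ℂ) x = 0 := by
  classical
  set f := eta p (χ : G → ℂ) with hf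
  set c : Cfsg.IrrCharacter G → ℂ := fun φ => ∑ x, f x * (φ : G → ℂ) x with hc
  have hG : (Nat.card G : ℂ) ≠ 0 := Char.card_ne_zero
  have horth : ∀ φ φ' : Cfsg.IrrCharacter G, ∑ y, (φ : G → ℂ) y * conj ((φ' : G → ℂ) y) =
      if φ = φ' then (Nat.card G : ℂ) else 0 := by
    intro φ φ'
    have h := Char.classInner_irrChar φ φ'
    rw [Cfsg.classInner, inv_mul_eq_iff_eq_mul₀ hG] at h
    rw [h]
    split_ifs <;> simp
  have key : ∀ y, ∑ φ : Cfsg.IrrCharacter G,
      (if φ ∈ B then c φ else 0) * conj ((φ : G → ℂ) y) = (Nat.card G : ℂ) * f y := by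
    intro y
    have h1 : ∑ φ : Cfsg.IrrCharacter G, (if φ ∈ B then c φ else 0) * conj ((φ : G → ℂ) y) =
        ∑ x, f x * ∑ φ : Cfsg.IrrCharacter G,
          (if φ ∈ B then (φ : G → ℂ) x * conj ((φ : G → ℂ) y) else 0) := by
      simp only [Finset.mul_sum]
      rw [Finset.sum_comm]
      refine Finset.sum_congr rfl fun φ _ => ?_
      split_ifs
      · rw [hc]; simp only [Finset.sum_mul, mul_assoc]
      · simp
    rw [h1]
    by_cases hy : Cfsg.IsPRegular p y
    · have h2 : ∀ x, f x * (∑ φ : Cfsg.IrrCharacter G,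
          (if φ ∈ B then (φ : G → ℂ) x * conj ((φ : G → ℂ) y) else 0)) =
          conj ((χ : G → ℂ) x) * ∑ φ : Cfsg.IrrCharacter G,
          (if φ ∈ B then (φ : G → ℂ) x * conj ((φ : G → ℂ) y) else 0) := by
        intro x
        by_cases hx : Cfsg.IsPRegular p x
        · rw [hf, eta_of_regular _ hx]
        · rw [BlockChar.sum_block_eq_zero' hM hB hy hx, mul_zero, mul_zero]
      simp only [h2]
      rw [hf, eta_of_regular _ hy]
      simp only [Finset.mul_sum]
      rw [Finset.sum_comm, Finset.sum_eq_single χ]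
      · simp only [if_pos hχ]
        rw [Finset.sum_congr rfl (g := fun x =>
          conj ((χ : G → ℂ) y) * ((χ : G → ℂ) x * conj ((χ : G → ℂ) x))) (fun x _ => by ring),
          ← Finset.mul_sum, horth, if_pos rfl, mul_comm]
      · intro φ _ hne
        by_cases hφ : φ ∈ B
        · simp only [if_pos hφ]
          rw [Finset.sum_congr rfl (g := fun x =>
            conj ((φ : G → ℂ) y) * ((φ : G → ℂ) x * conj ((χ : G → ℂ) x))) (fun x _ => by ring),
            ← Finset.mul_sum, horth, if_neg hne, mul_zero]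
        · simp [hφ]
      · simp
    · rw [hf, eta_of_singular _ hy, mul_zero]
      refine Finset.sum_eq_zero fun x _ => ?_
      by_cases hx : Cfsg.IsPRegular p x
      · rw [BlockChar.sum_block_eq_zero hM hB hx hy, mul_zero]
      · rw [eta_of_singular _ hx, zero_mul]
  have key2 : ∀ y, ∑ φ : Cfsg.IrrCharacter G, c φ * conj ((φ : G → ℂ) y) =
      (Nat.card G : ℂ) * f y := by
    intro y
    have h := apply_eq_sum_omega (isClassFunction_eta (p := p)
      (Char.isClassFunction_of_isIrr χ.2)) y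
    rw [eq_inv_mul_iff_mul_eq₀ hG] at h
    rw [hf, h]
    refine Finset.sum_congr rfl fun φ _ => ?_
    rw [omega, mul_div_cancel₀ _ (Char.IsIrr.one_ne_zero φ.2)]
  have h0 : ∑ y, (∑ φ : Cfsg.IrrCharacter G,
      (c φ - if φ ∈ B then c φ else 0) * conj ((φ : G → ℂ) y)) * (ψ : G → ℂ) y = 0 := by
    refine Finset.sum_eq_zero fun y _ => ?_
    simp only [sub_mul, Finset.sum_sub_distrib, key, key2, sub_self, zero_mul]
  simp only [Finset.sum_mul] at h0
  rw [Finset.sum_comm, Finset.sum_eq_single ψ] at h0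
  · rw [if_neg hψ, sub_zero, Finset.sum_congr rfl (g := fun y =>
      c ψ * ((ψ : G → ℂ) y * conj ((ψ : G → ℂ) y))) (fun y _ => by ring), ← Finset.mul_sum,
      horth, if_pos rfl] at h0
    exact (mul_eq_zero.1 h0).resolve_right hG
  · intro φ _ hne
    rw [Finset.sum_congr rfl (g := fun y => (c φ - if φ ∈ B then c φ else 0) *
      ((ψ : G → ℂ) y * conj ((φ : G → ℂ) y))) (fun y _ => by ring), ← Finset.mul_sum,
      horth, if_neg (Ne.symm hne), mul_zero]
  · simp

theorem omega_eta_eq_zero (hM : Cfsg.IsPModular p M) {χ ψ : Cfsg.IrrCharacter G}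
    (h : ¬ Cfsg.SameBlock M (χ : G → ℂ) (ψ : G → ℂ)) :
    omega (ψ : G → ℂ) (eta p (χ : G → ℂ)) = 0 := by
  rw [omega, sum_eta_mul_eq_zero hM (isPBlock_blockOf χ) (mem_blockOf_self hM χ) h, zero_div]

/-- The two sums over the p-regular elements agree. -/
theorem sum_eta_mul_comm {χ ψ : G → ℂ} (hχ : Cfsg.IsCharacter G χ) (hψ : Cfsg.IsCharacter G ψ) :
    ∑ x, eta p χ x * ψ x = ∑ x, eta p ψ x * χ x := by
  refine Fintype.sum_equiv (Equiv.inv G) _ _ fun x => ?_
  rw [Equiv.inv_apply]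
  by_cases hx : Cfsg.IsPRegular p x
  · have hx' : Cfsg.IsPRegular p x⁻¹ := by rwa [Cfsg.IsPRegular, orderOf_inv]
    rw [eta_of_regular _ hx, eta_of_regular _ hx', Char.IsChar.inv_eq_conj hψ,
      Char.IsChar.inv_eq_conj hχ, Complex.conj_conj, mul_comm]
  · have hx' : ¬ Cfsg.IsPRegular p x⁻¹ := by rwa [Cfsg.IsPRegular, orderOf_inv]
    rw [eta_of_singular _ hx, eta_of_singular _ hx', zero_mul, zero_mul]

/-- For a character of height zero the value on its own block is a unit. -/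
theorem not_memLocalIdeal_omega_eta (hM : Cfsg.IsPModular p M) (χ : Cfsg.IrrCharacter G)
    (hmin : Cfsg.blockHeight p (Cfsg.blockOf M (χ : G → ℂ)) (χ : G → ℂ) = 0) :
    ¬ Cfsg.MemLocalIdeal M (omega (χ : G → ℂ) (eta p (χ : G → ℂ))) := by
  classical
  have := Fact.mk hM.1
  rw [blockHeight_eq_zero_iff (mem_blockOf_self hM χ)] at hmin
  intro h
  set f := eta p (χ : G → ℂ) with hf
  have hfc : Cfsg.IsClassFunction G f := isClassFunction_eta (Char.isClassFunction_of_isIrr χ.2)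
  have hfR : ∀ g, Cfsg.MemLocalRing M (f g) :=
    memLocalRing_eta hM (Char.IsIrr.isCharacter χ.2)
  obtain ⟨P⟩ : Nonempty (Sylow p G) := inferInstance
  have : Fintype (P : Subgroup G) := Fintype.ofFinite _
  have hG : (Nat.card G : ℂ) ≠ 0 := Char.card_ne_zero
  have hP : (Nat.card (P : Subgroup G) : ℂ) ≠ 0 := Nat.cast_ne_zero.2 Nat.card_pos.ne'
  set m := (Cfsg.charDegree (χ : G → ℂ)).factorization p with hm
  set d := Cfsg.charDegree (χ : G → ℂ) / p ^ m with hd
  have hd' : p ^ m * d = Cfsg.charDegree (χ : G → ℂ) := Nat.ordProj_mul_ordCompl_eq_self _ p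
  -- sum of `f` over the Sylow subgroup
  have hsum : ∑ u : (P : Subgroup G), f (u : G) = ((p ^ m * d : ℕ) : ℂ) := by
    rw [Finset.sum_eq_single (1 : (P : Subgroup G))]
    · rw [hf, Subgroup.coe_one, eta_of_regular _
        (by rw [Cfsg.IsPRegular, orderOf_one]; exact hM.1.not_dvd_one), hd',
        ← charDegree_cast (Char.IsIrr.isCharacter χ.2), Complex.conj_natCast]
    · intro u _ hu
      obtain ⟨k, hk⟩ := (IsPGroup.iff_orderOf.1 P.2) u
      refine eta_of_singular _ fun hreg => hreg ?_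
      rw [Subgroup.orderOf_coe, hk]
      rcases Nat.eq_zero_or_pos k with rfl | hk0
      · rw [pow_zero, orderOf_eq_one_iff] at hk
        exact absurd hk hu
      · exact dvd_pow_self p hk0.ne'
    · simp
  -- the multiplicities of the trivial character on the Sylow subgroup
  have hk : ∀ φ : Cfsg.IrrCharacter G, ∃ k : ℕ, ∑ u : (P : Subgroup G), conj ((φ : G → ℂ) u) =
      (Nat.card (P : Subgroup G) : ℂ) * k := by
    intro φ
    obtain ⟨k, hk⟩ := Char.classInner_isCharacter_eq_natCast (G := (P : Subgroup G))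
      (Char.isCharacter_res (P : Subgroup G) (Char.IsIrr.isCharacter φ.2)) Char.isCharacter_one
    rw [Cfsg.classInner, inv_mul_eq_iff_eq_mul₀ hP] at hk
    simp only [map_one, mul_one] at hk
    refine ⟨k, ?_⟩
    rw [← map_sum, hk, map_mul, map_natCast, map_natCast]
  choose k hk using hk
  -- the relation
  have hrel : ((Nat.card G : ℂ)) * ((p ^ m * d : ℕ) : ℂ) = (Nat.card (P : Subgroup G) : ℂ) *
      ∑ φ : Cfsg.IrrCharacter G,
        (φ : G → ℂ) 1 * omega (φ : G → ℂ) f * (k φ : ℂ) := by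
    rw [← hsum, Finset.mul_sum, Finset.mul_sum]
    have h1 : ∀ u : (P : Subgroup G), (Nat.card G : ℂ) * f (u : G) = ∑ φ : Cfsg.IrrCharacter G,
        (φ : G → ℂ) 1 * omega (φ : G → ℂ) f * conj ((φ : G → ℂ) (u : G)) := fun u =>
      (eq_inv_mul_iff_mul_eq₀ hG).1 (apply_eq_sum_omega hfc (u : G))
    simp only [h1]
    rw [Finset.sum_comm]
    refine Finset.sum_congr rfl fun φ _ => ?_
    rw [← Finset.mul_sum, hk]
    ring
  have hterm : ∀ φ : Cfsg.IrrCharacter G, ∃ z, Cfsg.MemLocalIdeal M z ∧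
      (φ : G → ℂ) 1 * omega (φ : G → ℂ) f * (k φ : ℂ) = (p : ℂ) ^ m * z := by
    intro φ
    by_cases hφ : Cfsg.SameBlock M (χ : G → ℂ) (φ : G → ℂ)
    · obtain ⟨e, he⟩ : p ^ m ∣ Cfsg.charDegree (φ : G → ℂ) :=
        (pow_dvd_pow p (hmin φ hφ)).trans (Nat.ordProj_dvd _ p)
      have hw : Cfsg.MemLocalIdeal M (omega (φ : G → ℂ) f) := by
        have := memLocalIdeal_sub hM h (memLocalIdeal_omega_sub hM χ.2 φ.2 hfc hfR hφ)
        simpa using this
      refine ⟨(e : ℂ) * omega (φ : G → ℂ) f * (k φ : ℂ), memLocalIdeal_mul_right hM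
        (memLocalIdeal_mul_left hM (memLocalRing_natCast hM e) hw) (memLocalRing_natCast hM _), ?_⟩
      rw [← charDegree_cast (Char.IsIrr.isCharacter φ.2), he]
      push_cast
      ring
    · exact ⟨0, memLocalIdeal_zero hM, by rw [hf, omega_eta_eq_zero hM hφ]; ring⟩
  choose z hz hz' using hterm
  simp only [hz', ← Finset.mul_sum] at hrel
  have hidx := Subgroup.card_mul_index (P : Subgroup G)
  rw [← hidx] at hrel
  have hne : (Nat.card (P : Subgroup G) : ℂ) * (p : ℂ) ^ m ≠ 0 :=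
    mul_ne_zero hP (pow_ne_zero _ (Nat.cast_ne_zero.2 hM.1.ne_zero))
  have hfin : (((P : Subgroup G).index * d : ℕ) : ℂ) = ∑ φ, z φ := by
    apply mul_left_cancel₀ hne
    push_cast at hrel ⊢
    linear_combination hrel
  have hbad := memLocalIdeal_sum hM Finset.univ fun φ _ => hz φ
  rw [← hfin, memLocalIdeal_natCast_iff hM] at hbad
  rcases hM.1.dvd_mul.1 hbad with h' | h'
  · exact P.not_dvd_index h'
  · exact Nat.not_dvd_ordCompl hM.1 (charDegree_pos χ.2).ne' h'

/-- A class function of the group, evaluated by a function on a subgroup. -/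
theorem omega_res_eq_sum_classes [Fintype (ConjClasses G)] (H : Subgroup G) [Fintype H]
    (ξ : H → ℂ) {f : G → ℂ} (hf : Cfsg.IsClassFunction G f) :
    omega ξ (fun x : H => f (x : G)) =
      ∑ C : ConjClasses G, f C.out * Cfsg.inducedCentralChar H ξ C.out := by
  classical
  have hout : ∀ (C : ConjClasses G) (x : G), IsConj C.out x ↔ ConjClasses.mk x = C := fun C x => by
    rw [← ConjClasses.mk_eq_mk_iff_isConj, eq_comm]
    exact iff_of_eq (congrArg (ConjClasses.mk x = ·) (Quotient.out_eq C))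
  rw [omega, Finset.sum_div,
    ← Finset.sum_fiberwise Finset.univ (fun x : H => ConjClasses.mk (x : G))]
  refine Finset.sum_congr rfl fun C _ => ?_
  rw [Cfsg.inducedCentralChar, finsum_mem_eq_finite_toFinset_sum _ (Set.toFinite _),
    Finset.mul_sum]
  refine Finset.sum_congr ?_ fun x hx => ?_
  · ext x
    simp only [Finset.mem_filter, Finset.mem_univ, true_and, Set.Finite.mem_toFinset,
      Set.mem_ofPred_eq]
    exact (hout C _).symm
  · have hx' : IsConj C.out (x : G) := by simpa using hx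
    rw [Char.classFun_isConj hf hx', mul_div_assoc]

/-- An induced central character has the values of the central character on every class
function with local integral values. -/
theorem memLocalIdeal_omega_res_sub (hM : Cfsg.IsPModular p M) (H : Subgroup G) [Fintype H]
    {ξ : H → ℂ} {χ f : G → ℂ} (hχ : Cfsg.IsClassFunction G χ) (hf : Cfsg.IsClassFunction G f)
    (hfR : ∀ g, Cfsg.MemLocalRing M (f g))
    (h : ∀ g, Cfsg.MemLocalIdeal M
      (Cfsg.inducedCentralChar H ξ g - Cfsg.centralChar χ g)) :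
    Cfsg.MemLocalIdeal M (omega ξ (fun x : H => f (x : G)) - omega χ f) := by
  classical
  have : Finite (ConjClasses G) := Quotient.finite _
  have := Fintype.ofFinite (ConjClasses G)
  rw [omega_res_eq_sum_classes H ξ hf, omega_eq_sum_classes hχ hf, ← Finset.sum_sub_distrib]
  refine memLocalIdeal_sum hM _ fun C _ => ?_
  rw [← mul_sub]
  exact memLocalIdeal_mul_left hM (hfR _) (h _)

theorem memLocalIdeal_omega_eta_res_sub (hM : Cfsg.IsPModular p M) (H : Subgroup G) [Fintype H]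
    (χ φ : Cfsg.IrrCharacter G) (ξ : H → ℂ)
    (h : ∀ g, Cfsg.MemLocalIdeal M
      (Cfsg.inducedCentralChar H ξ g - Cfsg.centralChar (φ : G → ℂ) g)) :
    Cfsg.MemLocalIdeal M (omega ξ (eta p (fun x : H => (χ : G → ℂ) (x : G))) -
      omega (φ : G → ℂ) (eta p (χ : G → ℂ))) := by
  rw [← eta_comp_coe]
  exact memLocalIdeal_omega_res_sub hM H (Char.isClassFunction_of_isIrr φ.2)
    (isClassFunction_eta (Char.isClassFunction_of_isIrr χ.2))
    (memLocalRing_eta hM (Char.IsIrr.isCharacter χ.2)) h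

omit [Fintype G] in
/-- Okuyama's criterion. -/
theorem isInducedBlock_iff [Finite G] (hM : Cfsg.IsPModular p M) (H : Subgroup G)
    (χ : Cfsg.IrrCharacter G) (ψ : Cfsg.IrrCharacter H)
    (hψ : (ψ : H → ℂ) = fun x : H => (χ : G → ℂ) (x : G))
    (h0 : Cfsg.blockHeight p (Cfsg.blockOf M (χ : G → ℂ)) (χ : G → ℂ) = 0)
    (h1 : Cfsg.blockHeight p (Cfsg.blockOf M (ψ : H → ℂ)) (ψ : H → ℂ) = 0)
    (e : Set (Cfsg.IrrCharacter H)) (he : Cfsg.InducedBlockDefined M H e) :
    Cfsg.IsInducedBlock M H e (Cfsg.blockOf M (χ : G → ℂ)) ↔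
      e = Cfsg.blockOf M (ψ : H → ℂ) := by
  classical
  have := Fintype.ofFinite G
  have : Fintype H := Fintype.ofFinite _
  constructor
  · intro h
    obtain ⟨ξ, hξ⟩ := IsPBlock.nonempty hM h.1
    have hc := memLocalIdeal_omega_eta_res_sub hM H χ χ (ξ : H → ℂ)
      (h.2.2 ξ hξ χ (mem_blockOf_self hM χ))
    rw [← hψ] at hc
    have hu : ¬ Cfsg.MemLocalIdeal M (omega (ξ : H → ℂ) (eta p (ψ : H → ℂ))) := fun h' =>
      not_memLocalIdeal_omega_eta hM χ h0 (by simpa using memLocalIdeal_sub hM h' hc)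
    have hs : Cfsg.SameBlock M (ψ : H → ℂ) (ξ : H → ℂ) := by
      by_contra hs
      exact hu (omega_eta_eq_zero hM hs ▸ memLocalIdeal_zero hM)
    rw [IsPBlock.eq_blockOf hM h.1 hξ, blockOf_eq_of_sameBlock hM hs]
  · intro he'
    obtain ⟨B, hB⟩ := he
    obtain ⟨φ, hφ⟩ := IsPBlock.nonempty hM hB.2.1
    have hc := memLocalIdeal_omega_eta_res_sub hM H χ φ (ψ : H → ℂ)
      (hB.2.2 ψ (he' ▸ mem_blockOf_self hM ψ) φ hφ)
    rw [← hψ] at hc
    have hu : ¬ Cfsg.MemLocalIdeal M (omega (φ : G → ℂ) (eta p (χ : G → ℂ))) := fun h' =>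
      not_memLocalIdeal_omega_eta hM ψ h1 (by simpa using memLocalIdeal_add hM hc h')
    have hs : Cfsg.SameBlock M (χ : G → ℂ) (φ : G → ℂ) := by
      by_contra hs
      exact hu (omega_eta_eq_zero hM hs ▸ memLocalIdeal_zero hM)
    rwa [IsPBlock.eq_blockOf hM hB.2.1 hφ, ← blockOf_eq_of_sameBlock hM hs] at hB

omit [Fintype G] in
theorem blockHeight_triv [Finite G] (hM : Cfsg.IsPModular p M) :
    Cfsg.blockHeight p (Cfsg.blockOf M (triv G : G → ℂ)) (triv G : G → ℂ) = 0 := by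
  refine (blockHeight_eq_zero_iff (mem_blockOf_self hM _)).2 fun ψ _ => ?_
  rw [charDegree_eq (n := 1) (by simp [triv]), Nat.factorization_one]
  exact Nat.zero_le _

/-- Blau's theorem on height zero constituents. -/
theorem exists_height_zero_constituent (hM : Cfsg.IsPModular p M) (H : Subgroup G) [Fintype H]
    (b : Set (Cfsg.IrrCharacter H)) (B : Set (Cfsg.IrrCharacter G))
    (hind : Cfsg.IsInducedBlock M H b B) (χ : Cfsg.IrrCharacter G) (hχ : χ ∈ B)
    (h0 : Cfsg.blockHeight p B (χ : G → ℂ) = 0) :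
    ∃ ξ ∈ b, Cfsg.blockHeight p b ((ξ : Cfsg.IrrCharacter H) : H → ℂ) = 0 ∧
      ∃ n : ℕ, Cfsg.classInner (fun h : H => (χ : G → ℂ) h) (ξ : H → ℂ) = (n : ℂ) ∧
        ¬ p ∣ n := by
  classical
  obtain ⟨ξ₀, hξ₀, hξ₀0⟩ := exists_height_zero hM hind.1
  rw [IsPBlock.eq_blockOf hM hind.2.1 hχ] at h0
  have hres := Char.isCharacter_res H (Char.IsIrr.isCharacter χ.2)
  obtain ⟨n, hn, hexp, -⟩ := Char.IsChar.exists_mult hres
  have hc := memLocalIdeal_omega_eta_res_sub hM H χ χ (ξ₀ : H → ℂ) (hind.2.2 ξ₀ hξ₀ χ hχ)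
  have heta : eta p (fun x : H => (χ : G → ℂ) (x : G)) =
      ∑ ξ : Cfsg.IrrCharacter H, (n ξ : ℂ) • eta p (ξ : H → ℂ) := by
    funext x
    rw [Finset.sum_apply]
    by_cases hx : Cfsg.IsPRegular p x
    · rw [eta_of_regular _ hx]
      have := congrFun hexp x
      simp only [Finset.sum_apply, Pi.smul_apply, smul_eq_mul] at this
      rw [this, map_sum]
      exact Finset.sum_congr rfl fun ξ _ => by
        rw [map_mul, map_natCast, Pi.smul_apply, smul_eq_mul, eta_of_regular _ hx]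
    · rw [eta_of_singular _ hx]
      exact (Finset.sum_eq_zero fun ξ _ => by
        rw [Pi.smul_apply, eta_of_singular _ hx, smul_zero]).symm
  rw [heta, omega_sum] at hc
  obtain ⟨ξ, hξ⟩ : ∃ ξ : Cfsg.IrrCharacter H, ¬ Cfsg.MemLocalIdeal M
      ((n ξ : ℂ) * omega (ξ₀ : H → ℂ) (eta p (ξ : H → ℂ))) := by
    by_contra! hall
    refine not_memLocalIdeal_omega_eta hM χ h0 ?_
    have hs := memLocalIdeal_sum hM Finset.univ fun ξ _ => hall ξ
    simp only [omega_smul] at hc
    simpa using memLocalIdeal_sub hM hs hc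
  have hmem : ξ ∈ b := by
    by_contra hξb
    refine hξ ?_
    rw [omega_eta_eq_zero hM fun hs => hξb
      (IsPBlock.mem_of_sameBlock hM hind.1 hξ₀ (sameBlock_symm hs)), mul_zero]
    exact memLocalIdeal_zero hM
  refine ⟨ξ, hmem, (blockHeight_eq_zero_iff hmem).2 fun φ hφ => ?_, n ξ, hn ξ, fun hpn =>
    hξ (memLocalIdeal_mul_right hM ((memLocalIdeal_natCast_iff hM _).2 hpn) ?_)⟩
  swap
  · exact memLocalRing_omega hM ξ₀.2 (isClassFunction_eta (Char.isClassFunction_of_isIrr ξ.2))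
      (memLocalRing_eta hM (Char.IsIrr.isCharacter ξ.2))
  refine le_trans ?_ ((blockHeight_eq_zero_iff hξ₀).1 hξ₀0 φ hφ)
  by_contra hlt
  refine hξ (memLocalIdeal_mul_left hM (memLocalRing_natCast hM _) ?_)
  set a := (Cfsg.charDegree (ξ₀ : H → ℂ)).factorization p with ha
  obtain ⟨c, hc'⟩ : p ^ (a + 1) ∣ Cfsg.charDegree (ξ : H → ℂ) :=
    (pow_dvd_pow p (Nat.not_le.1 hlt)).trans (Nat.ordProj_dvd _ p)
  set w := Cfsg.charDegree (ξ₀ : H → ℂ) / p ^ a with hw
  have hw' : p ^ a * w = Cfsg.charDegree (ξ₀ : H → ℂ) := Nat.ordProj_mul_ordCompl_eq_self _ p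
  have hwp : ¬ p ∣ w := Nat.not_dvd_ordCompl hM.1 (charDegree_pos ξ₀.2).ne'
  have e : omega (ξ₀ : H → ℂ) (eta p (ξ : H → ℂ)) =
      ((p * c : ℕ) : ℂ) * (w : ℂ)⁻¹ * omega (ξ : H → ℂ) (eta p (ξ₀ : H → ℂ)) := by
    have hξ1 := Char.IsIrr.one_ne_zero ξ.2
    have hw0 : (w : ℂ) ≠ 0 := Nat.cast_ne_zero.2 fun h => hwp (h ▸ dvd_zero p)
    have hp0 : (p : ℂ) ^ a ≠ 0 := pow_ne_zero _ (Nat.cast_ne_zero.2 hM.1.ne_zero)
    have hn1 : (ξ : H → ℂ) 1 = (p : ℂ) ^ a * ((p * c : ℕ) : ℂ) := by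
      rw [← charDegree_cast (Char.IsIrr.isCharacter ξ.2), hc']
      push_cast
      ring
    have hn0 : (ξ₀ : H → ℂ) 1 = (p : ℂ) ^ a * (w : ℂ) := by
      rw [← charDegree_cast (Char.IsIrr.isCharacter ξ₀.2), ← hw']
      push_cast
      ring
    rw [omega, omega, sum_eta_mul_comm (Char.IsIrr.isCharacter ξ₀.2) (Char.IsIrr.isCharacter ξ.2),
      hn0]
    rw [hn1] at hξ1 ⊢
    have hc0 : ((p * c : ℕ) : ℂ) ≠ 0 := right_ne_zero_of_mul hξ1
    field_simp
  rw [e]
  exact memLocalIdeal_mul_right hM (memLocalIdeal_mul_right hM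
    ((memLocalIdeal_natCast_iff hM _).2 (dvd_mul_right p c))
    (memLocalRing_natCast_inv hM hwp))
    (memLocalRing_omega hM ξ.2 (isClassFunction_eta (Char.isClassFunction_of_isIrr ξ₀.2))
      (memLocalRing_eta hM (Char.IsIrr.isCharacter ξ₀.2)))

end Cfsg.Agent.BlockThms
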