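import Mathlib
import Cfsg.Agent.BlockThms.Eta
import Cfsg.Agent.Char.Integral

/-!
# Blocks of defect zero

An irreducible character whose degree takes the full p-part of the group order forms a block
by itself and vanishes on the p-singular elements, and conversely.
-/

namespace Cfsg.Agent.BlockThms

open scoped ComplexConjugate
open Cfsg.Agent Cfsg.Agent.Blocks

universe u

variable {G : Type u} [Group G] [Finite G] {p : ℕ} {M : Ideal Cfsg.AlgInt}

theorem blockOf_eq_singleton (hM : Cfsg.IsPModular p M) (χ : Cfsg.IrrCharacter G)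
    (h : ¬ p ∣ Nat.card G / Cfsg.charDegree (χ : G → ℂ)) :
    Cfsg.blockOf M (χ : G → ℂ) = {χ} := by
  classical
  have hχc := Char.IsIrr.isCharacter χ.2
  have hn : (χ : G → ℂ) 1 = (Cfsg.charDegree (χ : G → ℂ) : ℂ) := (charDegree_cast hχc).symm
  obtain ⟨c, hc⟩ := Char.IsIrr.degree_dvd_card χ.2 hn
  have hn0 := charDegree_pos χ.2
  rw [hc, Nat.mul_div_cancel_left _ hn0] at h
  have hA : ∀ g, Cfsg.MemLocalRing M (Cfsg.blockCoeff ({χ} : Set (Cfsg.IrrCharacter G)) g) := by
    intro g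
    have e : Cfsg.blockCoeff ({χ} : Set (Cfsg.IrrCharacter G)) g =
        (c : ℂ)⁻¹ * (χ : G → ℂ) g⁻¹ := by
      have hn' : (Cfsg.charDegree (χ : G → ℂ) : ℂ) ≠ 0 := Nat.cast_ne_zero.2 hn0.ne'
      rw [Cfsg.blockCoeff, finsum_mem_singleton, hc, hn, Char.IsChar.inv_eq_conj hχc g,
        Nat.cast_mul, mul_inv]
      field_simp
    rw [e]
    exact (localRing hM).mul_mem (memLocalRing_natCast_inv hM h) (memLocalRing_char hM hχc _)
  ext ψ
  rw [Set.mem_singleton_iff]
  refine ⟨fun hψ => ?_, fun e => e ▸ mem_blockOf_self hM χ⟩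
  simpa using mem_of_sameBlock_of_memLocalRing hM hA (Set.mem_singleton χ) hψ

theorem eq_zero_of_blockOf_singleton (hM : Cfsg.IsPModular p M) (χ : Cfsg.IrrCharacter G)
    (h : Cfsg.blockOf M (χ : G → ℂ) = {χ}) {y : G} (hy : ¬ Cfsg.IsPRegular p y) :
    (χ : G → ℂ) y = 0 := by
  classical
  have := Fintype.ofFinite G
  have hs := BlockChar.sum_block_degree_mul_eq_zero hM (isPBlock_blockOf χ) hy
  simp only [h, Set.mem_singleton_iff, Finset.sum_ite_eq', Finset.mem_univ, if_true] at hs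
  exact (mul_eq_zero.1 hs).resolve_left (Char.IsIrr.one_ne_zero χ.2)

/-- A character whose codegree is prime to p vanishes at the p-singular elements. -/
theorem eq_zero_of_not_dvd_codegree (hM : Cfsg.IsPModular p M) (χ : Cfsg.IrrCharacter G)
    (h : ¬ p ∣ Nat.card G / Cfsg.charDegree (χ : G → ℂ)) {y : G}
    (hy : ¬ Cfsg.IsPRegular p y) : (χ : G → ℂ) y = 0 :=
  eq_zero_of_blockOf_singleton hM χ (blockOf_eq_singleton hM χ h) hy

theorem blockOf_eq_singleton_iff (hM : Cfsg.IsPModular p M) (χ : Cfsg.IrrCharacter G) :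
    ¬ p ∣ Nat.card G / Cfsg.charDegree (χ : G → ℂ) ↔ Cfsg.blockOf M (χ : G → ℂ) = {χ} := by
  classical
  refine ⟨blockOf_eq_singleton hM χ, fun h => ?_⟩
  have := Fintype.ofFinite G
  have h0 : Cfsg.blockHeight p (Cfsg.blockOf M (χ : G → ℂ)) (χ : G → ℂ) = 0 := by
    refine (blockHeight_eq_zero_iff (mem_blockOf_self hM χ)).2 fun ψ hψ => ?_
    rw [h, Set.mem_singleton_iff] at hψ
    rw [hψ]
  have hu := not_memLocalIdeal_omega_eta hM χ h0
  have hχc := Char.IsIrr.isCharacter χ.2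
  have hn : (χ : G → ℂ) 1 = (Cfsg.charDegree (χ : G → ℂ) : ℂ) := (charDegree_cast hχc).symm
  obtain ⟨c, hc⟩ := Char.IsIrr.degree_dvd_card χ.2 hn
  have hn0 := charDegree_pos χ.2
  rw [hc, Nat.mul_div_cancel_left _ hn0, ← memLocalIdeal_natCast_iff hM]
  have hself := Char.classInner_irr_self χ.2
  rw [Cfsg.classInner, inv_mul_eq_iff_eq_mul₀ Char.card_ne_zero, mul_one, hc] at hself
  have e : omega (χ : G → ℂ) (eta p (χ : G → ℂ)) = (c : ℂ) := by
    rw [omega, div_eq_iff (Char.IsIrr.one_ne_zero χ.2), hn, ← Nat.cast_mul, mul_comm c, ← hself]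
    refine Finset.sum_congr rfl fun x _ => ?_
    by_cases hx : Cfsg.IsPRegular p x
    · rw [eta_of_regular _ hx, mul_comm]
    · rw [eq_zero_of_blockOf_singleton hM χ h hx]; simp
  rwa [e] at hu

end Cfsg.Agent.BlockThms
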