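import Mathlib
import Cfsg.Agent.BlockThms.DefectZero
import Cfsg.Agent.Char.Clifford
import Cfsg.Agent.Char.Linear

/-!
# Blocks and normal subgroups

A class function supported on a normal subgroup takes the same value under the central
character of an irreducible character and of any constituent of its restriction.
-/

set_option autoImplicit false

namespace Cfsg.Agent.BlockThms

open scoped ComplexConjugate
open Cfsg.Agent Cfsg.Agent.Blocks Cfsg.Agent.Char

universe u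

variable {G : Type u} [Group G] [Fintype G] {p : ℕ} {M : Ideal Cfsg.AlgInt}
  {N : Subgroup G} [hN : N.Normal] [Fintype N]

omit hN in
theorem sum_eq_sum_subgroup {F : G → ℂ} (hF : ∀ g, g ∉ N → F g = 0) :
    ∑ g, F g = ∑ n : N, F (n : G) := by
  classical
  rw [← Finset.sum_subset (Finset.subset_univ (Finset.univ.filter (· ∈ N))) fun g _ hg =>
    hF g fun h => hg (Finset.mem_filter.2 ⟨Finset.mem_univ g, h⟩)]
  exact Finset.sum_subtype _ (fun g => by simp) F

theorem omega_res_eq {χ : G → ℂ} (hχ : Cfsg.IsIrrCharacter G χ) {θ : N → ℂ}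
    (hθ : Cfsg.IsIrrCharacter N θ) (hc : Cfsg.classInner (fun n : N => χ n) θ ≠ 0) {f : G → ℂ}
    (hf : Cfsg.IsClassFunction G f) (hf0 : ∀ g, g ∉ N → f g = 0) :
    omega χ f = omega θ (fun n : N => f n) := by
  classical
  set e := Cfsg.classInner (fun n : N => χ n) θ
  have hcl := clifford hχ hθ hc
  have hsum : ∀ ψ ∈ orbit θ, ∑ n : N, f n * ψ n = ∑ n : N, f n * θ n := by
    intro ψ hψ
    obtain ⟨g, rfl⟩ := mem_orbit.1 hψ
    refine Fintype.sum_equiv (MulAut.conjNormal g : MulAut N).toEquiv _ _ fun n => ?_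
    simp only [conjFun_eq_comp, MulEquiv.toEquiv_eq_coe, MulEquiv.coe_toEquiv,
      MulAut.conjNormal_apply, hf (n : G) g]
  have h1 : ∑ g, f g * χ g = (e * (orbit θ).card) * ∑ n : N, f n * θ n := by
    rw [sum_eq_sum_subgroup (N := N) fun g hg => by rw [hf0 g hg, zero_mul]]
    have : ∀ n : N, f n * χ n = e * ∑ ψ ∈ orbit θ, f n * ψ n := fun n => by
      have h := congrFun hcl n
      simp only [Pi.smul_apply, Finset.sum_apply, smul_eq_mul] at h
      rw [h, ← Finset.mul_sum]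
      ring
    simp only [this]
    rw [← Finset.mul_sum, Finset.sum_comm, Finset.sum_congr rfl hsum, Finset.sum_const,
      nsmul_eq_mul, mul_assoc]
  have h2 : χ 1 = (e * (orbit θ).card) * θ 1 := by
    rw [degree_eq_of_clifford hχ hθ hc, card_orbit]
  have h3 : e * ((orbit θ).card : ℂ) ≠ 0 := fun h => IsIrr.one_ne_zero hχ (by rw [h2, h, zero_mul])
  rw [omega, omega, h1, h2, mul_div_mul_left _ _ h3]

omit hN [Fintype N] [Fintype G] in
theorem isClassFunction_extend [hN : N.Normal] {f : N → ℂ} (hf : ∀ g : G, conjFun g f = f) :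
    Cfsg.IsClassFunction G (Cfsg.extendByZero N f) := by
  intro g k
  by_cases hg : g ∈ N
  · rw [extendByZero_of_mem N f (hN.conj_mem g hg k), extendByZero_of_mem N f hg]
    exact congrFun (hf k) ⟨g, hg⟩
  · rw [extendByZero_of_not_mem N f hg, extendByZero_of_not_mem N f fun h => hg (by
      simpa [mul_assoc] using hN.conj_mem _ h k⁻¹)]

omit hN in
theorem omega_classInd_res (ξ : N → ℂ) (g : G) :
    omega ξ (fun n : N => classInd g (n : G)) = Cfsg.inducedCentralChar N ξ g := by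
  classical
  rw [omega, Cfsg.inducedCentralChar, finsum_mem_eq_finite_toFinset_sum _ (Set.toFinite _),
    Finset.sum_div]
  rw [← Finset.sum_subset (Finset.subset_univ _) (fun n _ hn => ?_)]
  · refine Finset.sum_congr rfl fun n hn => ?_
    rw [classInd_apply, if_pos (by simpa using hn), one_mul]
  · rw [classInd_apply, if_neg (by simpa using hn), zero_mul, zero_div]

omit [Fintype G] [Fintype N] in
theorem classInd_eq_zero_of_notMem {n : G} (hn : n ∈ N) (g : G) (hg : g ∉ N) :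
    classInd n g = 0 := by
  classical
  rw [classInd_apply, if_neg]
  intro h
  obtain ⟨c, rfl⟩ := isConj_iff.1 h
  exact hg (hN.conj_mem n hn c)

theorem centralChar_eq_induced {χ : G → ℂ} (hχ : Cfsg.IsIrrCharacter G χ) {θ : N → ℂ}
    (hθ : Cfsg.IsIrrCharacter N θ) (hc : Cfsg.classInner (fun n : N => χ n) θ ≠ 0) {n : G}
    (hn : n ∈ N) : Cfsg.centralChar χ n = Cfsg.inducedCentralChar N θ n := by
  rw [← omega_classInd (isClassFunction_of_isIrr hχ), ← omega_classInd_res,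
    omega_res_eq hχ hθ hc (isClassFunction_classInd n) (classInd_eq_zero_of_notMem hn)]

omit hN in
/-- Agreement of the central characters on the normal subgroup, for class functions supported
there. -/
theorem omega_res_sub_eq_sum [Fintype (ConjClasses G)] {χ : G → ℂ}
    (hχ : Cfsg.IsClassFunction G χ) (θ : N → ℂ) {f : G → ℂ} (hf : Cfsg.IsClassFunction G f) :
    omega χ f - omega θ (fun n : N => f n) = ∑ C : ConjClasses G,
      f C.out * (Cfsg.centralChar χ C.out - Cfsg.inducedCentralChar N θ C.out) := by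
  rw [omega_eq_sum_classes hχ hf, omega_res_eq_sum_classes N θ hf, ← Finset.sum_sub_distrib]
  simp only [mul_sub]

theorem constituent_iff_centralChar (χ : Cfsg.IrrCharacter G) (θ : Cfsg.IrrCharacter N) :
    Cfsg.classInner (fun n : N => (χ : G → ℂ) n) (θ : N → ℂ) ≠ 0 ↔
      ∀ n : N, Cfsg.centralChar (χ : G → ℂ) (n : G) =
        Cfsg.inducedCentralChar N (θ : N → ℂ) (n : G) := by
  classical
  refine ⟨fun h n => centralChar_eq_induced χ.2 θ.2 h n.2, fun h hc => ?_⟩
  set f₁ : N → ℂ := fun n => ∑ k : G, conj (conjFun k (θ : N → ℂ) n) with hf₁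
  have hinv : ∀ g : G, conjFun g f₁ = f₁ := by
    intro g
    funext n
    simp only [hf₁, conjFun_apply]
    refine Fintype.sum_equiv (Equiv.mulRight g) _ _ fun k => ?_
    exact congrArg conj (congrArg (θ : N → ℂ) (Subtype.ext (by simp [mul_assoc])))
  set f := Cfsg.extendByZero N f₁ with hf
  have hfc : Cfsg.IsClassFunction G f := isClassFunction_extend hinv
  have hf0 : ∀ g, g ∉ N → f g = 0 := fun g hg => extendByZero_of_not_mem N f₁ hg
  have : Finite (ConjClasses G) := Quotient.finite _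
  have := Fintype.ofFinite (ConjClasses G)
  have heq : omega (χ : G → ℂ) f = omega (θ : N → ℂ) (fun n : N => f n) := by
    rw [← sub_eq_zero, omega_res_sub_eq_sum (isClassFunction_of_isIrr χ.2) _ hfc]
    refine Finset.sum_eq_zero fun C _ => ?_
    by_cases hC : C.out ∈ N
    · rw [h ⟨_, hC⟩, sub_self, mul_zero]
    · rw [hf0 _ hC, zero_mul]
  have hN0 : (Nat.card N : ℂ) ≠ 0 := card_ne_zero
  have hsum : ∀ ψ : N → ℂ, ∑ n : N, f₁ n * ψ n =
      (Nat.card N : ℂ) * ∑ k : G, Cfsg.classInner ψ (conjFun k (θ : N → ℂ)) := by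
    intro ψ
    simp only [hf₁, Cfsg.classInner, Finset.sum_mul, Finset.mul_sum, ← mul_assoc,
      mul_inv_cancel₀ hN0, one_mul]
    rw [Finset.sum_comm]
    simp only [mul_comm]
  have hl : omega (χ : G → ℂ) f = 0 := by
    rw [omega, sum_eq_sum_subgroup (N := N) fun g hg => by rw [hf0 g hg, zero_mul]]
    simp only [hf, extendByZero_coe]
    rw [hsum, Finset.sum_eq_zero, mul_zero, zero_div]
    intro k _
    rw [← conjFun_res k (isClassFunction_of_isIrr χ.2), classInner_conjFun, hc]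
  have hr : omega (θ : N → ℂ) (fun n : N => f n) ≠ 0 := by
    simp only [omega, hf, extendByZero_coe]
    refine div_ne_zero ?_ (IsIrr.one_ne_zero θ.2)
    rw [hsum]
    refine mul_ne_zero hN0 ?_
    simp only [classInner_irr θ.2 (isIrr_conjFun _ θ.2), ← Finset.natCast_card_filter]
    exact Nat.cast_ne_zero.2 (Finset.card_ne_zero.2
      ⟨1, Finset.mem_filter.2 ⟨Finset.mem_univ _, (conjFun_one _).symm⟩⟩)
  exact hr (heq ▸ hl)

omit [Fintype N] in
theorem classInd_conjFun (g : G) (n : N) :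
    conjFun g (classInd n) = classInd (MulAut.conjNormal g⁻¹ n) := by
  classical
  funext m
  rw [conjFun_eq_comp]
  simp only [classInd_apply]
  refine if_congr ?_ rfl rfl
  set e : MulAut N := MulAut.conjNormal g
  have he : MulAut.conjNormal g⁻¹ n = e.symm n := by rw [map_inv]; rfl
  rw [he]
  constructor
  · intro h
    simpa using (e.symm : N ≃* N).toMonoidHom.map_isConj h
  · intro h
    simpa using (e : N ≃* N).toMonoidHom.map_isConj h

omit [Fintype G] in
theorem omega_conjFun (g : G) (θ f : N → ℂ) :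
    omega (conjFun g θ) f = omega θ (conjFun g⁻¹ f) := by
  rw [omega, omega, conjFun_apply_one]
  congr 1
  refine Fintype.sum_equiv (MulAut.conjNormal g : MulAut N).toEquiv _ _ fun n => ?_
  simp only [conjFun_eq_comp, map_inv, MulEquiv.toEquiv_eq_coe, MulEquiv.coe_toEquiv,
    MulAut.inv_apply, MulEquiv.symm_apply_apply]

theorem sameBlock_conjFun {θ ψ : N → ℂ} (hθ : Cfsg.IsIrrCharacter N θ) (hψ : Cfsg.IsIrrCharacter N ψ)
    (h : Cfsg.SameBlock M θ ψ) (g : G) : Cfsg.SameBlock M (conjFun g θ) (conjFun g ψ) := by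
  intro n
  rw [← omega_classInd (isClassFunction_of_isIrr (isIrr_conjFun g hθ)),
    ← omega_classInd (isClassFunction_of_isIrr (isIrr_conjFun g hψ)), omega_conjFun, omega_conjFun,
    classInd_conjFun, omega_classInd (isClassFunction_of_isIrr hθ),
    omega_classInd (isClassFunction_of_isIrr hψ)]
  exact h _

open scoped Classical in
/-- A central element of the normal subgroup, invariant under the group, that is the sum of
the idempotents of the blocks conjugate to the block of `θ₀`. -/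
theorem exists_orbit_indicator (hM : Cfsg.IsPModular p M) (θ₀ : Cfsg.IrrCharacter N) :
    ∃ f : G → ℂ, Cfsg.IsClassFunction G f ∧ (∀ g, g ∉ N → f g = 0) ∧
      (∀ g, Cfsg.MemLocalRing M (f g)) ∧ ∀ ψ : Cfsg.IrrCharacter N,
        omega (ψ : N → ℂ) (fun n : N => f n) =
          if ∃ g : G, Cfsg.SameBlock M (conjFun g (θ₀ : N → ℂ)) (ψ : N → ℂ) then 1 else 0 := by
  let B : G → Set (Cfsg.IrrCharacter N) :=
    fun g => Cfsg.blockOf M (conjFun g (θ₀ : N → ℂ))
  have hB : ∀ g, Cfsg.IsPBlock M (B g) := fun g => ⟨⟨_, isIrr_conjFun g θ₀.2⟩, rfl⟩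
  have hind : ∀ g, IsLocalCentral (G := N) M fun ψ => if ψ ∈ B g then (1 : ℂ) else 0 := fun g =>
    ⟨_, isClassFunction_blockCoeff (B g), memLocalRing_blockCoeff hM (hB g),
      fun ψ => omega_blockCoeff (B g) ψ⟩
  have h1 : IsLocalCentral (G := N) M fun _ => (1 : ℂ) :=
    IsLocalCentral.const hM (localRing hM).one_mem
  obtain ⟨f₁, hf₁, hf₁R, hf₁o⟩ := h1.sub hM (IsLocalCentral.prod hM Finset.univ
    (Φ := fun (g : G) ψ => 1 - if ψ ∈ B g then (1 : ℂ) else 0) fun g _ => h1.sub hM (hind g))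
  have hval : ∀ ψ : Cfsg.IrrCharacter N, omega (ψ : N → ℂ) f₁ =
      if ∃ g : G, Cfsg.SameBlock M (conjFun g (θ₀ : N → ℂ)) (ψ : N → ℂ) then 1 else 0 := by
    intro ψ
    rw [hf₁o]
    dsimp only
    split_ifs with h
    · obtain ⟨g, hg⟩ := h
      rw [Finset.prod_eq_zero (Finset.mem_univ g), sub_zero]
      rw [if_pos (mem_blockOf.2 hg), sub_self]
    · rw [Finset.prod_eq_one, sub_self]
      intro g _
      rw [if_neg fun hg => h ⟨g, mem_blockOf.1 hg⟩, sub_zero]
  have hinv : ∀ x : G, conjFun x f₁ = f₁ := by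
    intro x
    refine classFun_ext_omega (fun a b => ?_) hf₁ fun ψ => ?_
    · simp only [conjFun_eq_comp, map_mul, map_inv]
      exact hf₁ _ _
    · have e : omega (ψ : N → ℂ) (conjFun x f₁) = omega (conjFun x⁻¹ (ψ : N → ℂ)) f₁ := by
        rw [omega_conjFun, inv_inv]
      rw [e, hval ⟨_, isIrr_conjFun x⁻¹ ψ.2⟩, hval ψ]
      refine if_congr ⟨?_, ?_⟩ rfl rfl
      · rintro ⟨g, hg⟩
        have := sameBlock_conjFun (isIrr_conjFun g θ₀.2) (isIrr_conjFun x⁻¹ ψ.2) hg x
        rw [conjFun_conjFun, conjFun_cancel_inv] at this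
        exact ⟨_, this⟩
      · rintro ⟨g, hg⟩
        have := sameBlock_conjFun (isIrr_conjFun g θ₀.2) ψ.2 hg x⁻¹
        rw [conjFun_conjFun] at this
        exact ⟨_, this⟩
  refine ⟨Cfsg.extendByZero N f₁, isClassFunction_extend hinv,
    fun g hg => extendByZero_of_not_mem N f₁ hg, fun g => ?_, fun ψ => ?_⟩
  · by_cases hg : g ∈ N
    · rw [extendByZero_of_mem N f₁ hg]; exact hf₁R _
    · rw [extendByZero_of_not_mem N f₁ hg]; exact (localRing hM).zero_mem
  · simp only [extendByZero_coe]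
    exact hval ψ

/-- Blocks of constituents of characters in one block are conjugate. -/
theorem exists_conj_sameBlock (hM : Cfsg.IsPModular p M) {χ χ' : Cfsg.IrrCharacter G}
    (h : Cfsg.SameBlock M (χ : G → ℂ) (χ' : G → ℂ)) {θ ψ : Cfsg.IrrCharacter N}
    (hθ : Cfsg.classInner (fun n : N => (χ : G → ℂ) n) (θ : N → ℂ) ≠ 0)
    (hψ : Cfsg.classInner (fun n : N => (χ' : G → ℂ) n) (ψ : N → ℂ) ≠ 0) :
    ∃ g : G, Cfsg.SameBlock M (conjFun g (θ : N → ℂ)) (ψ : N → ℂ) := by
  classical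
  obtain ⟨f, hf, hf0, hfR, hfo⟩ := exists_orbit_indicator hM θ
  have hc := memLocalIdeal_omega_sub hM χ.2 χ'.2 hf hfR h
  rw [omega_res_eq χ.2 θ.2 hθ hf hf0, omega_res_eq χ'.2 ψ.2 hψ hf hf0, hfo, hfo,
    if_pos ⟨1, by rw [conjFun_one]; exact sameBlock_refl hM _⟩] at hc
  by_contra hne
  rw [if_neg hne, sub_zero] at hc
  exact not_memLocalIdeal_one hM hc

theorem covering_orbit (hM : Cfsg.IsPModular p M) {B : Set (Cfsg.IrrCharacter G)}
    (hB : Cfsg.IsPBlock M B) {b : Set (Cfsg.IrrCharacter N)} (hb : Cfsg.IsPBlock M b)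
    {χ : Cfsg.IrrCharacter G} (hχ : χ ∈ B) {θ : Cfsg.IrrCharacter N} (hθ : θ ∈ b)
    (hcon : Cfsg.classInner (fun n : N => (χ : G → ℂ) n) (θ : N → ℂ) ≠ 0)
    {χ' : Cfsg.IrrCharacter G} (hχ' : χ' ∈ B) {ψ : Cfsg.IrrCharacter N}
    (hψ : Cfsg.classInner (fun n : N => (χ' : G → ℂ) n) (ψ : N → ℂ) ≠ 0) :
    ∃ g : G, ∃ θ' ∈ b, ∀ n : N, (ψ : N → ℂ) n =
      ((θ' : Cfsg.IrrCharacter N) : N → ℂ) ⟨g * n * g⁻¹, hN.conj_mem n n.2 g⟩ := by
  obtain ⟨g, hg⟩ := exists_conj_sameBlock hM (IsPBlock.sameBlock hM hB hχ hχ') hcon hψ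
  have := sameBlock_conjFun (isIrr_conjFun g θ.2) ψ.2 hg g⁻¹
  rw [conjFun_inv_cancel] at this
  refine ⟨g, ⟨_, isIrr_conjFun g⁻¹ ψ.2⟩, IsPBlock.mem_of_sameBlock hM hb hθ this, fun n => ?_⟩
  exact (congrFun (conjFun_cancel_inv g (ψ : N → ℂ)) n).symm

theorem covering_iff (hM : Cfsg.IsPModular p M) {B : Set (Cfsg.IrrCharacter G)}
    (hB : Cfsg.IsPBlock M B) {b : Set (Cfsg.IrrCharacter N)} (hb : Cfsg.IsPBlock M b) :
    (∃ χ ∈ B, ∃ θ ∈ b, Cfsg.classInner (fun n : N => ((χ : Cfsg.IrrCharacter G) : G → ℂ) n)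
        ((θ : Cfsg.IrrCharacter N) : N → ℂ) ≠ 0) ↔
      ∀ χ ∈ B, ∀ θ ∈ b, ∀ n : N, Cfsg.MemLocalIdeal M
        (Cfsg.centralChar ((χ : Cfsg.IrrCharacter G) : G → ℂ) (n : G) -
          Cfsg.inducedCentralChar N ((θ : Cfsg.IrrCharacter N) : N → ℂ) (n : G)) := by
  classical
  have hR : ∀ n g : G, Cfsg.MemLocalRing M (classInd n g) := fun n g => by
    rw [classInd_apply]
    split
    · exact (localRing hM).one_mem
    · exact (localRing hM).zero_mem
  constructor
  · rintro ⟨χ₀, hχ₀, θ₀, hθ₀, hc⟩ χ hχ θ hθ n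
    have h1 := memLocalIdeal_omega_sub hM χ.2 χ₀.2 (isClassFunction_classInd (n : G)) (hR _)
      (IsPBlock.sameBlock hM hB hχ hχ₀)
    have h2 := memLocalIdeal_omega_sub hM θ₀.2 θ.2
      (f := fun m : N => classInd (n : G) (m : G))
      (fun a k => isClassFunction_classInd (n : G) (a : G) (k : G)) (fun m => hR _ _)
      (IsPBlock.sameBlock hM hb hθ₀ hθ)
    rw [omega_classInd (isClassFunction_of_isIrr χ.2),
      omega_classInd (isClassFunction_of_isIrr χ₀.2)] at h1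
    rw [omega_classInd_res, omega_classInd_res, ← centralChar_eq_induced χ₀.2 θ₀.2 hc n.2] at h2
    simpa using memLocalIdeal_add hM h1 h2
  · intro h
    obtain ⟨χ, hχ⟩ := IsPBlock.nonempty hM hB
    obtain ⟨θ, hθ⟩ := IsPBlock.nonempty hM hb
    obtain ⟨θ', hθ'⟩ := exists_constituent_res (N := N) χ.2
    obtain ⟨f, hf, hf0, hfR, hfo⟩ := exists_orbit_indicator hM θ
    have : Finite (ConjClasses G) := Quotient.finite _
    have := Fintype.ofFinite (ConjClasses G)
    have hc : Cfsg.MemLocalIdeal M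
        (omega (χ : G → ℂ) f - omega (θ : N → ℂ) (fun n : N => f n)) := by
      rw [omega_res_sub_eq_sum (isClassFunction_of_isIrr χ.2) _ hf]
      refine memLocalIdeal_sum hM _ fun C _ => ?_
      by_cases hC : C.out ∈ N
      · exact memLocalIdeal_mul_left hM (hfR _) (h χ hχ θ hθ ⟨_, hC⟩)
      · rw [hf0 _ hC, zero_mul]; exact memLocalIdeal_zero hM
    have hs : ∃ g : G, Cfsg.SameBlock M (conjFun g (θ : N → ℂ)) (θ : N → ℂ) :=
      ⟨1, by rw [conjFun_one]; exact sameBlock_refl hM _⟩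
    rw [omega_res_eq χ.2 θ'.2 hθ' hf hf0, hfo θ, hfo θ', if_pos hs] at hc
    by_cases he : ∃ g : G, Cfsg.SameBlock M (conjFun g (θ : N → ℂ)) (θ' : N → ℂ)
    · obtain ⟨g, hg⟩ := he
      have := sameBlock_conjFun (isIrr_conjFun g θ.2) θ'.2 hg g⁻¹
      rw [conjFun_inv_cancel] at this
      refine ⟨χ, hχ, ⟨_, isIrr_conjFun g⁻¹ θ'.2⟩, IsPBlock.mem_of_sameBlock hM hb hθ this, ?_⟩
      rw [← conjFun_res g⁻¹ (isClassFunction_of_isIrr χ.2)]
      rwa [classInner_conjFun]
    · rw [if_neg he, zero_sub] at hc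
      exact absurd (by simpa using memLocalIdeal_neg hc) (not_memLocalIdeal_one hM)

omit [Fintype G] [Fintype N] in
theorem mem_of_regular [Finite G] (hp : p.Prime) (hidx : ∃ k : ℕ, N.index = p ^ k) {g : G}
    (hg : Cfsg.IsPRegular p g) : g ∈ N := by
  obtain ⟨k, hk⟩ := hidx
  rw [← QuotientGroup.eq_one_iff, ← orderOf_eq_one_iff]
  have h1 : orderOf (g : G ⧸ N) ∣ orderOf g := orderOf_map_dvd (QuotientGroup.mk' N) g
  have h2 : orderOf (g : G ⧸ N) ∣ p ^ k := hk ▸ orderOf_dvd_natCard _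
  exact Nat.eq_one_of_dvd_coprimes ((hp.coprime_iff_not_dvd.2 hg).pow_left k) h2 h1

theorem sameBlock_of_common (hM : Cfsg.IsPModular p M) (hidx : ∃ k : ℕ, N.index = p ^ k)
    {b : Set (Cfsg.IrrCharacter N)} (hb : Cfsg.IsPBlock M b) {χ ψ : Cfsg.IrrCharacter G}
    {θ θ' : Cfsg.IrrCharacter N} (hθb : θ ∈ b) (hθb' : θ' ∈ b)
    (hθ : Cfsg.classInner (fun n : N => (χ : G → ℂ) n) (θ : N → ℂ) ≠ 0)
    (hθ' : Cfsg.classInner (fun n : N => (ψ : G → ℂ) n) (θ' : N → ℂ) ≠ 0) :
    Cfsg.SameBlock M (χ : G → ℂ) (ψ : G → ℂ) := by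
  classical
  have hB := isPBlock_blockOf (M := M) χ
  set e := Cfsg.blockCoeff (Cfsg.blockOf M (χ : G → ℂ))
  have hec : Cfsg.IsClassFunction G e := isClassFunction_blockCoeff _
  have he0 : ∀ g, g ∉ N → e g = 0 := fun g hg =>
    BlockChar.blockCoeff_eq_zero hM hB fun h => hg (mem_of_regular hM.1 hidx h)
  have h := memLocalIdeal_omega_sub hM θ.2 θ'.2 (f := fun n : N => e n)
    (fun a k => hec (a : G) (k : G)) (fun n => memLocalRing_blockCoeff hM hB _)
    (IsPBlock.sameBlock hM hb hθb hθb')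
  rw [← omega_res_eq χ.2 θ.2 hθ hec he0, ← omega_res_eq ψ.2 θ'.2 hθ' hec he0,
    omega_blockCoeff, omega_blockCoeff, if_pos (mem_blockOf_self hM χ)] at h
  by_contra hne
  rw [if_neg fun hm => hne (mem_blockOf.1 hm), sub_zero] at h
  exact not_memLocalIdeal_one hM h

theorem existsUnique_covering (hM : Cfsg.IsPModular p M) (hidx : ∃ k : ℕ, N.index = p ^ k)
    {b : Set (Cfsg.IrrCharacter N)} (hb : Cfsg.IsPBlock M b) :
    ∃! B : Set (Cfsg.IrrCharacter G), Cfsg.IsPBlock M B ∧ ∃ χ ∈ B, ∃ θ ∈ b,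
      Cfsg.classInner (fun n : N => ((χ : Cfsg.IrrCharacter G) : G → ℂ) n)
        ((θ : Cfsg.IrrCharacter N) : N → ℂ) ≠ 0 := by
  classical
  obtain ⟨θ, hθ⟩ := IsPBlock.nonempty hM hb
  have hne : Cfsg.indFun N (θ : N → ℂ) ≠ 0 := fun h => by
    have h1 := congrFun h 1
    rw [indFun_apply_one, Pi.zero_apply, mul_eq_zero] at h1
    exact h1.elim (fun h2 => Subgroup.index_ne_zero_of_finite (Nat.cast_eq_zero.1 h2))
      (IsIrr.one_ne_zero θ.2)
  obtain ⟨χ, hχ⟩ := IsChar.exists_constituent (isCharacter_indFun N (IsIrr.isCharacter θ.2)) hne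
  have hχθ : Cfsg.classInner (fun n : N => (χ : G → ℂ) n) (θ : N → ℂ) ≠ 0 := by
    rw [classInner_indFun_left N _ (isClassFunction_of_isIrr χ.2)] at hχ
    rw [← classInner_conj_symm, map_ne_zero]
    exact hχ
  refine ⟨Cfsg.blockOf M (χ : G → ℂ),
    ⟨isPBlock_blockOf χ, χ, mem_blockOf_self hM χ, θ, hθ, hχθ⟩, ?_⟩
  rintro B ⟨hB, χ', hχ', θ', hθ', hc⟩
  rw [IsPBlock.eq_blockOf hM hB hχ']
  exact blockOf_eq_of_sameBlock hM (sameBlock_of_common hM hidx hb hθ' hθ hc hχθ)

/-- Over a normal p'-subgroup, characters in the same block have the same constituents. -/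
theorem constituent_iff_of_sameBlock (hM : Cfsg.IsPModular p M) (hNp : ¬ p ∣ Nat.card N)
    {χ ψ : Cfsg.IrrCharacter G} (h : Cfsg.SameBlock M (χ : G → ℂ) (ψ : G → ℂ))
    (θ : Cfsg.IrrCharacter N) :
    Cfsg.classInner (fun n : N => (χ : G → ℂ) n) (θ : N → ℂ) ≠ 0 →
      Cfsg.classInner (fun n : N => (ψ : G → ℂ) n) (θ : N → ℂ) ≠ 0 := by
  intro hθ
  obtain ⟨η, hη⟩ := exists_constituent_res (N := N) ψ.2
  obtain ⟨g, hg⟩ := exists_conj_sameBlock hM h hθ hη
  let θg : Cfsg.IrrCharacter N := ⟨_, isIrr_conjFun g θ.2⟩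
  have hdz : Cfsg.blockOf M (θg : N → ℂ) = {θg} := by
    refine blockOf_eq_singleton hM θg fun hd => hNp (hd.trans ?_)
    obtain ⟨c, hc⟩ := IsIrr.degree_dvd_card θg.2
      (charDegree_cast (IsIrr.isCharacter θg.2)).symm
    rw [hc, Nat.mul_div_cancel_left _ (charDegree_pos θg.2)]
    exact dvd_mul_left _ _
  have he : η = θg := by
    have : η ∈ Cfsg.blockOf M (θg : N → ℂ) := hg
    rwa [hdz, Set.mem_singleton_iff] at this
  rw [he, ← conjFun_res g (isClassFunction_of_isIrr ψ.2)] at hη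
  rwa [classInner_conjFun] at hη

theorem sameBlock_iff_common (hM : Cfsg.IsPModular p M) (hNp : ¬ p ∣ Nat.card N)
    (hidx : ∃ k : ℕ, N.index = p ^ k) (χ ψ : Cfsg.IrrCharacter G) :
    Cfsg.SameBlock M (χ : G → ℂ) (ψ : G → ℂ) ↔ ∃ θ : Cfsg.IrrCharacter N,
      Cfsg.classInner (fun n : N => (χ : G → ℂ) n) (θ : N → ℂ) ≠ 0 ∧
        Cfsg.classInner (fun n : N => (ψ : G → ℂ) n) (θ : N → ℂ) ≠ 0 := by
  constructor
  · intro h
    obtain ⟨θ, hθ⟩ := exists_constituent_res (N := N) χ.2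
    exact ⟨θ, hθ, constituent_iff_of_sameBlock hM hNp h θ hθ⟩
  · rintro ⟨θ, h1, h2⟩
    exact sameBlock_of_common hM hidx (isPBlock_blockOf θ) (mem_blockOf_self hM θ)
      (mem_blockOf_self hM θ) h1 h2

theorem triv_constituent_iff {χ : G → ℂ} (hχ : Cfsg.IsIrrCharacter G χ) :
    Cfsg.classInner (fun n : N => χ n) (fun _ => 1) ≠ 0 ↔ ∀ n ∈ N, χ n = χ 1 := by
  classical
  constructor
  · intro h n hn
    have hcl := clifford hχ isIrrCharacter_one h
    have hsum : ∀ m : N, (∑ ψ ∈ orbit (fun _ : N => (1 : ℂ)), ψ) m =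
        ((orbit (fun _ : N => (1 : ℂ))).card : ℂ) := fun m => by
      rw [Finset.sum_apply, Finset.sum_congr rfl (g := fun _ => (1 : ℂ)), Finset.sum_const,
        nsmul_eq_mul, mul_one]
      intro ψ hψ
      obtain ⟨g, rfl⟩ := mem_orbit.1 hψ
      rfl
    have h1 := congrFun hcl ⟨n, hn⟩
    have h2 := congrFun hcl 1
    simp only [Pi.smul_apply, hsum, OneMemClass.coe_one] at h1 h2
    exact h1.trans h2.symm
  · intro h
    have : Cfsg.classInner (fun n : N => χ n) (fun _ => 1) = χ 1 := by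
      rw [Cfsg.classInner]
      simp only [map_one, mul_one, fun n : N => h n n.2, Finset.sum_const, Finset.card_univ,
        nsmul_eq_mul, ← Nat.card_eq_fintype_card]
      rw [← mul_assoc, inv_mul_cancel₀ card_ne_zero, one_mul]
    rw [this]
    exact IsIrr.one_ne_zero hχ

/-- Characters in the block of one that is trivial on a normal p'-subgroup are trivial there. -/
theorem trivial_on_of_sameBlock (hM : Cfsg.IsPModular p M) (hNp : ¬ p ∣ Nat.card N)
    {χ ψ : Cfsg.IrrCharacter G} (h : Cfsg.SameBlock M (χ : G → ℂ) (ψ : G → ℂ))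
    (hχ : ∀ n ∈ N, (χ : G → ℂ) n = (χ : G → ℂ) 1) : ∀ n ∈ N, (ψ : G → ℂ) n = (ψ : G → ℂ) 1 :=
  (triv_constituent_iff ψ.2).1
    (constituent_iff_of_sameBlock hM hNp h (triv N) ((triv_constituent_iff χ.2).2 hχ))

end Cfsg.Agent.BlockThms
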