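import Mathlib
import Cfsg.Agent.BlockThms.Normal
import Cfsg.Agent.Core.PCore
import Cfsg.Agent.Layer.PConstraint

/-!
# Block kernels, inflation, and normal p-subgroups
-/

set_option autoImplicit false

namespace Cfsg.Agent.BlockThms

open scoped ComplexConjugate
open Cfsg.Agent Cfsg.Agent.Blocks Cfsg.Agent.Char

universe u

variable {G : Type u} [Group G] {p : ℕ} {M : Ideal Cfsg.AlgInt}

theorem exists_blockKer [Finite G] (hM : Cfsg.IsPModular p M)
    {B : Set (Cfsg.IrrCharacter G)} (hB : Cfsg.IsPBlock M B) {χ : Cfsg.IrrCharacter G}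
    (hχ : χ ∈ B) : ∃ K : Subgroup G, K.Normal ∧ (K : Set G) = Cfsg.blockKer B ∧
      ¬ p ∣ Nat.card K ∧ (∀ g ∈ K, (χ : G → ℂ) g = (χ : G → ℂ) 1) ∧
      ∀ N : Subgroup G, N.Normal → ¬ p ∣ Nat.card N →
        (∀ g ∈ N, (χ : G → ℂ) g = (χ : G → ℂ) 1) → N ≤ K := by
  classical
  have := Fintype.ofFinite G
  have := Fact.mk hM.1
  let K : Subgroup G := ⨅ ψ : B, kerSubgroup (IsIrr.isCharacter ψ.1.2)
  have hK : ∀ g, g ∈ K ↔ g ∈ Cfsg.blockKer B := fun g => by
    simp only [K, Subgroup.mem_iInf, mem_kerSubgroup, Cfsg.blockKer, Set.mem_ofPred_eq]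
    exact ⟨fun h ψ hψ => h ⟨ψ, hψ⟩, fun h ψ => h ψ.1 ψ.2⟩
  refine ⟨K, Subgroup.normal_iInf_normal fun ψ => inferInstance, Set.ext fun g => hK g, ?_,
    fun g hg => (hK g).1 hg χ hχ, fun N hN hNp hχN g hg => (hK g).2 fun ψ hψ => ?_⟩
  · intro hd
    obtain ⟨⟨y, hy⟩, hyo⟩ := exists_prime_orderOf_dvd_card' p hd
    rw [Subgroup.orderOf_mk] at hyo
    have hs := BlockChar.sum_block_degree_mul_eq_zero hM hB
      (show ¬ Cfsg.IsPRegular p y from fun h => h (hyo ▸ dvd_rfl))
    have hterm : ∀ ψ : Cfsg.IrrCharacter G,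
        (if ψ ∈ B then (ψ : G → ℂ) 1 * (ψ : G → ℂ) y else 0) =
          ((if ψ ∈ B then Cfsg.charDegree (ψ : G → ℂ) ^ 2 else 0 : ℕ) : ℂ) := fun ψ => by
      split_ifs with h
      · rw [(hK y).1 hy ψ h, ← charDegree_cast (IsIrr.isCharacter ψ.2)]
        push_cast
        ring
      · simp
    simp only [hterm, ← Nat.cast_sum, Nat.cast_eq_zero, Finset.sum_eq_zero_iff] at hs
    have := hs χ (Finset.mem_univ χ)
    rw [if_pos hχ, pow_eq_zero_iff (two_ne_zero)] at this
    exact (charDegree_pos χ.2).ne' this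
  · have := hN
    have : Fintype N := Fintype.ofFinite _
    exact trivial_on_of_sameBlock hM hNp (IsPBlock.sameBlock hM hB hχ hψ) hχN g hg

theorem principalBlock_eq_of_normal_complement [Finite G] (hM : Cfsg.IsPModular p M)
    (N : Subgroup G) [N.Normal] (hNp : ¬ p ∣ Nat.card N) (hidx : ∃ k : ℕ, N.index = p ^ k) :
    Cfsg.principalBlock M G =
      {χ : Cfsg.IrrCharacter G | ∀ n ∈ N, (χ : G → ℂ) n = (χ : G → ℂ) 1} := by
  classical
  have := Fintype.ofFinite G
  have : Fintype N := Fintype.ofFinite _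
  ext χ
  constructor
  · exact fun h => trivial_on_of_sameBlock hM hNp (χ := triv G) h fun n _ => rfl
  · intro h
    exact sameBlock_of_common hM hidx (isPBlock_blockOf (triv N)) (mem_blockOf_self hM (triv N))
      (mem_blockOf_self hM (triv N)) (χ := triv G)
      ((triv_constituent_iff (triv G).2).2 fun n _ => rfl) ((triv_constituent_iff χ.2).2 h)

variable (N : Subgroup G) [N.Normal]

/-- The image of a function in the group algebra of the quotient. -/
noncomputable def push [Fintype G] (f : G → ℂ) : G ⧸ N → ℂ :=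
  open Classical in fun q => ∑ g : G, if (g : G ⧸ N) = q then f g else 0

theorem isClassFunction_push [Fintype G] {f : G → ℂ} (hf : Cfsg.IsClassFunction G f) :
    Cfsg.IsClassFunction (G ⧸ N) (push N f) := by
  classical
  intro q k
  obtain ⟨x, rfl⟩ := QuotientGroup.mk_surjective k
  simp only [push]
  refine Fintype.sum_equiv (MulAut.conj x⁻¹).toEquiv _ _ fun g => ?_
  simp only [MulEquiv.toEquiv_eq_coe, MulEquiv.coe_toEquiv, MulAut.conj_apply, inv_inv]
  have h1 : f (x⁻¹ * g * x) = f g := by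
    have := hf g x⁻¹
    rwa [inv_inv] at this
  rw [h1]
  refine if_congr ⟨fun h => ?_, fun h => ?_⟩ rfl rfl
  · rw [QuotientGroup.mk_mul, QuotientGroup.mk_mul, h, QuotientGroup.mk_inv]; group
  · rw [QuotientGroup.mk_mul, QuotientGroup.mk_mul, QuotientGroup.mk_inv] at h
    rw [← h]; group

omit [N.Normal] in
theorem memLocalRing_push [Fintype G] (hM : Cfsg.IsPModular p M) {f : G → ℂ}
    (hf : ∀ g, Cfsg.MemLocalRing M (f g)) (q : G ⧸ N) : Cfsg.MemLocalRing M (push N f q) :=
  (localRing hM).sum_mem fun g _ => by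
    split
    · exact hf g
    · exact (localRing hM).zero_mem

theorem omega_comp_mk [Fintype G] [Fintype (G ⧸ N)] (φ : G ⧸ N → ℂ) (f : G → ℂ) :
    omega (fun g : G => φ g) f = omega φ (push N f) := by
  classical
  rw [omega, omega, QuotientGroup.mk_one]
  congr 1
  simp only [push, Finset.sum_mul, ite_mul, zero_mul]
  rw [Finset.sum_comm]
  simp

theorem sameBlock_comp_mk [Finite G] (hM : Cfsg.IsPModular p M)
    (χ ψ : Cfsg.IrrCharacter (G ⧸ N))
    (h : Cfsg.SameBlock M (χ : G ⧸ N → ℂ) (ψ : G ⧸ N → ℂ)) :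
    Cfsg.SameBlock M ((χ : G ⧸ N → ℂ) ∘ QuotientGroup.mk)
      ((ψ : G ⧸ N → ℂ) ∘ QuotientGroup.mk) := by
  classical
  have := Fintype.ofFinite G
  have := Fintype.ofFinite (G ⧸ N)
  intro g
  show Cfsg.MemLocalIdeal M (Cfsg.centralChar (fun x : G => (χ : G ⧸ N → ℂ) x) g -
    Cfsg.centralChar (fun x : G => (ψ : G ⧸ N → ℂ) x) g)
  rw [← omega_classInd (isClassFunction_of_isIrr (isIrrCharacter_mk N χ.2)),
    ← omega_classInd (isClassFunction_of_isIrr (isIrrCharacter_mk N ψ.2)), omega_comp_mk,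
    omega_comp_mk]
  refine memLocalIdeal_omega_sub hM χ.2 ψ.2 (isClassFunction_push N (isClassFunction_classInd g))
    (memLocalRing_push N hM fun x => ?_) h
  rw [classInd_apply]
  split
  · exact (localRing hM).one_mem
  · exact (localRing hM).zero_mem

theorem exists_inflated [Finite G] (hM : Cfsg.IsPModular p M) (hNp : ¬ p ∣ Nat.card N)
    (χ : Cfsg.IrrCharacter (G ⧸ N)) (ψ : Cfsg.IrrCharacter G)
    (hψ : ψ ∈ Cfsg.blockOf M ((χ : G ⧸ N → ℂ) ∘ QuotientGroup.mk)) :
    ∃ ψ' : Cfsg.IrrCharacter (G ⧸ N),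
      (ψ : G → ℂ) = (ψ' : G ⧸ N → ℂ) ∘ QuotientGroup.mk ∧
        Cfsg.SameBlock M (χ : G ⧸ N → ℂ) (ψ' : G ⧸ N → ℂ) := by
  classical
  have := Fintype.ofFinite G
  have := Fintype.ofFinite (G ⧸ N)
  have : Fintype N := Fintype.ofFinite _
  let χ₀ : Cfsg.IrrCharacter G := ⟨_, isIrrCharacter_mk N χ.2⟩
  have hψ' : Cfsg.SameBlock M (χ₀ : G → ℂ) (ψ : G → ℂ) := hψ
  have htriv := trivial_on_of_sameBlock hM hNp hψ' fun n hn => by
    show (χ : G ⧸ N → ℂ) (n : G ⧸ N) = (χ : G ⧸ N → ℂ) ((1 : G) : G ⧸ N)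
    rw [(QuotientGroup.eq_one_iff n).2 hn]; rfl
  obtain ⟨φ, hφ, he⟩ := IsIrr.exists_quotient N ψ.2 htriv
  refine ⟨⟨φ, hφ⟩, funext he, fun q => ?_⟩
  have hn0 : (Nat.card N : ℂ) ≠ 0 := card_ne_zero
  set f : G → ℂ := fun g => classInd q (g : G ⧸ N) with hf
  have hpush : ∀ r, push N f r = (Nat.card N : ℂ) * classInd q r := by
    intro r
    obtain ⟨x, rfl⟩ := QuotientGroup.mk_surjective r
    simp only [push, ← Finset.sum_filter]
    rw [Finset.sum_congr rfl (g := fun _ => classInd q (x : G ⧸ N)) (fun g hg => by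
      rw [hf]; exact congrArg (classInd q) (Finset.mem_filter.1 hg).2), Finset.sum_const,
      nsmul_eq_mul]
    congr 2
    rw [← Fintype.card_subtype, ← Nat.card_eq_fintype_card]
    exact Nat.card_congr
      { toFun := fun g => ⟨x⁻¹ * g.1, by
          have := g.2.symm
          rwa [QuotientGroup.eq] at this⟩
        invFun := fun n => ⟨x * n.1, (QuotientGroup.eq.2 (by simp)).symm⟩
        left_inv := fun g => Subtype.ext (by simp)
        right_inv := fun n => Subtype.ext (by simp) }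
  have hv : ∀ η : Cfsg.IrrCharacter (G ⧸ N), omega (fun g : G => (η : G ⧸ N → ℂ) g) f =
      (Nat.card N : ℂ) * Cfsg.centralChar (η : G ⧸ N → ℂ) q := fun η => by
    rw [omega_comp_mk, ← omega_classInd (isClassFunction_of_isIrr η.2), ← omega_smul]
    exact congrArg _ (funext hpush)
  have h := memLocalIdeal_omega_sub hM χ₀.2 ψ.2 (f := f)
    (fun a k => by
      simp only [hf, QuotientGroup.mk_mul, QuotientGroup.mk_inv]
      exact isClassFunction_classInd q _ _)
    (fun g => by
      simp only [hf, classInd_apply]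
      split
      · exact (localRing hM).one_mem
      · exact (localRing hM).zero_mem) hψ'
  rw [show (ψ : G → ℂ) = fun g : G => φ (g : G ⧸ N) from funext he,
    show (χ₀ : G → ℂ) = fun g : G => (χ : G ⧸ N → ℂ) g from rfl, hv χ, hv ⟨φ, hφ⟩, ← mul_sub] at h
  exact (memLocalIdeal_of_mul hM (memLocalRing_natCast hM _) ((localRing hM).sub_mem
    (memLocalRing_centralChar hM χ.2 q) (memLocalRing_centralChar hM hφ q)) h).resolve_left
      fun h' => hNp ((memLocalIdeal_natCast_iff hM _).1 h')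

/-- Every block has a member that is trivial on a given normal p-subgroup. -/
theorem exists_mem_trivial_on [Finite G] (hM : Cfsg.IsPModular p M) (hP : IsPGroup p N)
    {B : Set (Cfsg.IrrCharacter G)} (hB : Cfsg.IsPBlock M B) :
    ∃ θ ∈ B, ∀ n ∈ N, ((θ : Cfsg.IrrCharacter G) : G → ℂ) n = (θ : G → ℂ) 1 := by
  classical
  have := Fintype.ofFinite G
  have : Fintype N := Fintype.ofFinite _
  have := Fact.mk hM.1
  set e := Cfsg.blockCoeff B with he
  have hsum : ∑ u : N, e (u : G) = e 1 := by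
    rw [Finset.sum_eq_single (1 : N)]
    · rfl
    · intro u _ hu
      refine BlockChar.blockCoeff_eq_zero hM hB fun hreg => hreg ?_
      obtain ⟨k, hk⟩ := (IsPGroup.iff_orderOf.1 hP) u
      rw [Subgroup.orderOf_coe, hk]
      rcases Nat.eq_zero_or_pos k with rfl | hk0
      · rw [pow_zero, orderOf_eq_one_iff] at hk
        exact absurd hk hu
      · exact dvd_pow_self p hk0.ne'
    · simp
  by_contra hne
  have h0 : ∀ χ ∈ B, ∑ u : N, conj (((χ : Cfsg.IrrCharacter G) : G → ℂ) (u : G)) = 0 := by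
    intro χ hχ
    have h := Classical.not_not.1
      (mt (triv_constituent_iff (N := N) χ.2).1 fun h => hne ⟨χ, hχ, h⟩)
    rw [Cfsg.classInner, mul_eq_zero, inv_eq_zero] at h
    have h' := h.resolve_left card_ne_zero
    simp only [map_one, mul_one] at h'
    rw [← map_sum, h', map_zero]
  have h1 : e 1 = 0 := by
    rw [← hsum, he]
    simp only [blockCoeff_eq_sum B]
    rw [← Finset.mul_sum, Finset.sum_comm, Finset.sum_eq_zero, mul_zero]
    intro χ _
    by_cases hχ : χ ∈ B
    · simp only [if_pos hχ, ← Finset.mul_sum, h0 χ hχ, mul_zero]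
    · simp [hχ]
  obtain ⟨χ, hχ⟩ := IsPBlock.nonempty hM hB
  rw [he, blockCoeff_eq_sum B, mul_eq_zero, inv_eq_zero] at h1
  have h2 := h1.resolve_left card_ne_zero
  have hterm : ∀ ψ : Cfsg.IrrCharacter G,
      (if ψ ∈ B then (ψ : G → ℂ) 1 * conj ((ψ : G → ℂ) 1) else 0) =
        ((if ψ ∈ B then Cfsg.charDegree (ψ : G → ℂ) ^ 2 else 0 : ℕ) : ℂ) := fun ψ => by
    rw [← charDegree_cast (IsIrr.isCharacter ψ.2), Complex.conj_natCast]
    split_ifs
    · push_cast; ring
    · simp
  simp only [hterm, ← Nat.cast_sum, Nat.cast_eq_zero, Finset.sum_eq_zero_iff] at h2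
  have := h2 χ (Finset.mem_univ χ)
  rw [if_pos hχ, pow_eq_zero_iff two_ne_zero] at this
  exact (charDegree_pos χ.2).ne' this

theorem sameBlock_quotient_iff [Finite G] (hM : Cfsg.IsPModular p M) (hP : IsPGroup p N)
    (hC : ∃ k : ℕ, (Subgroup.centralizer (N : Set G)).index = p ^ k)
    (χ ψ : Cfsg.IrrCharacter (G ⧸ N)) :
    Cfsg.SameBlock M (χ : G ⧸ N → ℂ) (ψ : G ⧸ N → ℂ) ↔
      Cfsg.SameBlock M ((χ : G ⧸ N → ℂ) ∘ QuotientGroup.mk)
        ((ψ : G ⧸ N → ℂ) ∘ QuotientGroup.mk) := by
  classical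
  refine ⟨sameBlock_comp_mk N hM χ ψ, fun h => ?_⟩
  have := Fintype.ofFinite G
  have := Fintype.ofFinite (G ⧸ N)
  have := Fact.mk hM.1
  have hp := hM.1
  set C := Cfsg.blockOf M (χ : G ⧸ N → ℂ)
  have hCb : Cfsg.IsPBlock M C := isPBlock_blockOf χ
  set e := Cfsg.blockCoeff C with he
  set f : G → ℂ := fun g => if Cfsg.IsPRegular p g then e (g : G ⧸ N) else 0 with hf
  have hcen : ∀ {g : G}, Cfsg.IsPRegular p g → g ∈ Subgroup.centralizer (N : Set G) :=
    fun hg => mem_of_regular hp hC hg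
  have hpush : push N f = e := by
    funext q
    simp only [push]
    by_cases hq : Cfsg.IsPRegular p q
    · obtain ⟨g₀, rfl⟩ := QuotientGroup.mk_surjective q
      set g := pPrimePartOf p g₀
      have hg : Cfsg.IsPRegular p g := not_dvd_orderOf_pPrimePartOf hp g₀
      have hgq : (g : G ⧸ N) = g₀ := by
        have hmul := congrArg (QuotientGroup.mk (s := N)) (pPartOf_mul_pPrimePartOf hp g₀)
        rw [QuotientGroup.mk_mul] at hmul
        have hparts := parts_mul hp (u := ((pPartOf p g₀ : G) : G ⧸ N)) (s := (g : G ⧸ N))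
          ((commute_pPartOf_pPrimePartOf g₀).map (QuotientGroup.mk' N))
          (by
            obtain ⟨k, hk⟩ := orderOf_pPartOf hp g₀
            obtain ⟨j, -, hj⟩ := (Nat.dvd_prime_pow hp).1
              (hk ▸ orderOf_map_dvd (QuotientGroup.mk' N) (pPartOf p g₀))
            exact ⟨j, hj⟩)
          (fun hd => hg (hd.trans (orderOf_map_dvd (QuotientGroup.mk' N) g)))
        rw [hmul] at hparts
        rw [← hparts.2]
        rw [(pPartOf_eq_one_iff hp _).2 hq] at hparts
        rw [← hparts.1, one_mul] at hmul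
        exact hparts.2.trans hmul
      rw [Finset.sum_eq_single g]
      · simp only [hf, if_pos hg, hgq, if_true]
      · intro x _ hx
        split_ifs with hxq
        · simp only [hf]
          rw [if_neg]
          intro hxr
          refine hx ?_
          rw [← hgq] at hxq
          have hu : g⁻¹ * x ∈ N := by rw [← QuotientGroup.eq]; exact hxq.symm
          have hcomm : Commute (g⁻¹ * x) g :=
            Subgroup.mem_centralizer_iff.1 (hcen hg) _ hu
          obtain ⟨k, hk⟩ := (IsPGroup.iff_orderOf.1 hP) ⟨_, hu⟩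
          rw [Subgroup.orderOf_mk] at hk
          have hpp := parts_mul hp hcomm ⟨k, hk⟩ hg
          rw [hcomm.eq, mul_inv_cancel_left] at hpp
          rw [← hpp.1.symm.trans ((pPartOf_eq_one_iff hp x).2 hxr) |> inv_mul_eq_one.1]
        · rfl
      · simp
    · rw [he, BlockChar.blockCoeff_eq_zero hM hCb hq]
      refine Finset.sum_eq_zero fun x _ => ?_
      split_ifs with hxq
      · simp only [hf]
        rw [if_neg fun hx => hq ?_]
        rw [← hxq]
        exact fun hd => hx (hd.trans (orderOf_map_dvd (QuotientGroup.mk' N) x))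
      · rfl
  have hfc : Cfsg.IsClassFunction G f := by
    intro g k
    simp only [hf, QuotientGroup.mk_mul, QuotientGroup.mk_inv]
    rw [he, isClassFunction_blockCoeff C _ _]
    exact if_congr ⟨fun h => BlockChar.isPRegular_of_isConj (isConj_iff.2 ⟨k, rfl⟩).symm h,
      fun h => BlockChar.isPRegular_of_isConj (isConj_iff.2 ⟨k, rfl⟩) h⟩ rfl rfl
  have hfR : ∀ g, Cfsg.MemLocalRing M (f g) := fun g => by
    simp only [hf]
    split
    · exact memLocalRing_blockCoeff hM hCb _
    · exact (localRing hM).zero_mem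
  have hd := memLocalIdeal_omega_sub hM (χ := fun g : G => (χ : G ⧸ N → ℂ) g)
    (ψ := fun g : G => (ψ : G ⧸ N → ℂ) g) (isIrrCharacter_mk N χ.2) (isIrrCharacter_mk N ψ.2)
    hfc hfR h
  rw [omega_comp_mk, omega_comp_mk, hpush, he, omega_blockCoeff, omega_blockCoeff,
    if_pos (mem_blockOf_self hM χ)] at hd
  by_contra hne
  rw [if_neg fun hm => hne (mem_blockOf.1 hm), sub_zero] at hd
  exact not_memLocalIdeal_one hM hd

/-- A class outside the centralizer of a normal p-subgroup has central character values in the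
local ideal. -/
theorem memLocalIdeal_centralChar_of_notMem [Finite G] (hM : Cfsg.IsPModular p M)
    (hP : IsPGroup p N) (χ : Cfsg.IrrCharacter G) {g : G}
    (hg : g ∉ Subgroup.centralizer (N : Set G)) :
    Cfsg.MemLocalIdeal M (Cfsg.centralChar (χ : G → ℂ) g) := by
  classical
  have := Fintype.ofFinite G
  have := Fintype.ofFinite (G ⧸ N)
  have : Fintype N := Fintype.ofFinite _
  have := Fact.mk hM.1
  obtain ⟨θ, hθ, hθN⟩ := exists_mem_trivial_on N hM hP (isPBlock_blockOf (M := M) χ)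
  obtain ⟨φ, hφ, he⟩ := IsIrr.exists_quotient N θ.2 hθN
  suffices h : Cfsg.MemLocalIdeal M (Cfsg.centralChar (θ : G → ℂ) g) by
    simpa using memLocalIdeal_add hM h (mem_blockOf.1 hθ g)
  have : Finite (ConjClasses (G ⧸ N)) := Quotient.finite _
  have := Fintype.ofFinite (ConjClasses (G ⧸ N))
  rw [show (θ : G → ℂ) = fun x : G => φ (x : G ⧸ N) from funext he,
    ← omega_classInd (isClassFunction_of_isIrr (isIrrCharacter_mk N hφ)), omega_comp_mk,
    omega_eq_sum_classes (isClassFunction_of_isIrr hφ)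
      (isClassFunction_push N (isClassFunction_classInd g))]
  refine memLocalIdeal_sum hM _ fun q _ => memLocalIdeal_mul_right hM ?_
    (memLocalRing_centralChar hM hφ _)
  generalize q.out = r
  simp only [push, classInd_apply, ← ite_and, ← Finset.natCast_card_filter]
  rw [memLocalIdeal_natCast_iff hM, ← Fintype.card_subtype, ← Nat.card_eq_fintype_card]
  let S := {x : G // (x : G ⧸ N) = r ∧ IsConj g x}
  let act : MulAction N S :=
    { smul := fun u x => ⟨(u : G) * x.1 * (u : G)⁻¹, by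
        rw [QuotientGroup.mk_mul, QuotientGroup.mk_mul, QuotientGroup.mk_inv,
          (QuotientGroup.eq_one_iff (u : G)).2 u.2, one_mul, inv_one, mul_one]
        exact x.2.1, x.2.2.trans (isConj_iff.2 ⟨(u : G), rfl⟩)⟩
      one_smul := fun x => Subtype.ext (by
        show ((1 : N) : G) * x.1 * ((1 : N) : G)⁻¹ = x.1
        simp)
      mul_smul := fun u v x => Subtype.ext (by
        show ((u * v : N) : G) * x.1 * ((u * v : N) : G)⁻¹ = _
        simp only [Subgroup.coe_mul, mul_inv_rev]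
        show _ = (u : G) * ((v : G) * x.1 * (v : G)⁻¹) * (u : G)⁻¹
        group) }
  have hempty : IsEmpty (MulAction.fixedPoints N S) := by
    refine ⟨fun ⟨x, hx⟩ => hg ?_⟩
    obtain ⟨c, hc⟩ := isConj_iff.1 x.2.2.symm
    rw [← hc]
    refine (inferInstance : (Subgroup.centralizer (N : Set G)).Normal).conj_mem _ ?_ c
    rw [Subgroup.mem_centralizer_iff]
    intro u hu
    have := congrArg Subtype.val (hx ⟨u, hu⟩)
    exact mul_inv_eq_iff_eq_mul.1 this
  have hmod := hP.card_modEq_card_fixedPoints S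
  rw [Nat.card_of_isEmpty (α := MulAction.fixedPoints N S)] at hmod
  exact Nat.modEq_zero_iff_dvd.1 hmod

theorem sameBlock_of_pCoreSelfCentral [Finite G] (hM : Cfsg.IsPModular p M)
    (hsc : Layer.PCoreSelfCentral p G) (χ ψ : Cfsg.IrrCharacter G) :
    Cfsg.SameBlock M (χ : G → ℂ) (ψ : G → ℂ) := by
  classical
  have := Fintype.ofFinite G
  have := Fact.mk hM.1
  have : Finite (ConjClasses G) := Quotient.finite _
  have := Fintype.ofFinite (ConjClasses G)
  have hB := isPBlock_blockOf (M := M) χ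
  have h : Cfsg.MemLocalIdeal M
      (omega (χ : G → ℂ) (Cfsg.blockCoeff (Cfsg.blockOf M (χ : G → ℂ))) -
        omega (ψ : G → ℂ) (Cfsg.blockCoeff (Cfsg.blockOf M (χ : G → ℂ)))) := by
    rw [omega_eq_sum_classes (isClassFunction_of_isIrr χ.2) (isClassFunction_blockCoeff _),
      omega_eq_sum_classes (isClassFunction_of_isIrr ψ.2) (isClassFunction_blockCoeff _),
      ← Finset.sum_sub_distrib]
    refine memLocalIdeal_sum hM _ fun C _ => ?_
    rw [← mul_sub]
    by_cases hr : Cfsg.IsPRegular p C.out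
    · refine memLocalIdeal_mul_left hM (memLocalRing_blockCoeff hM hB _) ?_
      by_cases h1 : C.out = 1
      · rw [h1]
        simp only [Cfsg.centralChar]
        rw [mul_div_cancel_right₀ _ (IsIrr.one_ne_zero χ.2),
          mul_div_cancel_right₀ _ (IsIrr.one_ne_zero ψ.2), sub_self]
        exact memLocalIdeal_zero hM
      · have hnot : C.out ∉ Subgroup.centralizer (Cfsg.pCore p G : Set G) := by
          intro hc
          have hpg : IsPGroup p (Cfsg.pCore p G) := Core.pCore_isPGroup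
          obtain ⟨k, hk⟩ := (IsPGroup.iff_orderOf.1 hpg) ⟨_, hsc hc⟩
          rw [Subgroup.orderOf_mk] at hk
          rcases Nat.eq_zero_or_pos k with rfl | hk0
          · exact h1 (orderOf_eq_one_iff.1 (by rw [hk, pow_zero]))
          · exact hr (hk ▸ dvd_pow_self p hk0.ne')
        exact memLocalIdeal_sub hM
          (memLocalIdeal_centralChar_of_notMem _ hM Core.pCore_isPGroup χ hnot)
          (memLocalIdeal_centralChar_of_notMem _ hM Core.pCore_isPGroup ψ hnot)
    · rw [BlockChar.blockCoeff_eq_zero hM hB hr, zero_mul]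
      exact memLocalIdeal_zero hM
  rw [omega_blockCoeff, omega_blockCoeff, if_pos (mem_blockOf_self hM χ)] at h
  by_contra hne
  rw [if_neg fun hm => hne (mem_blockOf.1 hm), sub_zero] at h
  exact not_memLocalIdeal_one hM h

end Cfsg.Agent.BlockThms
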