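import Cfsg.Agent.BlockThms.Omega
import Mathlib.GroupTheory.Sylow
import Mathlib.GroupTheory.GroupAction.ConjAct
import Mathlib.Data.ZMod.Basic
import Mathlib.Algebra.Field.ZMod

/-!
# The Brauer map on integer valued class functions, and defect witnesses for central characters
-/

namespace Cfsg.Agent.BlockThms

open Cfsg.Agent.Char

universe u

variable {G : Type u} [Group G]

/-- The subgroup of `G` formed by a Sylow subgroup of the centraliser of an element. -/
theorem exists_sylow_centralizer [Finite G] (p : ℕ) [Fact p.Prime] (x : G) :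
    ∃ S : Subgroup G, S ≤ Subgroup.centralizer ({x} : Set G) ∧ IsPGroup p S ∧
      Nat.card S = p ^ (Nat.card (Subgroup.centralizer ({x} : Set G))).factorization p := by
  obtain ⟨T⟩ : Nonempty (Sylow p (Subgroup.centralizer ({x} : Set G))) := inferInstance
  refine ⟨(T : Subgroup _).map (Subgroup.centralizer ({x} : Set G)).subtype,
    Subgroup.map_subtype_le _, T.2.map _, ?_⟩
  rw [Subgroup.card_map_of_injective (Subgroup.subtype_injective _), Sylow.card_eq_multiplicity]

theorem mem_centralizer_of_le {S : Subgroup G} {x : G}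
    (h : S ≤ Subgroup.centralizer ({x} : Set G)) : x ∈ Subgroup.centralizer (S : Set G) :=
  Subgroup.mem_centralizer_iff.2 fun _ hs => Subgroup.mem_centralizer_singleton_iff.1 (h hs)

theorem centralizer_conj_mem {x c s : G} (h : s ∈ Subgroup.centralizer ({x} : Set G)) :
    c * s * c⁻¹ ∈ Subgroup.centralizer ({c * x * c⁻¹} : Set G) := by
  rw [Subgroup.mem_centralizer_singleton_iff] at h ⊢
  calc c * s * c⁻¹ * (c * x * c⁻¹) = c * (s * x) * c⁻¹ := by group
    _ = c * x * c⁻¹ * (c * s * c⁻¹) := by rw [h]; group

theorem card_centralizer_conj (x c : G) :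
    Nat.card (Subgroup.centralizer ({c * x * c⁻¹} : Set G)) =
      Nat.card (Subgroup.centralizer ({x} : Set G)) := by
  have h : Subgroup.centralizer ({c * x * c⁻¹} : Set G) =
      (Subgroup.centralizer ({x} : Set G)).map (MulAut.conj c).toMonoidHom := by
    ext s
    constructor
    · intro hs
      refine ⟨c⁻¹ * s * c, ?_, ?_⟩
      · have := centralizer_conj_mem (c := c⁻¹) hs
        rw [show c⁻¹ * (c * x * c⁻¹) * c⁻¹⁻¹ = x by group] at this
        simpa using this
      · simp only [MulEquiv.coe_toMonoidHom, MulAut.conj_apply]; group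
    · rintro ⟨t, ht, rfl⟩
      exact centralizer_conj_mem ht
  rw [h, Subgroup.card_map_of_injective (MulAut.conj c).injective]

/-- For a `p`-group acting on a finite type and a function with values in `ZMod p` constant on
orbits, the sum reduces to the fixed points. -/
theorem sum_eq_sum_fixed {P α : Type*} [Group P] [MulAction P α] [Fintype α] (p : ℕ) [Fact p.Prime]
    (hP : IsPGroup p P) (φ : α → ZMod p) (hφ : ∀ (g : P) (a : α), φ (g • a) = φ a)
    [DecidablePred (· ∈ MulAction.fixedPoints P α)] :
    ∑ a, φ a = ∑ a ∈ Finset.univ.filter (· ∈ MulAction.fixedPoints P α), φ a := by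
  classical
  rw [← Finset.sum_fiberwise Finset.univ φ, ← Finset.sum_fiberwise (Finset.univ.filter _) φ]
  refine Finset.sum_congr rfl fun v _ => ?_
  rw [Finset.sum_congr rfl (fun a ha => (Finset.mem_filter.1 ha).2),
    Finset.sum_congr rfl (fun a ha => (Finset.mem_filter.1 ha).2), Finset.sum_const,
    Finset.sum_const]
  letI : MulAction P {a : α // φ a = v} :=
    { smul := fun g a => ⟨g • a.1, (hφ g a.1).trans a.2⟩
      one_smul := fun a => Subtype.ext (one_smul P a.1)
      mul_smul := fun g h a => Subtype.ext (mul_smul g h a.1) }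
  have h := hP.card_modEq_card_fixedPoints {a : α // φ a = v}
  rw [← ZMod.natCast_eq_natCast_iff] at h
  have e1 : Nat.card {a : α // φ a = v} = (Finset.univ.filter fun a => φ a = v).card := by
    rw [Nat.card_eq_fintype_card, Fintype.card_subtype]
  have e2 : Nat.card (MulAction.fixedPoints P {a : α // φ a = v}) =
      ((Finset.univ.filter (· ∈ MulAction.fixedPoints P α)).filter fun a => φ a = v).card := by
    rw [Finset.filter_filter, ← Fintype.card_subtype, ← Nat.card_eq_fintype_card]
    exact Nat.card_congr
      { toFun := fun a => ⟨a.1.1, fun g => congrArg Subtype.val (a.2 g), a.1.2⟩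
        invFun := fun a => ⟨⟨a.1, a.2.2⟩, fun g => Subtype.ext (a.2.1 g)⟩
        left_inv := fun _ => rfl
        right_inv := fun _ => rfl }
  rw [e1, e2] at h
  rw [nsmul_eq_mul, nsmul_eq_mul, h]

/-- The Brauer map is multiplicative: modulo `p`, a product of class functions at an element
centralising the `p`-subgroup `P` only involves the values on the centraliser of `P`. -/
theorem conv_congr [Fintype G] (p : ℕ) [Fact p.Prime] {P : Subgroup G} (hP : IsPGroup p P)
    {z w : G → ℤ} (hz : IsClass z) (hw : IsClass w) {x : G}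
    (hx : x ∈ Subgroup.centralizer (P : Set G))
    [DecidablePred (· ∈ Subgroup.centralizer (P : Set G))] :
    ((conv z w x : ℤ) : ZMod p) =
      ∑ a ∈ Finset.univ.filter (· ∈ Subgroup.centralizer (P : Set G)),
        (z a : ZMod p) * (w (a⁻¹ * x) : ZMod p) := by
  classical
  letI : MulAction P G := MulAction.compHom G ((MulAut.conj : G →* MulAut G).comp P.subtype)
  have hs : ∀ (g : P) (a : G), g • a = (g : G) * a * (g : G)⁻¹ := fun g a => rfl
  have hfix : ∀ a, a ∈ MulAction.fixedPoints P G ↔ a ∈ Subgroup.centralizer (P : Set G) := by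
    intro a
    rw [Subgroup.mem_centralizer_iff]
    constructor
    · intro h g hg
      have := h ⟨g, hg⟩
      rw [hs] at this
      exact mul_inv_eq_iff_eq_mul.1 this
    · intro h g
      rw [hs, h g.1 g.2, mul_inv_cancel_right]
  have h := sum_eq_sum_fixed p hP (fun a => (z a : ZMod p) * (w (a⁻¹ * x) : ZMod p)) (fun g a => by
    rw [hs, hz, show ((g : G) * a * (g : G)⁻¹)⁻¹ * x = (g : G) * (a⁻¹ * ((g : G)⁻¹ * x * g)) * (g : G)⁻¹ by group,
      show (g : G)⁻¹ * x * g = x by
        rw [mul_assoc, ← Subgroup.mem_centralizer_iff.1 hx g g.2, inv_mul_cancel_left], hw])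
  rw [Finset.filter_congr fun a _ => hfix a] at h
  rw [conv]
  push_cast
  exact h

/-- For a central character of a block there is an element `g` with a Sylow `p`-subgroup `P` of
its centraliser, with central character value nonzero modulo `M`, such that the central character
modulo `M` factors through the Brauer map at `P`. -/
theorem exists_defect_witness [Fintype G] {p : ℕ} [Fact p.Prime] {M : Ideal AlgInt}
    (hM : IsPModular p M) {χ : G → ℂ} (hχ : IsIrrCharacter G χ) :
    ∃ (g : G) (P : Subgroup G), P ≤ Subgroup.centralizer ({g} : Set G) ∧ IsPGroup p P ∧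
      Nat.card P = p ^ (Nat.card (Subgroup.centralizer ({g} : Set G))).factorization p ∧
      ¬ InIdeal M (centralChar χ g) ∧
      (∀ x : G, ¬ InIdeal M (centralChar χ x) →
        (Nat.card (Subgroup.centralizer ({g} : Set G))).factorization p ≤
          (Nat.card (Subgroup.centralizer ({x} : Set G))).factorization p) ∧
      ∀ z : G → ℤ, IsClass z → (∀ x ∈ Subgroup.centralizer (P : Set G), (p : ℤ) ∣ z x) →
        InIdeal M (omegaZ χ z) := by
  classical
  set d : G → ℕ := fun x => (Nat.card (Subgroup.centralizer ({x} : Set G))).factorization p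
  have hex : ∃ n, ∃ g, ¬ InIdeal M (centralChar χ g) ∧ d g = n := by
    refine ⟨d 1, 1, ?_, rfl⟩
    rw [centralChar, show (Subgroup.centralizer ({(1 : G)} : Set G)) = ⊤ by
      rw [Subgroup.eq_top_iff']; intro y; simp [Subgroup.mem_centralizer_singleton_iff],
      Subgroup.index_top, Nat.cast_one, one_mul, div_self (IsIrr.one_ne_zero hχ)]
    exact not_inIdeal_one hM
  obtain ⟨g, hg, hdg⟩ := Nat.find_spec hex
  have hmin : ∀ x, ¬ InIdeal M (centralChar χ x) → d g ≤ d x := fun x hx =>
    hdg ▸ Nat.find_le ⟨x, hx, rfl⟩
  obtain ⟨P, hPle, hP, hPcard⟩ := exists_sylow_centralizer p g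
  refine ⟨g, P, hPle, hP, hPcard, hg, hmin, fun z hz hzP => ?_⟩
  have hy : InIdeal M (omegaZ χ (conv (classInd g) z)) := by
    have : Finite (ConjClasses G) := Quotient.finite _
    have := Fintype.ofFinite (ConjClasses G)
    rw [omegaZ_eq_sum hχ ((isClass_classInd g).conv hz)]
    refine InIdeal.sum fun C _ => ?_
    set x := C.out
    by_cases hdvd : (p : ℤ) ∣ conv (classInd g) z x
    · exact (inIdeal_intCast_of_dvd hM hdvd).mul_right (centralCharacter_isIntegral hχ x)
    refine InIdeal.mul_left (isIntegral_intCast _) (by_contra fun hx => hdvd ?_)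
    have hle : d g ≤ d x := hmin x hx
    obtain ⟨S, hSle, hS, hScard⟩ := exists_sylow_centralizer p x
    have h1 := conv_congr p hS (isClass_classInd g) hz (mem_centralizer_of_le hSle)
    rw [← ZMod.intCast_zmod_eq_zero_iff_dvd, h1]
    by_contra hne
    obtain ⟨a, ha, hane⟩ := Finset.exists_ne_zero_of_sum_ne_zero hne
    have hga : IsConj g a := by
      by_contra hnc
      exact hane (by rw [show classInd g a = 0 from if_neg hnc]; simp)
    have haS : a ∈ Subgroup.centralizer (S : Set G) := (Finset.mem_filter.1 ha).2
    obtain ⟨c, hc⟩ := isConj_iff.1 hga.symm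
    -- the conjugate of S by c is a Sylow subgroup of the centraliser of g
    set C' := Subgroup.centralizer ({g} : Set G)
    have hS' : S.map (MulAut.conj c).toMonoidHom ≤ C' := by
      rintro _ ⟨s, hs, rfl⟩
      show c * s * c⁻¹ ∈ _
      rw [show C' = Subgroup.centralizer ({c * a * c⁻¹} : Set G) by rw [hc]]
      exact centralizer_conj_mem (Subgroup.mem_centralizer_singleton_iff.2
        (Subgroup.mem_centralizer_iff.1 haS s hs))
    obtain ⟨T, hT⟩ := (hP.comap_of_injective C'.subtype (Subgroup.subtype_injective _)).exists_le_sylow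
    obtain ⟨T', hT'⟩ := ((hS.map (MulAut.conj c).toMonoidHom).comap_of_injective C'.subtype (Subgroup.subtype_injective _)).exists_le_sylow
    have hTeq : (T : Subgroup C').map C'.subtype = P := by
      symm
      apply Subgroup.eq_of_le_of_card_ge
      · rw [← Subgroup.map_comap_eq_self (f := C'.subtype) (H := P) (by simpa using hPle)]
        exact Subgroup.map_mono hT
      · rw [Subgroup.card_map_of_injective (Subgroup.subtype_injective _),
          Sylow.card_eq_multiplicity, hPcard]
    have hT'eq : (T' : Subgroup C').map C'.subtype = S.map (MulAut.conj c).toMonoidHom := by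
      symm
      apply Subgroup.eq_of_le_of_card_ge
      · rw [← Subgroup.map_comap_eq_self (f := C'.subtype) (H := S.map (MulAut.conj c).toMonoidHom) (by simpa using hS')]
        exact Subgroup.map_mono hT'
      · rw [Subgroup.card_map_of_injective (Subgroup.subtype_injective _),
          Sylow.card_eq_multiplicity, Subgroup.card_map_of_injective (MulAut.conj c).injective,
          hScard]
        exact Nat.pow_le_pow_right (Fact.out : p.Prime).pos hle
    obtain ⟨e, he⟩ := MulAction.exists_smul_eq C' T' T
    set k := (e : G) * c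
    have hSk : ∀ v : G, v ∈ P → k⁻¹ * v * k ∈ S := by
      intro v hv
      rw [← hTeq] at hv
      obtain ⟨t, ht, rfl⟩ := hv
      rw [← he] at ht
      obtain ⟨t', ht', rfl⟩ := ht
      have h2 : (t' : G) ∈ S.map (MulAut.conj c).toMonoidHom := hT'eq ▸ ⟨t', ht', rfl⟩
      obtain ⟨s, hs, hse⟩ := h2
      have : k⁻¹ * ((e : G) * t' * (e : G)⁻¹) * k = s := by
        rw [← hse]; simp only [k, MulEquiv.coe_toMonoidHom, MulAut.conj_apply]; group
      exact this ▸ hs
    have hxP : k * x * k⁻¹ ∈ Subgroup.centralizer (P : Set G) := by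
      rw [Subgroup.mem_centralizer_iff]
      intro v hv
      have := Subgroup.mem_centralizer_singleton_iff.1 (hSle (hSk v hv))
      calc v * (k * x * k⁻¹) = k * (k⁻¹ * v * k * x) * k⁻¹ := by group
        _ = k * x * k⁻¹ * v := by rw [this]; group
    apply hne
    rw [← h1, ← ((isClass_classInd g).conv hz) x k, conv_congr p hP (isClass_classInd g) hz hxP]
    refine Finset.sum_eq_zero fun b hb => ?_
    rw [(ZMod.intCast_zmod_eq_zero_iff_dvd _ p).2 (hzP _
      ((Subgroup.centralizer (P : Set G)).mul_mem (inv_mem (Finset.mem_filter.1 hb).2) hxP)), mul_zero]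
  rw [omegaZ_conv hχ (isClass_classInd g) hz, omegaZ_classInd χ (isClassFunction_of_isIrr hχ)] at hy
  exact (InIdeal.of_mul hM (centralCharacter_isIntegral hχ g) (isIntegral_omegaZ hχ hz) hy).resolve_left hg

end Cfsg.Agent.BlockThms
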