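import Mathlib
import Cfsg.Agent.Blocks.SecondMain
import Cfsg.Agent.Blocks.PPart
import Cfsg.Agent.BlockThms.Eta
import Cfsg.Agent.BrauerPairs.Basic

/-!
# The second main theorem in idempotent form
-/

set_option autoImplicit false

namespace Cfsg.Agent.BlockThms

open scoped ComplexConjugate
open Cfsg.Agent Cfsg.Agent.Blocks

universe u

/-- Translating by a central element of the group algebra. -/
theorem sum_mul_char_mul {K : Type u} [Group K] [Fintype K] {ψ : K → ℂ}
    (hψ : Cfsg.IsIrrCharacter K ψ) {f : K → ℂ} (hf : Cfsg.IsClassFunction K f) (x : K) :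
    ∑ k, f k * ψ (k * x) = Blocks.omega ψ f * ψ x := by
  obtain ⟨n, ρ, hρ, rfl⟩ := hψ
  have h := congrArg (fun T : Module.End ℂ (Fin n → ℂ) =>
    LinearMap.trace ℂ (Fin n → ℂ) (T * ρ x)) (Blocks.sum_smul_rep_eq_omega ρ hρ hf)
  simpa [Finset.sum_mul, map_sum, ← map_mul, Representation.character,
    ← Module.End.one_eq_id] using h

variable {G : Type u} [Group G] [Fintype G] {p : ℕ} {M : Ideal Cfsg.AlgInt}

/-- The second main theorem in idempotent form. -/
theorem sum_blockCoeff_mul_char_eq_zero (hM : Cfsg.IsPModular p M) {H : Subgroup G} [Fintype H]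
    {b : Set (Cfsg.IrrCharacter H)} {B : Set (Cfsg.IrrCharacter G)}
    (hind : Cfsg.IsInducedBlock M H b B) (h : H)
    (hC : Subgroup.centralizer ({(Blocks.pPartOf p h : H).1} : Set G) ≤ H)
    {χ : Cfsg.IrrCharacter G} (hχ : χ ∉ B) :
    ∑ k : H, Cfsg.blockCoeff b k * (χ : G → ℂ) ((k : G) * (h : G)) = 0 := by
  classical
  set z := Blocks.pPartOf p h with hzdef
  set y₀ := Blocks.pPrimePartOf p h with hydef
  set C := Subgroup.centralizer ({(z : G)} : Set G) with hCdef
  set D := C.subgroupOf H with hDdef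
  have : Fintype C := Fintype.ofFinite _
  have : Fintype D := Fintype.ofFinite _
  let e : D ≃* C := Subgroup.subgroupOfEquivOfLe hC
  have he : ∀ c : D, ((e c : C) : G) = ((c : H) : G) := fun _ => rfl
  have hzk : ∃ k, orderOf z = p ^ k := Blocks.orderOf_pPartOf hM.1 h
  have hzk' : ∃ k, orderOf (z : G) = p ^ k := by rwa [Subgroup.orderOf_coe]
  have hmemC : ∀ a : G, a ∈ C ↔ (z : G) * a = a * (z : G) := fun a => by
    rw [hCdef, Subgroup.mem_centralizer_singleton_iff, eq_comm]
  have hmemD : ∀ a : H, a ∈ D ↔ z * a = a * z := fun a => by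
    rw [hDdef, Subgroup.mem_subgroupOf, hmemC, Subtype.ext_iff]; rfl
  let y : D := ⟨y₀, (hmemD _).2 (Blocks.commute_pPartOf_pPrimePartOf h).eq⟩
  have hy : ¬ p ∣ orderOf y := by
    rw [← Subgroup.orderOf_coe]
    exact Blocks.not_dvd_orderOf_pPrimePartOf hM.1 h
  have hzy : z * (y : H) = h := Blocks.pPartOf_mul_pPrimePartOf hM.1 h
  set m : Cfsg.IrrCharacter H → ℂ := fun ψ =>
    Cfsg.classInner (fun a : H => (χ : G → ℂ) (a : G)) (ψ : H → ℂ) with hm
  set S := (Set.toFinite b).toFinset with hS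
  have hres : ∀ a : H, (χ : G → ℂ) (a : G) = ∑ ψ, m ψ * (ψ : H → ℂ) a := fun a => by
    have := congrFun (Char.classFun_expansion
      (Blocks.isClassFunction_res H (Char.isClassFunction_of_isIrr χ.2))) a
    simpa [hm] using this
  set F : H → ℂ := fun a => ∑ k : H, Cfsg.blockCoeff b k * (χ : G → ℂ) ((k * a : H) : G) with hF
  have hFeq : ∀ a, F a = ∑ ψ ∈ S, m ψ * (ψ : H → ℂ) a := fun a => by
    simp only [hF, hres, Finset.mul_sum]
    rw [Finset.sum_comm]
    have : ∀ ψ : Cfsg.IrrCharacter H,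
        ∑ k, Cfsg.blockCoeff b k * (m ψ * (ψ : H → ℂ) (k * a)) =
          if ψ ∈ b then m ψ * (ψ : H → ℂ) a else 0 := fun ψ => by
      rw [Finset.sum_congr rfl (g := fun k => m ψ * (Cfsg.blockCoeff b k * (ψ : H → ℂ) (k * a)))
        (fun k _ => by ring), ← Finset.mul_sum,
        sum_mul_char_mul ψ.2 (Blocks.isClassFunction_blockCoeff b), Blocks.omega_blockCoeff]
      split_ifs <;> simp
    rw [Finset.sum_congr rfl fun ψ _ => this ψ, ← Finset.sum_filter]
    exact Finset.sum_congr (by ext; simp [hS]) fun _ _ => rfl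
  -- every block of the centralizer contributes nothing
  have key : ∀ β : Set (Cfsg.IrrCharacter D), Cfsg.IsPBlock M β →
      Cfsg.blockPart β (fun c : D => F (z * (c : H))) y = 0 := by
    intro β hβ
    rw [Blocks.blockPart_eq_kernel]
    simp only [hFeq]
    set W : D → ℂ := fun c => ∑ᶠ φ ∈ β, (φ : D → ℂ) y * conj ((φ : D → ℂ) c) with hW
    set T : Cfsg.IrrCharacter H → ℂ := fun ψ => ∑ c : D, (ψ : H → ℂ) (z * (c : H)) * W c with hT
    suffices hsum : ∑ ψ ∈ S, m ψ * T ψ = 0 by
      convert mul_zero ((Nat.card D : ℂ)⁻¹) using 2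
      rw [← hsum, hT]
      simp only [Finset.sum_mul, Finset.mul_sum]
      rw [Finset.sum_comm]
      exact Finset.sum_congr rfl fun _ _ => Finset.sum_congr rfl fun _ _ => by rw [hW]; ring
    have hT0 : ∀ ψ : Cfsg.IrrCharacter H,
        ¬ Cfsg.IsInducedBlock M D β (Cfsg.blockOf M (ψ : H → ℂ)) → T ψ = 0 := fun ψ hn =>
      Blocks.sum_section_kernel_eq_zero hM hzk hmemD (Blocks.isPBlock_blockOf ψ)
        (Blocks.mem_blockOf_self hM ψ) hβ hn hy
    by_cases hind' : Cfsg.IsInducedBlock M D β b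
    swap
    · refine Finset.sum_eq_zero fun ψ hψ => ?_
      rw [hT0 ψ, mul_zero]
      rw [← Blocks.IsPBlock.eq_blockOf hM hind.1 ((Set.toFinite b).mem_toFinset.1 hψ)]
      exact hind'
    obtain ⟨φ₀, hφ₀⟩ := Blocks.IsPBlock.nonempty hM hβ
    obtain ⟨ψ₀, hψ₀⟩ := Blocks.IsPBlock.nonempty hM hind.1
    obtain ⟨χ₀, hχ₀⟩ := Blocks.IsPBlock.nonempty hM hind.2.1
    -- blocks other than `b` are not induced from `β`
    have hout : ∀ ψ, ψ ∉ b → T ψ = 0 := fun ψ hψ => hT0 ψ fun hn => hψ <|
      Blocks.IsPBlock.mem_of_sameBlock hM hind.1 hψ₀ fun g => by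
        have := Blocks.memLocalIdeal_sub hM
          (hn.2.2 φ₀ hφ₀ ψ (Blocks.mem_blockOf_self hM ψ) g) (hind'.2.2 φ₀ hφ₀ ψ₀ hψ₀ g)
        simpa using this
    have hall : ∑ ψ ∈ S, m ψ * T ψ = ∑ ψ, m ψ * T ψ :=
      Finset.sum_subset (Finset.subset_univ _) fun ψ _ hψ => by
        rw [hout ψ fun h => hψ ((Set.toFinite b).mem_toFinset.2 h), mul_zero]
    rw [hall]
    -- and the character of `G` contributes nothing
    have hnot : ¬ Cfsg.IsInducedBlock M C (BrauerPairs.mapBlock e β)
        (Cfsg.blockOf M (χ : G → ℂ)) := by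
      intro hn
      have hφ' : BrauerPairs.compIrr e.symm φ₀ ∈ BrauerPairs.mapBlock e β := by
        show BrauerPairs.compIrr e (BrauerPairs.compIrr e.symm φ₀) ∈ β
        convert hφ₀ using 1
        exact Subtype.ext (funext fun a => by simp [BrauerPairs.compIrr_apply])
      refine hχ (Blocks.IsPBlock.mem_of_sameBlock hM hind.2.1 hχ₀ fun g => ?_)
      have h1 := hn.2.2 _ hφ' χ (Blocks.mem_blockOf_self hM χ) g
      have h2 := memLocalIdeal_omega_res_sub hM D (Char.isClassFunction_of_isIrr ψ₀.2)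
        (Blocks.isClassFunction_res H (Blocks.isClassFunction_classInd g))
        (fun a => Blocks.memLocalRing_classInd hM g (a : G)) (hind'.2.2 φ₀ hφ₀ ψ₀ hψ₀)
      have h3 := memLocalIdeal_omega_res_sub hM H (Char.isClassFunction_of_isIrr χ₀.2)
        (Blocks.isClassFunction_classInd g) (fun a => Blocks.memLocalRing_classInd hM g a)
        (hind.2.2 ψ₀ hψ₀ χ₀ hχ₀)
      rw [Blocks.omega_classInd (Char.isClassFunction_of_isIrr χ₀.2)] at h3
      have e1 : Cfsg.inducedCentralChar C (BrauerPairs.compIrr e.symm φ₀ : C → ℂ) g =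
          Blocks.omega (φ₀ : D → ℂ) fun c : D => Blocks.classInd g ((c : H) : G) := by
        rw [Blocks.inducedCentralChar_eq_omega, Blocks.omega, Blocks.omega,
          BrauerPairs.compIrr_apply, map_one]
        congr 1
        refine (Fintype.sum_equiv e.toEquiv _ _ fun c => ?_).symm
        simp [BrauerPairs.compIrr_apply, he]
      rw [e1] at h1
      have := Blocks.memLocalIdeal_sub hM h1 (Blocks.memLocalIdeal_add hM h2 h3)
      simpa using this
    have h0 := Blocks.sum_section_kernel_eq_zero hM hzk' hmemC (Blocks.isPBlock_blockOf χ)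
      (Blocks.mem_blockOf_self hM χ) (BrauerPairs.isPBlock_mapBlock e hβ) hnot (y := e y)
      (by rwa [MulEquiv.orderOf_eq])
    rw [← h0]
    simp only [hT, Finset.mul_sum]
    rw [Finset.sum_comm]
    refine Fintype.sum_equiv e.toEquiv _ _ fun c => ?_
    rw [show ((e.toEquiv c : C) : G) = ((c : H) : G) from rfl,
      ← Subgroup.coe_mul H z (c : H), hres, Finset.sum_mul]
    refine Finset.sum_congr rfl fun ψ _ => ?_
    have hWeq : ∑ᶠ φ ∈ BrauerPairs.mapBlock e β,
        (φ : C → ℂ) (e y) * conj ((φ : C → ℂ) (e c)) = W c := by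
      rw [hW]
      refine finsum_mem_eq_of_bijOn (BrauerPairs.compIrr e)
        ⟨fun φ hφ => hφ, (BrauerPairs.compIrrEquiv e).injective.injOn,
          fun φ hφ => ⟨BrauerPairs.compIrr e.symm φ, ?_, ?_⟩⟩ fun φ _ => ?_
      · show BrauerPairs.compIrr e (BrauerPairs.compIrr e.symm φ) ∈ β
        convert hφ using 1
        exact Subtype.ext (funext fun a => by simp [BrauerPairs.compIrr_apply])
      · exact Subtype.ext (funext fun a => by simp [BrauerPairs.compIrr_apply])
      · simp [BrauerPairs.compIrr_apply]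
    rw [show e.toEquiv c = e c from rfl, hWeq]
    ring
  -- sum over the blocks
  have hFc : Cfsg.IsClassFunction D fun c : D => F (z * (c : H)) := by
    intro c k
    simp only [hFeq]
    refine Finset.sum_congr rfl fun ψ _ => ?_
    congr 1
    rw [← Char.isClassFunction_of_isIrr ψ.2 (z * (c : H)) (k : H)]
    congr 1
    simp only [Subgroup.coe_mul, Subgroup.coe_inv]
    rw [← mul_assoc (k : H), ← (hmemD (k : H)).1 k.2]
    group
  have hexp := congrFun (Char.classFun_expansion hFc) y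
  simp only [Finset.sum_apply, Pi.smul_apply, smul_eq_mul] at hexp
  have hF0 : F h = 0 := by
    rw [← hzy]
    rw [hexp, ← Finset.sum_fiberwise Finset.univ
      (fun φ : Cfsg.IrrCharacter D => Cfsg.blockOf M (φ : D → ℂ))]
    refine Finset.sum_eq_zero fun β _ => ?_
    by_cases hβ : Cfsg.IsPBlock M β
    · rw [← key β hβ, Cfsg.blockPart, finsum_mem_eq_finite_toFinset_sum _ (Set.toFinite β)]
      refine Finset.sum_congr ?_ fun φ _ => ?_
      · ext φ
        simp only [Finset.mem_filter, Finset.mem_univ, true_and, Set.Finite.mem_toFinset]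
        exact ⟨fun h => h ▸ Blocks.mem_blockOf_self hM φ,
          fun h => (Blocks.IsPBlock.eq_blockOf hM hβ h).symm⟩
      · congr
        exact Subsingleton.elim _ _
    · refine Finset.sum_eq_zero fun φ hφ => ?_
      exact absurd ((Finset.mem_filter.1 hφ).2 ▸ Blocks.isPBlock_blockOf φ) hβ
  rw [← hF0, hF]
  rfl

end Cfsg.Agent.BlockThms
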