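import Cfsg.Agent.Char.Integral
import Cfsg.Prelude.Def_Blocks

/-!
# Central characters on integer-valued class functions; congruences modulo an ideal of the
algebraic integers
-/

namespace Cfsg.Agent.BlockThms

open scoped ComplexConjugate
open Cfsg.Agent.Char

universe u

/-! ### Membership of a complex number in an ideal of the algebraic integers -/

/-- The complex number `z` is an algebraic integer lying in `M`. -/
def InIdeal (M : Ideal AlgInt) (z : ℂ) : Prop := ∃ a : AlgInt, a ∈ M ∧ (a : ℂ) = z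

section InIdeal

variable {M : Ideal AlgInt} {z w : ℂ} {p : ℕ}

theorem isIntegral_intCast (a : ℤ) : IsIntegral ℤ (a : ℂ) := by
  simpa using (isIntegral_algebraMap (A := ℂ) (x := a))

theorem isIntegral_natCast (a : ℕ) : IsIntegral ℤ (a : ℂ) := by
  simpa using isIntegral_intCast (a : ℤ)

theorem InIdeal.zero : InIdeal M 0 := ⟨0, M.zero_mem, rfl⟩

theorem InIdeal.isIntegral (h : InIdeal M z) : IsIntegral ℤ z := by
  obtain ⟨a, -, rfl⟩ := h
  exact a.2

theorem InIdeal.add (hz : InIdeal M z) (hw : InIdeal M w) : InIdeal M (z + w) := by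
  obtain ⟨a, ha, rfl⟩ := hz
  obtain ⟨b, hb, rfl⟩ := hw
  exact ⟨a + b, M.add_mem ha hb, rfl⟩

theorem InIdeal.neg (hz : InIdeal M z) : InIdeal M (-z) := by
  obtain ⟨a, ha, rfl⟩ := hz
  exact ⟨-a, M.neg_mem ha, rfl⟩

theorem InIdeal.sub (hz : InIdeal M z) (hw : InIdeal M w) : InIdeal M (z - w) := by
  rw [sub_eq_add_neg]; exact hz.add hw.neg

theorem InIdeal.mul_right (hz : InIdeal M z) (hw : IsIntegral ℤ w) : InIdeal M (z * w) := by
  obtain ⟨a, ha, rfl⟩ := hz
  exact ⟨a * ⟨w, hw⟩, M.mul_mem_right _ ha, rfl⟩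

theorem InIdeal.mul_left (hz : IsIntegral ℤ z) (hw : InIdeal M w) : InIdeal M (z * w) := by
  rw [mul_comm]; exact hw.mul_right hz

theorem InIdeal.sum {ι : Type*} {s : Finset ι} {f : ι → ℂ} (h : ∀ i ∈ s, InIdeal M (f i)) :
    InIdeal M (∑ i ∈ s, f i) := by
  classical
  induction s using Finset.induction with
  | empty => simpa using InIdeal.zero
  | insert i s hi ih =>
    rw [Finset.sum_insert hi]
    exact (h i (Finset.mem_insert_self _ _)).add (ih fun j hj => h j (Finset.mem_insert_of_mem hj))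

theorem inIdeal_natCast_p (hM : IsPModular p M) : InIdeal M (p : ℂ) :=
  ⟨(p : AlgInt), hM.2.2, by simp⟩

theorem inIdeal_natCast_of_dvd (hM : IsPModular p M) {n : ℕ} (h : p ∣ n) : InIdeal M (n : ℂ) := by
  obtain ⟨c, rfl⟩ := h
  rw [Nat.cast_mul]
  exact (inIdeal_natCast_p hM).mul_right (isIntegral_natCast c)

theorem inIdeal_intCast_of_dvd (hM : IsPModular p M) {n : ℤ} (h : (p : ℤ) ∣ n) :
    InIdeal M (n : ℂ) := by
  obtain ⟨c, rfl⟩ := h
  push_cast
  exact (inIdeal_natCast_p hM).mul_right (isIntegral_intCast c)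

theorem not_inIdeal_one (hM : IsPModular p M) : ¬ InIdeal M 1 := by
  rintro ⟨a, ha, h1⟩
  exact hM.2.1.ne_top ((Ideal.eq_top_iff_one M).2
    (by rwa [show a = 1 from Subtype.ext h1] at ha))

theorem InIdeal.of_mul (hM : IsPModular p M) (hz : IsIntegral ℤ z) (hw : IsIntegral ℤ w)
    (h : InIdeal M (z * w)) : InIdeal M z ∨ InIdeal M w := by
  obtain ⟨a, ha, hae⟩ := h
  have e : a = (⟨z, hz⟩ : AlgInt) * ⟨w, hw⟩ := Subtype.ext hae
  rcases hM.2.1.isPrime.mem_or_mem (e ▸ ha) with h | h
  · exact Or.inl ⟨_, h, rfl⟩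
  · exact Or.inr ⟨_, h, rfl⟩

theorem natCast_inIdeal_iff (hM : IsPModular p M) (n : ℕ) : InIdeal M (n : ℂ) ↔ p ∣ n := by
  refine ⟨fun h => ?_, inIdeal_natCast_of_dvd hM⟩
  by_contra hn
  obtain ⟨a, b, hab⟩ := Nat.isCoprime_iff_coprime.2 ((hM.1.coprime_iff_not_dvd).2 hn)
  apply not_inIdeal_one hM
  have e : (1 : ℂ) = (a : ℂ) * (p : ℂ) + (b : ℂ) * (n : ℂ) := by exact_mod_cast hab.symm
  rw [e]
  exact (InIdeal.mul_left (isIntegral_intCast a)
    (inIdeal_natCast_p hM)).add
    (InIdeal.mul_left (isIntegral_intCast b) h)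

theorem exists_isPModular (hp : p.Prime) : ∃ M : Ideal AlgInt, IsPModular p M := by
  have hne : (Ideal.span {(p : AlgInt)}) ≠ ⊤ := by
    intro h
    rw [Ideal.span_singleton_eq_top] at h
    obtain ⟨u, hu⟩ := h.exists_right_inv
    have h1 : ((p : AlgInt) : ℂ) * (u : ℂ) = 1 := by
      rw [← MulMemClass.coe_mul, hu]; rfl
    have h2 : IsIntegral ℤ ((1 : ℕ) / (p : ℂ)) := by
      have hp0 : (p : ℂ) ≠ 0 := Nat.cast_ne_zero.2 hp.ne_zero
      have e : ((1 : ℕ) : ℂ) / (p : ℂ) = (u : ℂ) := by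
        rw [Nat.cast_one, div_eq_iff hp0, mul_comm]
        simpa using h1.symm
      rw [e]; exact u.2
    exact hp.not_dvd_one (nat_dvd_of_isIntegral hp.ne_zero h2)
  obtain ⟨M, hM, hle⟩ := Ideal.exists_le_maximal _ hne
  exact ⟨M, hp, hM, hle (Ideal.subset_span rfl)⟩

end InIdeal

/-! ### Class functions and convolution -/

variable {G : Type u} [Group G]

/-- A function on `G` with arbitrary values that is constant on classes. -/
def IsClass {R : Type*} (f : G → R) : Prop := ∀ g h : G, f (h * g * h⁻¹) = f g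

theorem IsClass.isConj {R : Type*} {f : G → R} (hf : IsClass f) {x y : G} (h : IsConj x y) :
    f x = f y := by
  obtain ⟨c, rfl⟩ := isConj_iff.1 h
  exact (hf x c).symm

/-- Convolution of functions on a finite group. -/
def conv {R : Type*} [CommRing R] [Fintype G] (f h : G → R) : G → R :=
  fun x => ∑ a, f a * h (a⁻¹ * x)

theorem IsClass.conv {R : Type*} [CommRing R] [Fintype G] {f h : G → R} (hf : IsClass f)
    (hh : IsClass h) : IsClass (BlockThms.conv f h) := by
  intro x c
  refine (Fintype.sum_equiv (MulAut.conj c).toEquiv _ _ fun a => ?_).symm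
  simp only [MulEquiv.toEquiv_eq_coe, EquivLike.coe_coe, MulAut.conj_apply]
  rw [hf a c, show (c * a * c⁻¹)⁻¹ * (c * x * c⁻¹) = c * (a⁻¹ * x) * c⁻¹ by group, hh]

open scoped Classical in
/-- The integer valued indicator of a conjugacy class. -/
noncomputable def classInd (g : G) : G → ℤ := fun x => if IsConj g x then 1 else 0

open scoped Classical in
theorem isClass_classInd (g : G) : IsClass (classInd g) := fun x c => if_congr
  ⟨fun e => e.trans (isConj_iff.2 ⟨c, rfl⟩).symm, fun e => e.trans (isConj_iff.2 ⟨c, rfl⟩)⟩ rfl rfl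

/-! ### Central characters on class functions -/

section Omega

variable [Fintype G]

/-- The scalar by which the element with coefficients `f` acts in the representation with
character `χ`. -/
noncomputable def omega (χ f : G → ℂ) : ℂ := (∑ x, f x * χ x) / χ 1

/-- `omega` on integer valued functions. -/
noncomputable def omegaZ (χ : G → ℂ) (z : G → ℤ) : ℂ := omega χ fun x => (z x : ℂ)

theorem omega_spec {n : ℕ} (ρ : Representation ℂ G (Fin n → ℂ)) (hρ : ρ.IsIrreducible)
    {f : G → ℂ} (hf : IsClass f) :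
    (∑ x, f x • ρ x) = omega ρ.character f • (LinearMap.id : (Fin n → ℂ) →ₗ[ℂ] (Fin n → ℂ)) := by
  obtain ⟨c, hc, hc'⟩ := sum_smul_rep_eq_scalar ρ hρ hf
  rw [hc, omega, ← hc', ρ.char_one, mul_div_cancel_right₀]
  have := IsIrr.one_ne_zero (χ := ρ.character) ⟨n, ρ, hρ, rfl⟩
  rwa [ρ.char_one] at this

theorem omega_conv {χ : G → ℂ} (hχ : IsIrrCharacter G χ) {f h : G → ℂ} (hf : IsClass f)
    (hh : IsClass h) : omega χ (conv f h) = omega χ f * omega χ h := by
  obtain ⟨n, ρ, hρ, rfl⟩ := hχ
  have h1 := omega_spec ρ hρ (hf.conv hh)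
  have h2 : (∑ x, conv f h x • ρ x) = (∑ a, f a • ρ a) * ∑ b, h b • ρ b := by
    simp only [conv, Finset.sum_smul, Finset.mul_sum, Finset.sum_mul]
    conv_lhs => rw [Finset.sum_comm]
    conv_rhs => rw [Finset.sum_comm]
    refine Finset.sum_congr rfl fun a _ => ?_
    refine Fintype.sum_equiv (Equiv.mulLeft a⁻¹) _ _ fun x => ?_
    simp only [Equiv.coe_mulLeft]
    rw [smul_mul_smul_comm, ← map_mul, mul_inv_cancel_left]
  rw [h2, omega_spec ρ hρ hf, omega_spec ρ hρ hh, smul_mul_smul_comm] at h1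
  have hne := IsIrr.one_ne_zero (χ := ρ.character) ⟨n, ρ, hρ, rfl⟩
  have h3 := congrArg (LinearMap.trace ℂ _) h1
  rw [show (LinearMap.id : (Fin n → ℂ) →ₗ[ℂ] _) * LinearMap.id = LinearMap.id from rfl,
    map_smul, map_smul, LinearMap.trace_id, smul_eq_mul, smul_eq_mul] at h3
  rw [ρ.char_one] at hne
  exact (mul_right_cancel₀ hne h3).symm

theorem omegaZ_conv {χ : G → ℂ} (hχ : IsIrrCharacter G χ) {z w : G → ℤ} (hz : IsClass z)
    (hw : IsClass w) : omegaZ χ (conv z w) = omegaZ χ z * omegaZ χ w := by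
  unfold omegaZ
  rw [← omega_conv hχ (fun g h => by rw [hz g h]) (fun g h => by rw [hw g h])]
  congr 1
  funext x
  simp only [BlockThms.conv, Int.cast_sum, Int.cast_mul]

theorem sum_classes {R : Type*} [AddCommMonoid R] (f : G → R) [Fintype (ConjClasses G)]
    [DecidableEq (ConjClasses G)] :
    ∑ x, f x = ∑ C : ConjClasses G, ∑ x ∈ Finset.univ.filter (fun x => ConjClasses.mk x = C), f x :=
  (Finset.sum_fiberwise Finset.univ ConjClasses.mk f).symm

theorem card_filter_classes [DecidableEq (ConjClasses G)] (C : ConjClasses G) :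
    (Finset.univ.filter (fun x : G => ConjClasses.mk x = C)).card =
      (Subgroup.centralizer ({C.out} : Set G)).index := by
  classical
  rw [← Fintype.card_subtype, ← Nat.card_eq_fintype_card, ← card_isConj_eq_index]
  refine Nat.card_congr (Equiv.subtypeEquivRight fun x => ?_)
  rw [show ConjClasses.mk x = C ↔ ConjClasses.mk x = ConjClasses.mk C.out by
    rw [show ConjClasses.mk C.out = C from Quotient.out_eq C],
    ConjClasses.mk_eq_mk_iff_isConj]
  exact isConj_comm

open scoped Classical in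
theorem omegaZ_eq_sum {χ : G → ℂ} (hχ : IsIrrCharacter G χ) {z : G → ℤ} (hz : IsClass z)
    [Fintype (ConjClasses G)] :
    omegaZ χ z = ∑ C : ConjClasses G, (z C.out : ℂ) * centralChar χ C.out := by
  rw [omegaZ, omega, sum_classes, Finset.sum_div]
  refine Finset.sum_congr rfl fun C _ => ?_
  have hC : ∀ x ∈ Finset.univ.filter (fun x : G => ConjClasses.mk x = C),
      (z x : ℂ) * χ x = (z C.out : ℂ) * χ C.out := by
    intro x hx
    have : IsConj x C.out := ConjClasses.mk_eq_mk_iff_isConj.1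
      ((Finset.mem_filter.1 hx).2.trans (Quotient.out_eq C).symm)
    rw [hz.isConj this, classFun_isConj (isClassFunction_of_isIrr hχ) this]
  rw [Finset.sum_congr rfl hC, Finset.sum_const, nsmul_eq_mul, card_filter_classes, centralChar]
  ring

theorem omegaZ_classInd (χ : G → ℂ) (hχ : IsClassFunction G χ) (g : G) :
    omegaZ χ (classInd g) = centralChar χ g := by
  classical
  rw [omegaZ, omega, centralChar]
  congr 1
  rw [← card_isConj_eq_index, Nat.card_eq_fintype_card, Fintype.card_subtype]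
  simp only [classInd, Int.cast_ite, Int.cast_one, Int.cast_zero, ite_mul, one_mul, zero_mul,
    ← Finset.sum_filter]
  rw [Finset.sum_congr rfl fun x hx => (classFun_isConj hχ (Finset.mem_filter.1 hx).2).symm,
    Finset.sum_const, nsmul_eq_mul]

theorem isIntegral_omegaZ {χ : G → ℂ} (hχ : IsIrrCharacter G χ) {z : G → ℤ} (hz : IsClass z) :
    IsIntegral ℤ (omegaZ χ z) := by
  classical
  have : Finite (ConjClasses G) := Quotient.finite _
  have := Fintype.ofFinite (ConjClasses G)
  rw [omegaZ_eq_sum hχ hz]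
  exact IsIntegral.sum _ fun C _ => (isIntegral_intCast (z C.out)).mul (centralCharacter_isIntegral hχ C.out)

end Omega

end Cfsg.Agent.BlockThms
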