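import Mathlib
import Cfsg.Agent.BlockThms.Eta

/-!
# Külshammer's congruence for the principal block idempotent

A `q`-th power in the group algebra has, at the identity, the `q`-th power of the sum of the
coefficients at the elements `h` with `h ^ q = 1`, modulo p.
-/

namespace Cfsg.Agent.BlockThms

open scoped ComplexConjugate
open Cfsg.Agent Cfsg.Agent.Blocks Cfsg.Agent.BlockChar

universe u

variable {G : Type u} [Group G] {p : ℕ} {M : Ideal Cfsg.AlgInt}

theorem word_const {q : ℕ} (h : G) (s : ZMod q) (n : ℕ) : word (fun _ => h) s n = h ^ n := by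
  induction n with
  | zero => simp
  | succ n ih => rw [word_succ, ih, pow_succ]

open scoped Classical in
theorem sum_tuples_eq_pow [Fintype G] {R : Type*} [CommRing R] [ExpChar R p] [CharP R p]
    (hp : p.Prime) (N : ℕ) [NeZero (p ^ N)] (f : G → R) :
    (∑ t : Tup (p ^ N) G, if word t.val 0 (p ^ N) = 1 then ∏ i, f (t.val i) else 0) =
      (∑ h : G, if h ^ p ^ N = 1 then f h else 0) ^ p ^ N := by
  set W : Tup (p ^ N) G → R :=
    fun t => if word t.val 0 (p ^ N) = 1 then ∏ i, f (t.val i) else 0 with hW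
  have hinv : ∀ (s : ZMod (p ^ N)) t, W (s +ᵥ t) = W t := by
    intro s t
    simp only [hW]
    rw [word_vadd]
    refine if_congr ?_ ?_ rfl
    · have h := isConj_word t.val s
      exact ⟨fun e => isConj_one_left.1 (e ▸ h),
        fun e => isConj_one_right.1 (e ▸ h)⟩
    · exact Fintype.prod_equiv (Equiv.addRight s) _ _ fun i => by simp [vadd_val]
  let fixd : Tup (p ^ N) G → Prop := fun t => ∀ i, t.val i = t.val 0
  have hfix : ∀ t, fixd t ↔ ∀ s : ZMod (p ^ N), s +ᵥ t = t := by
    intro t
    constructor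
    · intro h s
      apply Tup.equiv.injective
      funext i
      show t.val (i + s) = t.val i
      rw [h, h i]
    · intro h i
      have := congrArg (fun u => Tup.val u 0) (h i)
      simpa [vadd_val] using this
  have hnonfix : ∑ t, (if fixd t then 0 else W t) = 0 := by
    set W' : Tup (p ^ N) G → R := fun t => if fixd t then 0 else W t with hW'
    rw [← (AddAction.selfEquivSigmaOrbits (ZMod (p ^ N)) (Tup (p ^ N) G)).symm.sum_comp,
      Fintype.sum_sigma]
    refine Finset.sum_eq_zero fun ω _ => ?_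
    rw [Finset.sum_congr rfl (g := fun _ => W' ω.out), Finset.sum_const, nsmul_eq_mul,
      Finset.card_univ, ← Nat.card_eq_fintype_card, Nat.card_coe_set_eq]
    · by_cases h : fixd ω.out
      · simp [hW', h]
      · obtain ⟨j, -, hj⟩ := (Nat.dvd_prime_pow hp).1 (by
          simpa [Nat.card_zmod] using
            (AddAction.stabilizer (ZMod (p ^ N)) ω.out).index_dvd_card)
        rw [← AddAction.index_stabilizer, hj]
        rcases Nat.eq_zero_or_pos j with rfl | hj0
        · rw [pow_zero, AddSubgroup.index_eq_one] at hj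
          exact absurd ((hfix _).2 fun s => AddAction.mem_stabilizer_iff.1 (hj ▸ trivial)) h
        · rw [Nat.cast_pow, CharP.cast_eq_zero, zero_pow hj0.ne', zero_mul]
    · rintro ⟨x, s, rfl⟩ -
      show W' (s +ᵥ ω.out) = W' ω.out
      simp only [hW', hinv]
      refine if_congr ?_ rfl rfl
      rw [hfix, hfix]
      constructor
      · intro h r
        have h1 := h r
        rw [vadd_vadd, add_comm, ← vadd_vadd] at h1
        exact (AddAction.injective s) h1
      · intro h r
        rw [h s, h r]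
  calc ∑ t, W t = ∑ t, (if fixd t then W t else 0) := by
        rw [← sub_eq_zero, ← Finset.sum_sub_distrib]
        refine Eq.trans (Finset.sum_congr rfl fun t _ => ?_) hnonfix
        split_ifs <;> simp
    _ = ∑ h : G, W ⟨fun _ => h⟩ := by
        rw [← Finset.sum_filter]
        refine Finset.sum_nbij' (fun t => t.val 0) (fun h => ⟨fun _ => h⟩) ?_ ?_ ?_ ?_ ?_
        · intro t _; exact Finset.mem_univ _
        · intro h _; exact Finset.mem_filter.2 ⟨Finset.mem_univ _, fun _ => rfl⟩
        · intro t ht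
          exact Tup.equiv.injective (funext fun i => ((Finset.mem_filter.1 ht).2 i).symm)
        · intro h _; rfl
        · intro t ht
          exact congrArg W (Tup.equiv.injective (funext fun i => (Finset.mem_filter.1 ht).2 i))
    _ = _ := by
        rw [sum_pow_char_pow]
        refine Finset.sum_congr rfl fun h _ => ?_
        simp only [hW, word_const, Finset.prod_const, Finset.card_univ, ZMod.card]
        split_ifs
        · rfl
        · rw [zero_pow (NeZero.ne _)]

/-- Every element of the residue field lies in a finite field. -/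
theorem exists_pow_pPow_eq_self (hM : Cfsg.IsPModular p M) (x : Cfsg.AlgInt ⧸ M) :
    ∃ f, 0 < f ∧ ∀ k, x ^ p ^ (f * k) = x := by
  have := Fact.mk hM.1
  have := hM.2.1
  let _ := Ideal.Quotient.field M
  have := charP_residueField hM
  let _ : Algebra (ZMod p) (Cfsg.AlgInt ⧸ M) := ZMod.algebra _ p
  obtain ⟨a, rfl⟩ := Ideal.Quotient.mk_surjective x
  have hZ : IsIntegral ℤ (Ideal.Quotient.mk M a) :=
    (integralClosure.isIntegral a : IsIntegral ℤ a).map (Ideal.Quotient.mkₐ ℤ M)
  have hp : IsIntegral (ZMod p) (Ideal.Quotient.mk M a) := hZ.tower_top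
  let K := IntermediateField.adjoin (ZMod p) {Ideal.Quotient.mk M a}
  have : Module.Finite (ZMod p) K := IntermediateField.adjoin.finiteDimensional hp
  have : Finite K := Module.finite_of_finite (ZMod p)
  let _ := Fintype.ofFinite K
  refine ⟨Module.finrank (ZMod p) K, Module.finrank_pos, fun k => ?_⟩
  have h := FiniteField.pow_card_pow k
    (⟨_, IntermediateField.mem_adjoin_simple_self (ZMod p) (Ideal.Quotient.mk M a)⟩ : K)
  rw [Module.card_eq_pow_finrank (K := ZMod p) (V := K), ZMod.card, ← pow_mul] at h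
  exact congrArg (algebraMap K (Cfsg.AlgInt ⧸ M)) h

variable [Fintype G]

theorem isClassFunction_cpow {a : G → ℂ} (ha : Cfsg.IsClassFunction G a) :
    ∀ n, Cfsg.IsClassFunction G (cpow a (n + 1))
  | 0 => by rw [cpow_one]; exact ha
  | n + 1 => by rw [cpow_succ]; exact isClassFunction_conv ha (isClassFunction_cpow ha n)

theorem cpow_shift' {a : G → ℂ} (ha : Cfsg.IsClassFunction G a) (x : G) (n : ℕ) :
    cpow (fun z => a (z * x⁻¹)) (n + 1) =
      fun z => cpow a (n + 1) (z * (x ^ (n + 1))⁻¹) := by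
  induction n with
  | zero => simp [cpow_one]
  | succ n ih =>
    rw [cpow_succ, ih, cpow_succ a (n + 1)]
    funext z
    simp only [conv]
    rw [← Equiv.sum_comp (Equiv.mulRight x)]
    refine Finset.sum_congr rfl fun k _ => ?_
    simp only [Equiv.coe_mulRight, mul_inv_cancel_right]
    congr 1
    have h2 := isClassFunction_cpow ha n ((k * x)⁻¹ * z * (x ^ (n + 1))⁻¹) x
    rw [← h2]
    congr 1
    simp [pow_succ', mul_assoc]

theorem cpow_idem {a : G → ℂ} (hidem : conv a a = a) : ∀ n, cpow a (n + 1) = a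
  | 0 => cpow_one a
  | n + 1 => by rw [cpow_succ, cpow_idem hidem n, hidem]

theorem cpow_zero_eq_delta (a : G → ℂ) : cpow a 0 = delta G := by
  classical
  funext z
  simp [cpow, delta, eq_comm]

open scoped Classical in
/-- The congruence for the `p ^ N`-th power at the identity. -/
theorem residue_cpow_one (hM : Cfsg.IsPModular p M) (N : ℕ) (f : G → ℂ)
    (hf : ∀ g, Cfsg.MemLocalRing M (f g)) :
    resFun hM (cpow f (p ^ N) 1) =
      (resFun hM (∑ h : G, if h ^ p ^ N = 1 then f h else 0)) ^ p ^ N := by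
  have : NeZero (p ^ N) := ⟨pow_ne_zero _ hM.1.ne_zero⟩
  have := charP_residueField hM
  have : ExpChar (Cfsg.AlgInt ⧸ M) p := ExpChar.prime hM.1
  let f' : G → localRing hM := fun g => ⟨f g, hf g⟩
  have e1 : cpow f (p ^ N) 1 = ((∑ t : Tup (p ^ N) G,
      if word t.val 0 (p ^ N) = 1 then ∏ i, f' (t.val i) else 0 : localRing hM) : ℂ) := by
    have h := sum_classSum_cpow (q := p ^ N) f (fun z => z = 1)
    rw [Finset.sum_ite_eq' Finset.univ (1 : G), if_pos (Finset.mem_univ _)] at h
    rw [h, AddSubmonoidClass.coe_finsetSum]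
    refine Finset.sum_congr rfl fun t _ => ?_
    split_ifs
    · rw [SubmonoidClass.coe_finsetProd]
    · rfl
  have e2 : (∑ h : G, if h ^ p ^ N = 1 then f h else 0) =
      ((∑ h : G, if h ^ p ^ N = 1 then f' h else 0 : localRing hM) : ℂ) := by
    rw [AddSubmonoidClass.coe_finsetSum]
    exact Finset.sum_congr rfl fun h _ => by split_ifs <;> rfl
  rw [e1, e2, ← residue_apply, ← residue_apply, map_sum, map_sum]
  simp only [apply_ite (residue hM), map_zero, map_prod]
  exact sum_tuples_eq_pow hM.1 N fun g => residue hM (f' g)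

theorem memLocalRing_cpow (hM : Cfsg.IsPModular p M) {a : G → ℂ}
    (ha : ∀ g, Cfsg.MemLocalRing M (a g)) : ∀ (n : ℕ) (g : G), Cfsg.MemLocalRing M (cpow a n g)
  | 0, g => by
    classical
    rw [cpow_zero_eq_delta]
    unfold delta
    split
    · exact (localRing hM).one_mem
    · exact (localRing hM).zero_mem
  | n + 1, g => by
    rw [cpow_succ]
    exact (localRing hM).sum_mem fun x _ =>
      (localRing hM).mul_mem (ha x) (memLocalRing_cpow hM ha n _)

/-- A central element whose central character values all vanish modulo `M` is nilpotent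
modulo `M`. -/
theorem exists_cpow_memLocalIdeal (hM : Cfsg.IsPModular p M) {a : G → ℂ}
    (ha : Cfsg.IsClassFunction G a) (haR : ∀ g, Cfsg.MemLocalRing M (a g))
    (h : ∀ χ : Cfsg.IrrCharacter G, Cfsg.MemLocalIdeal M (omega (χ : G → ℂ) a)) :
    ∃ K, ∀ n, K ≤ n → ∀ z, Cfsg.MemLocalIdeal M (cpow a n z) := by
  classical
  have key : ∀ s : Finset (Cfsg.IrrCharacter G), ∃ E : G → ℂ, Cfsg.IsClassFunction G E ∧
      (∀ g, Cfsg.MemLocalRing M (E g)) ∧
      (∀ ψ : Cfsg.IrrCharacter G, omega (ψ : G → ℂ) E =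
        ∏ φ ∈ s, (omega (ψ : G → ℂ) a - omega (φ : G → ℂ) a)) ∧
      ∀ z, Cfsg.MemLocalIdeal M (E z - cpow a s.card z) := by
    intro s
    induction s using Finset.induction_on with
    | empty =>
      refine ⟨delta G, isClassFunction_delta, ?_, fun ψ => ?_, fun z => ?_⟩
      · intro g
        rw [← cpow_zero_eq_delta a]
        exact memLocalRing_cpow hM haR 0 g
      · rw [omega_delta (Char.IsIrr.one_ne_zero ψ.2)]; simp
      · rw [Finset.card_empty, cpow_zero_eq_delta, sub_self]; exact memLocalIdeal_zero hM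
    | insert φ s hφ ih =>
      obtain ⟨E, hE, hER, hEo, hEc⟩ := ih
      have hw := memLocalRing_omega hM φ.2 ha haR
      refine ⟨conv a E - omega (φ : G → ℂ) a • E, fun g k => ?_, fun g => ?_, fun ψ => ?_,
        fun z => ?_⟩
      · simp [isClassFunction_conv ha hE g k, hE g k]
      · exact (localRing hM).sub_mem ((localRing hM).sum_mem fun x _ =>
          (localRing hM).mul_mem (haR x) (hER _)) ((localRing hM).mul_mem hw (hER g))
      · rw [omega_sub, omega_smul, omega_conv ψ.2 ha hE, hEo, Finset.prod_insert hφ, sub_mul]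
      · rw [Finset.card_insert_of_notMem hφ, cpow_succ]
        have e : (conv a E - omega (φ : G → ℂ) a • E) z - conv a (cpow a s.card) z =
            (∑ x, a x * (E (x⁻¹ * z) - cpow a s.card (x⁻¹ * z))) -
              omega (φ : G → ℂ) a * E z := by
          simp only [Pi.sub_apply, Pi.smul_apply, smul_eq_mul, conv, mul_sub,
            Finset.sum_sub_distrib]
          ring
        rw [e]
        exact memLocalIdeal_sub hM (memLocalIdeal_sum hM _ fun x _ =>
          memLocalIdeal_mul_left hM (haR x) (hEc _)) (memLocalIdeal_mul_right hM (h φ) (hER z))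
  obtain ⟨E, hE, -, hEo, hEc⟩ := key Finset.univ
  have hE0 : E = 0 := classFun_ext_omega hE (fun _ _ => rfl) fun ψ => by
    rw [hEo, Finset.prod_eq_zero (Finset.mem_univ ψ) (sub_self _)]
    simp [omega]
  refine ⟨(Finset.univ : Finset (Cfsg.IrrCharacter G)).card, fun n hn => ?_⟩
  induction n, hn using Nat.le_induction with
  | base =>
    intro z
    have := hEc z
    rw [hE0, Pi.zero_apply, zero_sub] at this
    simpa using memLocalIdeal_neg this
  | succ n _ ih =>
    intro z
    rw [cpow_succ]
    exact memLocalIdeal_sum hM _ fun x _ => memLocalIdeal_mul_left hM (haR x) (ih _)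

omit [Fintype G] in
theorem pow_pPow_eq_one_iff [Finite G] (hp : p.Prime) {N : ℕ}
    (hN : (Nat.card G).factorization p ≤ N) (h : G) :
    h ^ p ^ N = 1 ↔ ∃ k, orderOf h = p ^ k := by
  rw [← orderOf_dvd_iff_pow_eq_one, Nat.dvd_prime_pow hp]
  refine ⟨fun ⟨k, _, hk⟩ => ⟨k, hk⟩, fun ⟨k, hk⟩ => ⟨k, ?_, hk⟩⟩
  exact ((hp.pow_dvd_iff_le_factorization Nat.card_pos.ne').1
    (hk ▸ orderOf_dvd_natCard h)).trans hN

set_option maxHeartbeats 600000 in
omit [Fintype G] in
/-- Külshammer's formula. -/
theorem kulshammer [Finite G] (hM : Cfsg.IsPModular p M) (g : G) (hg : ¬ p ∣ orderOf g) :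
    Cfsg.MemLocalIdeal M (Cfsg.blockCoeff (Cfsg.principalBlock M G) g -
      (Nat.card {xy : G × G //
        (∃ k : ℕ, orderOf xy.1 = p ^ k) ∧ ¬ p ∣ orderOf xy.2 ∧ xy.1 * xy.2 = g} : ℂ) /
      (Nat.card {y : G // ¬ p ∣ orderOf y} : ℂ)) := by
  classical
  have := Fintype.ofFinite G
  have := Fact.mk hM.1
  have := hM.2.1
  let _ := Ideal.Quotient.field M
  have := charP_residueField hM
  set B := Cfsg.principalBlock M G
  have hB := isPBlock_principalBlock (G := G) M
  set e := Cfsg.blockCoeff B with he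
  have hec : Cfsg.IsClassFunction G e := isClassFunction_blockCoeff B
  have heR : ∀ x, Cfsg.MemLocalRing M (e x) := memLocalRing_blockCoeff hM hB
  set fR := eta p ((triv G : Cfsg.IrrCharacter G) : G → ℂ) with hfR
  have hRc : Cfsg.IsClassFunction G fR :=
    isClassFunction_eta (Char.isClassFunction_of_isIrr (triv G).2)
  have hRR : ∀ x, Cfsg.MemLocalRing M (fR x) := memLocalRing_eta hM Char.isCharacter_one
  set r : ℕ := Nat.card {y : G // ¬ p ∣ orderOf y} with hr
  have hr' : omega ((triv G : Cfsg.IrrCharacter G) : G → ℂ) fR = (r : ℂ) := by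
    rw [hr, Nat.card_eq_fintype_card, Fintype.card_subtype, Finset.natCast_card_filter, omega]
    simp only [triv, mul_one, div_one]
    refine Finset.sum_congr rfl fun x _ => ?_
    by_cases hx : Cfsg.IsPRegular p x
    · rw [hfR, eta_of_regular _ hx]; simp [triv, if_pos (show ¬ p ∣ orderOf x from hx)]
    · rw [hfR, eta_of_singular _ hx, if_neg (show ¬ ¬ p ∣ orderOf x from hx)]
  have hrp : ¬ p ∣ r := by
    rw [← memLocalIdeal_natCast_iff hM, ← hr']
    exact not_memLocalIdeal_omega_eta hM _ (blockHeight_triv hM)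
  set z := conv e fR with hz
  have hzc : Cfsg.IsClassFunction G z := isClassFunction_conv hec hRc
  set n := z - (r : ℂ) • e with hn
  have hnc : Cfsg.IsClassFunction G n := fun x k => by simp [hn, hzc x k, hec x k]
  have hnR : ∀ x, Cfsg.MemLocalRing M (n x) := fun x =>
    (localRing hM).sub_mem ((localRing hM).sum_mem fun y _ =>
      (localRing hM).mul_mem (heR y) (hRR _))
      ((localRing hM).mul_mem (memLocalRing_natCast hM r) (heR x))
  have hno : ∀ χ : Cfsg.IrrCharacter G, Cfsg.MemLocalIdeal M (omega (χ : G → ℂ) n) := by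
    intro χ
    rw [hn, omega_sub, omega_smul, hz, omega_conv χ.2 hec hRc, omega_blockCoeff B χ]
    by_cases hχ : χ ∈ B
    · rw [if_pos hχ, one_mul, mul_one, ← hr']
      exact memLocalIdeal_omega_sub hM χ.2 (triv G).2 hRc hRR (sameBlock_symm hχ)
    · rw [if_neg hχ, zero_mul, mul_zero, sub_zero]
      exact memLocalIdeal_zero hM
  obtain ⟨K, hK⟩ := exists_cpow_memLocalIdeal hM hnc hnR hno
  obtain ⟨f, hf0, hf⟩ := exists_pow_pPow_eq_self hM (resFun hM (e g))
  set a := (Nat.card G).factorization p
  set N := f * ((orderOf g).totient * (K + a)) with hN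
  have hfo : 1 ≤ f * (orderOf g).totient :=
    Nat.one_le_iff_ne_zero.2 (Nat.mul_ne_zero hf0.ne' (Nat.totient_pos.2 (orderOf_pos g)).ne')
  have hNa : K + a ≤ N := by
    rw [hN, ← mul_assoc]
    exact Nat.le_mul_of_pos_left _ hfo
  have hgN : g ^ p ^ N = g := by
    conv_rhs => rw [← pow_one g]
    refine pow_eq_pow_iff_modEq.2 ?_
    have h := Nat.ModEq.pow_totient ((hM.1.coprime_iff_not_dvd).2 hg : Nat.Coprime p (orderOf g))
    have e1 : N = (orderOf g).totient * (f * (K + a)) := by rw [hN]; ring
    rw [e1]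
    simpa [pow_mul] using h.pow (f * (K + a))
  obtain ⟨k, hk⟩ := Nat.exists_eq_succ_of_ne_zero (pow_ne_zero N hM.1.ne_zero : p ^ N ≠ 0)
  let T : (G → ℂ) → ℂ := fun b => ∑ h : G, if h ^ p ^ N = 1 then b (h * g) else 0
  have hT : ∀ b : G → ℂ, Cfsg.IsClassFunction G b → (∀ x, Cfsg.MemLocalRing M (b x)) →
      resFun hM (cpow b (p ^ N) g) = resFun hM (T b) ^ p ^ N := by
    intro b hb hbR
    have h := residue_cpow_one hM N (fun x => b (x * g⁻¹⁻¹)) fun x => hbR _
    rw [hk, cpow_shift' hb g⁻¹ k, ← hk, show k + 1 = k.succ from rfl, ← hk] at h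
    simpa [inv_pow, hgN] using h
  have hTR : ∀ b : G → ℂ, (∀ x, Cfsg.MemLocalRing M (b x)) → Cfsg.MemLocalRing M (T b) :=
    fun b hbR => (localRing hM).sum_mem fun x _ => by
      split
      · exact hbR _
      · exact (localRing hM).zero_mem
  have hTn : Cfsg.MemLocalIdeal M (T n) := by
    rw [← resFun_eq_zero_iff hM (hTR n hnR)]
    have h := hT n hnc hnR
    rw [(resFun_eq_zero_iff hM (memLocalRing_cpow hM hnR _ _)).2 (hK _ (le_trans
      (Nat.le_of_add_right_le hNa) (Nat.lt_pow_self hM.1.one_lt).le) _)] at h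
    exact eq_zero_of_pow_eq_zero h.symm
  have hTe : Cfsg.MemLocalIdeal M (T e - e g) := by
    have h := hT e hec heR
    rw [hk, cpow_idem (blockCoeff_conv B)] at h
    rw [← hk] at h
    have he' := hf ((orderOf g).totient * (K + a))
    rw [← hN] at he'
    have h2 : resFun hM (T e) = resFun hM (e g) := by
      rw [← sub_eq_zero]
      apply eq_zero_of_pow_eq_zero (n := p ^ N)
      rw [sub_pow_char_pow, he', ← h, sub_self]
    exact (residue_eq_iff hM ⟨T e, hTR e heR⟩ ⟨e g, heR g⟩).1 h2
  -- the count is `T` of `conv e fR`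
  set fU : G → ℂ := fun u => if u ^ p ^ N = 1 then 1 else 0 with hfU
  have hUc : Cfsg.IsClassFunction G fU := fun u x => by
    simp only [hfU]
    refine if_congr ?_ rfl rfl
    rw [conj_pow, conj_eq_one_iff]
  have hconv : conv fU fR = conv fU z :=
    classFun_ext_omega (isClassFunction_conv hUc hRc) (isClassFunction_conv hUc hzc) fun χ => by
      rw [omega_conv χ.2 hUc hRc, omega_conv χ.2 hUc hzc, hz, omega_conv χ.2 hec hRc,
        omega_blockCoeff B χ]
      by_cases hχ : χ ∈ B
      · rw [if_pos hχ, one_mul]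
      · have hs : ¬ Cfsg.SameBlock M ((triv G : Cfsg.IrrCharacter G) : G → ℂ) (χ : G → ℂ) := hχ
        rw [if_neg hχ, hfR, omega_eta_eq_zero (χ := triv G) (ψ := χ) hM hs]; ring
  set c : ℕ := Nat.card {xy : G × G //
      (∃ k : ℕ, orderOf xy.1 = p ^ k) ∧ ¬ p ∣ orderOf xy.2 ∧ xy.1 * xy.2 = g} with hc
  have hU : ∀ x : G, x ^ p ^ N = 1 ↔ ∃ k, orderOf x = p ^ k :=
    fun x => pow_pPow_eq_one_iff hM.1 (Nat.le_of_add_left_le hNa) x
  have hcount : (c : ℂ) = T z := by
    have h1 : conv fU fR g = (c : ℂ) := by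
      rw [hc, Nat.card_eq_fintype_card, Fintype.card_subtype, Finset.natCast_card_filter,
        Fintype.sum_prod_type, conv]
      refine Finset.sum_congr rfl fun x _ => ?_
      rw [Finset.sum_eq_single (x⁻¹ * g)]
      · by_cases h1 : x ^ p ^ N = 1
        · simp only [hfU, if_pos h1, one_mul]
          by_cases h2 : Cfsg.IsPRegular p (x⁻¹ * g)
          · rw [hfR, eta_of_regular _ h2, if_pos ⟨(hU x).1 h1, h2, by simp⟩]; simp [triv]
          · rw [hfR, eta_of_singular _ h2, if_neg fun h => h2 h.2.1]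
        · simp only [hfU, if_neg h1, zero_mul]
          rw [if_neg fun h => h1 ((hU x).2 h.1)]
      · intro y _ hy
        rw [if_neg]
        rintro ⟨-, -, h⟩
        exact hy (by rw [← h]; simp)
      · simp
    rw [← h1, hconv, conv]
    refine Fintype.sum_equiv (Equiv.inv G) _ _ fun x => ?_
    simp [hfU, inv_pow, ite_mul]
  have hTz : T z = (r : ℂ) * T e + T n := by
    simp only [T, Finset.mul_sum, ← Finset.sum_add_distrib]
    refine Finset.sum_congr rfl fun x _ => ?_
    split_ifs
    · simp [hn]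
    · simp
  have hrne : (r : ℂ) ≠ 0 := Nat.cast_ne_zero.2 fun h => hrp (h ▸ dvd_zero p)
  have hfinal : Cfsg.MemLocalIdeal M ((r : ℂ) * e g - T z) := by
    rw [hTz, show (r : ℂ) * e g - ((r : ℂ) * T e + T n) = -((r : ℂ) * (T e - e g) + T n) by ring]
    exact memLocalIdeal_neg (memLocalIdeal_add hM
      (memLocalIdeal_mul_left hM (memLocalRing_natCast hM r) hTe) hTn)
  rw [hcount, show e g - T z / (r : ℂ) = ((r : ℂ) * e g - T z) * (r : ℂ)⁻¹ by field_simp]
  exact memLocalIdeal_mul_right hM hfinal (memLocalRing_natCast_inv hM hrp)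

end Cfsg.Agent.BlockThms
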