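import Mathlib
import Cfsg.Agent.BlockThms.Kulshammer
import Cfsg.Agent.BlockThms.NormalCor
import Cfsg.Agent.BlockThms.BrauerMap
import Cfsg.Agent.BlockChar.Defect

/-!
# Defect classes and defect groups

A central character factors through the Brauer map at a defect group, and the block idempotent
lies in the ideal of classes with defect group contained in a defect group of the block.
-/

set_option autoImplicit false

namespace Cfsg.Agent.DefectThms

open scoped ComplexConjugate
open Cfsg.Agent Cfsg.Agent.Blocks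
open Cfsg.Agent.BlockChar (cpow)
open Cfsg.Agent.BlockThms hiding classInd conv omega IsClass exists_isPModular omega_conv

universe u

variable {G : Type u} [Group G] {p : ℕ} {M : Ideal Cfsg.AlgInt}

/-- `S` is a Sylow p-subgroup of the centralizer of `g`, viewed in `G`. -/
def IsSylC (p : ℕ) (g : G) (S : Subgroup G) : Prop :=
  S ≤ Subgroup.centralizer ({g} : Set G) ∧ IsPGroup p S ∧
    Nat.card S = p ^ (Nat.card (Subgroup.centralizer ({g} : Set G))).factorization p

theorem map_conj_le_centralizer {g : G} {S : Subgroup G}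
    (h : S ≤ Subgroup.centralizer ({g} : Set G)) (k : G) :
    S.map (MulAut.conj k).toMonoidHom ≤ Subgroup.centralizer ({k * g * k⁻¹} : Set G) := by
  rintro _ ⟨s, hs, rfl⟩
  exact centralizer_conj_mem (h hs)

theorem map_conj_map_conj (S : Subgroup G) (a b : G) :
    (S.map (MulAut.conj b).toMonoidHom).map (MulAut.conj a).toMonoidHom =
      S.map (MulAut.conj (a * b)).toMonoidHom := by
  rw [Subgroup.map_map, map_mul]
  rfl

theorem map_conj_one (S : Subgroup G) : S.map (MulAut.conj (1 : G)).toMonoidHom = S := by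
  rw [map_one]; exact Subgroup.map_id S

theorem card_map_conj (S : Subgroup G) (k : G) :
    Nat.card (S.map (MulAut.conj k).toMonoidHom) = Nat.card S :=
  Subgroup.card_map_of_injective (MulAut.conj k).injective

section

variable [Finite G] [Fact p.Prime]

theorem exists_isSylC (p : ℕ) [Fact p.Prime] (g : G) : ∃ S, IsSylC p g S :=
  exists_sylow_centralizer p g

theorem isSylC_iff {g : G} {S : Subgroup G} : IsSylC p g S ↔
    ∃ Q : Sylow p (Subgroup.centralizer ({g} : Set G)),
      S = (Q : Subgroup (Subgroup.centralizer ({g} : Set G))).map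
        (Subgroup.centralizer ({g} : Set G)).subtype := by
  set C := Subgroup.centralizer ({g} : Set G) with hC
  constructor
  · rintro ⟨hle, hS, hcard⟩
    obtain ⟨Q, hQ⟩ :=
      (hS.comap_of_injective C.subtype (Subgroup.subtype_injective _)).exists_le_sylow
    refine ⟨Q, Subgroup.eq_of_le_of_card_ge ?_ ?_⟩
    · rw [← Subgroup.map_comap_eq_self (f := C.subtype) (H := S) (by simpa using hle)]
      exact Subgroup.map_mono hQ
    · rw [Subgroup.card_map_of_injective (Subgroup.subtype_injective _),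
        Sylow.card_eq_multiplicity, hcard]
  · rintro ⟨Q, rfl⟩
    refine ⟨Subgroup.map_subtype_le _, Q.2.map _, ?_⟩
    rw [Subgroup.card_map_of_injective (Subgroup.subtype_injective _), Sylow.card_eq_multiplicity]

omit [Fact p.Prime] [Finite G] in
theorem IsSylC.conj {g : G} {S : Subgroup G} (h : IsSylC p g S) (k : G) :
    IsSylC p (k * g * k⁻¹) (S.map (MulAut.conj k).toMonoidHom) :=
  ⟨map_conj_le_centralizer h.1 k, h.2.1.map _, by
    rw [card_map_conj, h.2.2, card_centralizer_conj]⟩

theorem exists_le_isSylC {g : G} {R : Subgroup G} (hR : IsPGroup p R)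
    (hle : R ≤ Subgroup.centralizer ({g} : Set G)) : ∃ S, IsSylC p g S ∧ R ≤ S := by
  set C := Subgroup.centralizer ({g} : Set G)
  obtain ⟨Q, hQ⟩ :=
    (hR.comap_of_injective C.subtype (Subgroup.subtype_injective _)).exists_le_sylow
  refine ⟨_, isSylC_iff.2 ⟨Q, rfl⟩, ?_⟩
  rw [← Subgroup.map_comap_eq_self (f := C.subtype) (H := R) (by simpa using hle)]
  exact Subgroup.map_mono hQ

theorem IsSylC.exists_conj_le {g : G} {S R : Subgroup G} (hS : IsSylC p g S) (hR : IsPGroup p R)
    (hle : R ≤ Subgroup.centralizer ({g} : Set G)) :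
    ∃ c ∈ Subgroup.centralizer ({g} : Set G), R.map (MulAut.conj c).toMonoidHom ≤ S := by
  obtain ⟨T, hT, hRT⟩ := exists_le_isSylC hR hle
  obtain ⟨Q, rfl⟩ := isSylC_iff.1 hT
  obtain ⟨Q', rfl⟩ := isSylC_iff.1 hS
  obtain ⟨c, hc⟩ := MulAction.exists_smul_eq (Subgroup.centralizer ({g} : Set G)) Q Q'
  refine ⟨c, c.2, (Subgroup.map_mono hRT).trans ?_⟩
  rw [← hc]
  rintro _ ⟨_, ⟨t, ht, rfl⟩, rfl⟩
  exact ⟨MulAut.conj c t, ⟨t, ht, rfl⟩, rfl⟩

theorem isDefectGroup_iff {B : Set (Cfsg.IrrCharacter G)} {D : Subgroup G} :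
    Cfsg.IsDefectGroup p M B D ↔ ∃ g, Cfsg.IsDefectClass M B g ∧ IsSylC p g D :=
  exists_congr fun _ => and_congr_right fun _ => isSylC_iff.symm

theorem isDefectClass_conj {B : Set (Cfsg.IrrCharacter G)} {g : G}
    (h : Cfsg.IsDefectClass M B g) (k : G) : Cfsg.IsDefectClass M B (k * g * k⁻¹) := by
  obtain ⟨h1, h2, h3⟩ := h
  refine ⟨?_, ?_, fun χ hχ => ?_⟩
  · rwa [isClassFunction_blockCoeff B g k]
  · rwa [isClassFunction_blockCoeff B g k]
  · have hidx : (Subgroup.centralizer ({k * g * k⁻¹} : Set G)).index =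
        (Subgroup.centralizer ({g} : Set G)).index := by
      refine Nat.eq_of_mul_eq_mul_right
        (Nat.card_pos (α := Subgroup.centralizer ({g} : Set G))) ?_
      conv_lhs => rw [← card_centralizer_conj g k]
      rw [Subgroup.index_mul_card, Subgroup.index_mul_card]
    rw [Cfsg.centralChar, hidx, Char.isClassFunction_of_isIrr χ.2 g k]
    exact h3 χ hχ

theorem isDefectGroup_conj {B : Set (Cfsg.IrrCharacter G)} {D : Subgroup G}
    (h : Cfsg.IsDefectGroup p M B D) (k : G) :
    Cfsg.IsDefectGroup p M B (D.map (MulAut.conj k).toMonoidHom) := by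
  obtain ⟨g, hg, hD⟩ := isDefectGroup_iff.1 h
  exact isDefectGroup_iff.2 ⟨_, isDefectClass_conj hg k, hD.conj k⟩

theorem isPGroup_of_isDefectGroup {B : Set (Cfsg.IrrCharacter G)} {D : Subgroup G}
    (h : Cfsg.IsDefectGroup p M B D) : IsPGroup p D := by
  obtain ⟨g, -, hD⟩ := isDefectGroup_iff.1 h
  exact hD.2.1

end

variable [Fintype G]

omit [Group G] [Fintype G] in
/-- Orbit sums of a p-group: modulo `M` only the fixed points count. -/
theorem memLocalIdeal_sum_sub_fixed (hM : Cfsg.IsPModular p M) {P α : Type*} [Group P]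
    [MulAction P α] [Fintype α] (hP : IsPGroup p P) (φ : α → ℂ)
    (hR : ∀ a, Cfsg.MemLocalRing M (φ a)) (hφ : ∀ (g : P) (a : α), φ (g • a) = φ a)
    [DecidablePred (· ∈ MulAction.fixedPoints P α)] :
    Cfsg.MemLocalIdeal M
      (∑ a, φ a - ∑ a ∈ Finset.univ.filter (· ∈ MulAction.fixedPoints P α), φ a) := by
  classical
  have := Fact.mk hM.1
  let f' : α → localRing hM := fun a => ⟨φ a, hR a⟩
  let img := Finset.univ.image φ
  rw [← Finset.sum_fiberwise_of_maps_to
      (fun a _ => Finset.mem_image_of_mem φ (Finset.mem_univ a)) φ,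
    ← Finset.sum_fiberwise_of_maps_to (s := Finset.univ.filter _) (t := img)
      (fun a _ => Finset.mem_image_of_mem φ (Finset.mem_univ a)) φ, ← Finset.sum_sub_distrib]
  refine memLocalIdeal_sum hM _ fun v hv => ?_
  obtain ⟨a₀, -, rfl⟩ := Finset.mem_image.1 hv
  rw [Finset.sum_congr rfl (fun a ha => (Finset.mem_filter.1 ha).2),
    Finset.sum_congr rfl (fun a ha => (Finset.mem_filter.1 ha).2), Finset.sum_const,
    Finset.sum_const, nsmul_eq_mul, nsmul_eq_mul, ← sub_mul]
  refine memLocalIdeal_mul_right hM ?_ (hR a₀)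
  let S := {a : α // φ a = φ a₀}
  let act : MulAction P S :=
    { smul := fun g a => ⟨g • a.1, (hφ g a.1).trans a.2⟩
      one_smul := fun a => Subtype.ext (one_smul P a.1)
      mul_smul := fun g h a => Subtype.ext (mul_smul g h a.1) }
  have h := hP.card_modEq_card_fixedPoints S
  have e1 : Nat.card S = (Finset.univ.filter fun a => φ a = φ a₀).card := by
    rw [Nat.card_eq_fintype_card, Fintype.card_subtype]
  have e2 : Nat.card (MulAction.fixedPoints P S) =
      ((Finset.univ.filter (· ∈ MulAction.fixedPoints P α)).filter fun a => φ a = φ a₀).card := by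
    rw [Finset.filter_filter, ← Fintype.card_subtype, ← Nat.card_eq_fintype_card]
    exact Nat.card_congr
      { toFun := fun a => ⟨a.1.1, fun g => congrArg Subtype.val (a.2 g), a.1.2⟩
        invFun := fun a => ⟨⟨a.1, a.2.2⟩, fun g => Subtype.ext (a.2.1 g)⟩
        left_inv := fun _ => rfl
        right_inv := fun _ => rfl }
  rw [e1, e2] at h
  have hd := (Nat.modEq_iff_dvd.1 h.symm)
  have := (memLocalIdeal_intCast_iff hM _).2 hd
  push_cast at this
  exact this

/-- The Brauer map is multiplicative modulo `M`. -/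
theorem memLocalIdeal_conv_sub_fixed (hM : Cfsg.IsPModular p M) {P : Subgroup G}
    (hP : IsPGroup p P) {z w : G → ℂ} (hz : Cfsg.IsClassFunction G z)
    (hw : Cfsg.IsClassFunction G w) (hzR : ∀ g, Cfsg.MemLocalRing M (z g))
    (hwR : ∀ g, Cfsg.MemLocalRing M (w g)) {x : G}
    (hx : x ∈ Subgroup.centralizer (P : Set G))
    [DecidablePred (· ∈ Subgroup.centralizer (P : Set G))] :
    Cfsg.MemLocalIdeal M (conv z w x -
      ∑ a ∈ Finset.univ.filter (· ∈ Subgroup.centralizer (P : Set G)), z a * w (a⁻¹ * x)) := by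
  classical
  let act : MulAction P G := MulAction.compHom G ((MulAut.conj : G →* MulAut G).comp P.subtype)
  have hs : ∀ (g : P) (a : G), g • a = (g : G) * a * (g : G)⁻¹ := fun g a => rfl
  have hfix : ∀ a, a ∈ MulAction.fixedPoints P G ↔ a ∈ Subgroup.centralizer (P : Set G) := by
    intro a
    rw [Subgroup.mem_centralizer_iff]
    constructor
    · intro h g hg
      have := h ⟨g, hg⟩
      rw [hs] at this
      exact mul_inv_eq_iff_eq_mul.1 this
    · intro h g
      rw [hs, h g.1 g.2, mul_inv_cancel_right]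
  have h := memLocalIdeal_sum_sub_fixed hM hP (fun a => z a * w (a⁻¹ * x))
    (fun a => (localRing hM).mul_mem (hzR a) (hwR _)) fun g a => by
      rw [hs, hz, show ((g : G) * a * (g : G)⁻¹)⁻¹ * x =
        (g : G) * (a⁻¹ * ((g : G)⁻¹ * x * g)) * (g : G)⁻¹ by group,
        show (g : G)⁻¹ * x * g = x by
          rw [mul_assoc, ← Subgroup.mem_centralizer_iff.1 hx g g.2, inv_mul_cancel_left], hw]
  rw [Finset.filter_congr fun a _ => hfix a] at h
  exact h

theorem memLocalRing_classInd (hM : Cfsg.IsPModular p M) (n g : G) :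
    Cfsg.MemLocalRing M (classInd n g) := by
  classical
  rw [classInd_apply]
  split
  · exact (localRing hM).one_mem
  · exact (localRing hM).zero_mem

theorem memLocalRing_conv (hM : Cfsg.IsPModular p M) {z w : G → ℂ}
    (hz : ∀ g, Cfsg.MemLocalRing M (z g)) (hw : ∀ g, Cfsg.MemLocalRing M (w g)) (x : G) :
    Cfsg.MemLocalRing M (conv z w x) :=
  (localRing hM).sum_mem fun a _ => (localRing hM).mul_mem (hz a) (hw _)

/-- A product with a class sum is supported on classes whose defect groups lie in that of the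
class. -/
theorem exists_conj_le_of_conv [Fact p.Prime] (hM : Cfsg.IsPModular p M) {g : G}
    {D : Subgroup G} (hD : IsSylC p g D) {w : G → ℂ} (hw : Cfsg.IsClassFunction G w)
    (hwR : ∀ y, Cfsg.MemLocalRing M (w y)) {x : G}
    (hx : ¬ Cfsg.MemLocalIdeal M (conv (classInd g) w x)) {S : Subgroup G} (hS : IsPGroup p S)
    (hSx : S ≤ Subgroup.centralizer ({x} : Set G)) :
    ∃ k, S.map (MulAut.conj k).toMonoidHom ≤ D := by
  classical
  have h := memLocalIdeal_conv_sub_fixed hM hS (isClassFunction_classInd g) hw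
    (memLocalRing_classInd hM g) hwR (mem_centralizer_of_le hSx)
  by_contra hne
  refine hx ?_
  have h0 : ∑ a ∈ Finset.univ.filter (· ∈ Subgroup.centralizer (S : Set G)),
      classInd g a * w (a⁻¹ * x) = 0 := by
    refine Finset.sum_eq_zero fun a ha => ?_
    rw [classInd_apply, if_neg, zero_mul]
    intro hga
    obtain ⟨c, rfl⟩ := isConj_iff.1 hga
    have haS : S ≤ Subgroup.centralizer ({c * g * c⁻¹} : Set G) := fun s hs =>
      Subgroup.mem_centralizer_singleton_iff.2
        (Subgroup.mem_centralizer_iff.1 (Finset.mem_filter.1 ha).2 s hs)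
    obtain ⟨d, -, hd⟩ := (hD.conj c).exists_conj_le hS haS
    refine hne ⟨c⁻¹ * d, ?_⟩
    rw [← map_conj_map_conj]
    refine (Subgroup.map_mono hd).trans (le_of_eq ?_)
    rw [map_conj_map_conj, inv_mul_cancel, map_conj_one]
  rwa [h0, sub_zero] at h

/-- A central character that is a unit at a class bounds the defect from above. -/
theorem blockDefect_le_of_unit (hM : Cfsg.IsPModular p M) {B : Set (Cfsg.IrrCharacter G)}
    (hB : Cfsg.IsPBlock M B) {χ : Cfsg.IrrCharacter G} (hχ : χ ∈ B) {x : G}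
    (hx : ¬ Cfsg.MemLocalIdeal M (Cfsg.centralChar (χ : G → ℂ) x)) :
    Cfsg.blockDefect p B ≤
      (Nat.card (Subgroup.centralizer ({x} : Set G))).factorization p := by
  classical
  obtain ⟨χ₀, hχ₀, hχ₀h⟩ := BlockChar.exists_height_zero (p := p) (IsPBlock.nonempty hM hB)
  have hx₀ : ¬ Cfsg.MemLocalIdeal M (Cfsg.centralChar (χ₀ : G → ℂ) x) := fun h => hx (by
    simpa using memLocalIdeal_add hM (IsPBlock.sameBlock hM hB hχ hχ₀ x) h)
  set H := Subgroup.centralizer ({x} : Set G) with hH
  rw [BlockChar.blockDefect_eq]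
  by_contra hlt
  refine hx₀ ?_
  set h := BlockChar.minVal p B
  have e := congrArg (fun n => n.factorization p) (Subgroup.index_mul_card H)
  simp only [Nat.factorization_mul Subgroup.index_ne_zero_of_finite Nat.card_pos.ne',
    Finsupp.add_apply] at e
  obtain ⟨t, ht⟩ : p ^ (h + 1) ∣ H.index :=
    (Nat.pow_dvd_pow p (by omega)).trans (Nat.ordProj_dvd _ p)
  set n := Cfsg.charDegree (χ₀ : G → ℂ)
  have hn : p ^ h * (n / p ^ h) = n := by
    rw [show h = n.factorization p from hχ₀h.symm]
    exact Nat.ordProj_mul_ordCompl_eq_self n p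
  have hnb : ¬ p ∣ n / p ^ h := by
    rw [show h = n.factorization p from hχ₀h.symm]
    exact Nat.not_dvd_ordCompl hM.1 (charDegree_pos χ₀.2).ne'
  have e' : Cfsg.centralChar (χ₀ : G → ℂ) x =
      ((p * t : ℕ) : ℂ) * ((χ₀ : G → ℂ) x * ((n / p ^ h : ℕ) : ℂ)⁻¹) := by
    have hb0 : ((n / p ^ h : ℕ) : ℂ) ≠ 0 := Nat.cast_ne_zero.2 fun e => hnb (e ▸ dvd_zero p)
    have hp0 : (p : ℂ) ≠ 0 := Nat.cast_ne_zero.2 hM.1.ne_zero
    rw [Cfsg.centralChar, ← hH, ← charDegree_cast (Char.IsIrr.isCharacter χ₀.2)]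
    conv_lhs => rw [show Cfsg.charDegree (χ₀ : G → ℂ) = n from rfl, ← hn, ht]
    push_cast
    field_simp
    ring
  rw [e']
  exact memLocalIdeal_mul_right hM ((memLocalIdeal_natCast_iff hM _).2 (dvd_mul_right p t))
    ((localRing hM).mul_mem (memLocalRing_char hM (Char.IsIrr.isCharacter χ₀.2) x)
      (memLocalRing_natCast_inv hM hnb))

section Factor

variable [Fact p.Prime] (hM : Cfsg.IsPModular p M) {B : Set (Cfsg.IrrCharacter G)}
  (hB : Cfsg.IsPBlock M B) {g : G} {D : Subgroup G} (hg : Cfsg.IsDefectClass M B g)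
  (hD : IsSylC p g D)
include hM hB hg hD

/-- The central character of a block factors through the Brauer map at a defect group. -/
theorem memLocalIdeal_omega_of_vanish {χ : Cfsg.IrrCharacter G} (hχ : χ ∈ B) {z : G → ℂ}
    (hz : Cfsg.IsClassFunction G z) (hzR : ∀ x, Cfsg.MemLocalRing M (z x))
    (hzD : ∀ x ∈ Subgroup.centralizer (D : Set G), Cfsg.MemLocalIdeal M (z x)) :
    Cfsg.MemLocalIdeal M (omega (χ : G → ℂ) z) := by
  classical
  have : Finite (ConjClasses G) := Quotient.finite _
  have := Fintype.ofFinite (ConjClasses G)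
  have hd := (BlockChar.factorization_centralizer_eq hM hB hg).1
  have hgc := hg.2.2 χ hχ
  have hconv : Cfsg.MemLocalIdeal M (omega (χ : G → ℂ) (conv (classInd g) z)) := by
    rw [omega_eq_sum_classes (Char.isClassFunction_of_isIrr χ.2)
      (isClassFunction_conv (isClassFunction_classInd g) hz)]
    refine memLocalIdeal_sum hM _ fun C _ => ?_
    generalize C.out = x
    have hcR := memLocalRing_centralChar hM χ.2 x
    have hvR := memLocalRing_conv hM (memLocalRing_classInd hM g) hzR x
    by_cases hx : Cfsg.MemLocalIdeal M (Cfsg.centralChar (χ : G → ℂ) x)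
    · exact memLocalIdeal_mul_left hM hvR hx
    refine memLocalIdeal_mul_right hM ?_ hcR
    by_contra hne
    obtain ⟨S, hS⟩ := exists_isSylC p x
    obtain ⟨k, hk⟩ := exists_conj_le_of_conv hM hD hz hzR hne hS.2.1 hS.1
    have heq : S.map (MulAut.conj k).toMonoidHom = D := by
      refine Subgroup.eq_of_le_of_card_ge hk ?_
      rw [card_map_conj, hS.2.2, hD.2.2, hd]
      exact Nat.pow_le_pow_right hM.1.pos (blockDefect_le_of_unit hM hB hχ hx)
    have hkx : k * x * k⁻¹ ∈ Subgroup.centralizer (D : Set G) :=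
      mem_centralizer_of_le (heq ▸ map_conj_le_centralizer hS.1 k)
    refine hne ?_
    rw [← isClassFunction_conv (isClassFunction_classInd g) hz x k]
    have h := memLocalIdeal_conv_sub_fixed hM hD.2.1 (isClassFunction_classInd g) hz
      (memLocalRing_classInd hM g) hzR hkx
    have h2 : Cfsg.MemLocalIdeal M
        (∑ a ∈ Finset.univ.filter (· ∈ Subgroup.centralizer (D : Set G)),
          classInd g a * z (a⁻¹ * (k * x * k⁻¹))) :=
      memLocalIdeal_sum hM _ fun a ha => memLocalIdeal_mul_left hM (memLocalRing_classInd hM g a)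
        (hzD _ (mul_mem (inv_mem (Finset.mem_filter.1 ha).2) hkx))
    simpa using memLocalIdeal_add hM h h2
  rw [omega_conv χ.2 (isClassFunction_classInd g) hz,
    omega_classInd (Char.isClassFunction_of_isIrr χ.2)] at hconv
  exact (memLocalIdeal_of_mul hM (memLocalRing_centralChar hM χ.2 g)
    (memLocalRing_omega hM χ.2 hz hzR) hconv).resolve_left hgc

/-- A class at which a central character of the block is a unit meets the centralizer of a
defect group. -/
theorem exists_conj_mem_centralizer_of_unit {χ : Cfsg.IrrCharacter G} (hχ : χ ∈ B) {h : G}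
    (hh : ¬ Cfsg.MemLocalIdeal M (Cfsg.centralChar (χ : G → ℂ) h)) :
    ∃ k, k * h * k⁻¹ ∈ Subgroup.centralizer (D : Set G) := by
  classical
  by_contra hne
  refine hh ?_
  rw [← omega_classInd (Char.isClassFunction_of_isIrr χ.2)]
  refine memLocalIdeal_omega_of_vanish hM hB hg hD hχ (isClassFunction_classInd h)
    (memLocalRing_classInd hM h) fun x hx => ?_
  rw [classInd_apply, if_neg fun hc => by
    obtain ⟨k, rfl⟩ := isConj_iff.1 hc
    exact hne ⟨k, hx⟩]
  exact memLocalIdeal_zero hM

theorem exists_le_isSylC_of_unit {χ : Cfsg.IrrCharacter G} (hχ : χ ∈ B) {h : G}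
    (hh : ¬ Cfsg.MemLocalIdeal M (Cfsg.centralChar (χ : G → ℂ) h)) :
    ∃ k S, IsSylC p h S ∧ D.map (MulAut.conj k).toMonoidHom ≤ S := by
  obtain ⟨k, hk⟩ := exists_conj_mem_centralizer_of_unit hM hB hg hD hχ hh
  have hle : D ≤ Subgroup.centralizer ({k * h * k⁻¹} : Set G) := fun d hd =>
    Subgroup.mem_centralizer_singleton_iff.2 (Subgroup.mem_centralizer_iff.1 hk d hd)
  have hle' := map_conj_le_centralizer hle k⁻¹
  rw [show k⁻¹ * (k * h * k⁻¹) * k⁻¹⁻¹ = h by group] at hle'
  obtain ⟨S, hS, hle''⟩ := exists_le_isSylC (hD.2.1.map _) hle'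
  exact ⟨k⁻¹, S, hS, hle''⟩

/-- The idempotent of a block is supported modulo `M` on classes whose defect groups lie in a
defect group of the block. -/
theorem exists_conj_le_of_unit_coeff {h : G}
    (hh : ¬ Cfsg.MemLocalIdeal M (Cfsg.blockCoeff B h)) {S : Subgroup G} (hS : IsSylC p h S) :
    ∃ k, S.map (MulAut.conj k).toMonoidHom ≤ D := by
  classical
  obtain ⟨χ, hχ⟩ := IsPBlock.nonempty hM hB
  set e := Cfsg.blockCoeff B with he
  have hec : Cfsg.IsClassFunction G e := isClassFunction_blockCoeff B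
  have heR := memLocalRing_blockCoeff hM hB
  have hgc : Cfsg.IsClassFunction G (classInd g) := isClassFunction_classInd g
  set c := Cfsg.centralChar (χ : G → ℂ) g with hc
  have hcR : Cfsg.MemLocalRing M c := memLocalRing_centralChar hM χ.2 g
  set n : G → ℂ := conv (classInd g) e - c • e with hn
  have hnc : Cfsg.IsClassFunction G n := fun x k => by
    simp [hn, isClassFunction_conv hgc hec x k, hec x k]
  have hnR : ∀ x, Cfsg.MemLocalRing M (n x) := fun x =>
    (localRing hM).sub_mem (memLocalRing_conv hM (memLocalRing_classInd hM g) heR x)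
      ((localRing hM).mul_mem hcR (heR x))
  have hno : ∀ ψ : Cfsg.IrrCharacter G, omega (ψ : G → ℂ) n =
      if ψ ∈ B then Cfsg.centralChar (ψ : G → ℂ) g - c else 0 := fun ψ => by
    rw [hn, omega_sub, omega_smul, omega_conv ψ.2 hgc hec, omega_blockCoeff B ψ,
      omega_classInd (Char.isClassFunction_of_isIrr ψ.2)]
    split_ifs <;> simp
  obtain ⟨K, hK⟩ := exists_cpow_memLocalIdeal hM hnc hnR fun ψ => by
    rw [hno]
    split_ifs with hψ
    · exact IsPBlock.sameBlock hM hB hψ hχ g
    · exact memLocalIdeal_zero hM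
  have hop : ∀ k, ∀ ψ : Cfsg.IrrCharacter G, ψ ∉ B → omega (ψ : G → ℂ) (cpow n (k + 1)) = 0 := by
    intro k ψ hψ
    induction k with
    | zero => rw [BlockChar.cpow_one, hno, if_neg hψ]
    | succ k ih =>
      rw [BlockChar.cpow_succ, omega_conv ψ.2 hnc (isClassFunction_cpow hnc k), ih, mul_zero]
  have hstep : ∀ k, cpow n (k + 2) = conv (classInd g) (cpow n (k + 1)) - c • cpow n (k + 1) := by
    intro k
    rw [BlockChar.cpow_succ]
    have hk := isClassFunction_cpow hnc k
    refine classFun_ext_omega (isClassFunction_conv hnc hk) (fun x y => by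
      simp [isClassFunction_conv hgc hk x y, hk x y]) fun ψ => ?_
    rw [omega_sub, omega_smul, omega_conv ψ.2 hnc hk, omega_conv ψ.2 hgc hk, hno,
      omega_classInd (Char.isClassFunction_of_isIrr ψ.2)]
    by_cases hψ : ψ ∈ B
    · rw [if_pos hψ]; ring
    · rw [if_neg hψ, hop k ψ hψ]; ring
  have hnot : ∀ w : G → ℂ, Cfsg.IsClassFunction G w → (∀ x, Cfsg.MemLocalRing M (w x)) →
      (∀ k, ¬ S.map (MulAut.conj k).toMonoidHom ≤ D) →
        Cfsg.MemLocalIdeal M (conv (classInd g) w h) := by
    intro w hw hwR hno'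
    by_contra hne
    obtain ⟨k, hk⟩ := exists_conj_le_of_conv hM hD hw hwR hne hS.2.1 hS.1
    exact hno' k hk
  by_contra hne
  have hne' : ∀ k, ¬ S.map (MulAut.conj k).toMonoidHom ≤ D := fun k hk => hne ⟨k, hk⟩
  have hmain : ∀ k, Cfsg.MemLocalIdeal M (cpow n (k + 1) h - (-c) ^ (k + 1) * e h) := by
    intro k
    induction k with
    | zero =>
      rw [BlockChar.cpow_one, show n h - (-c) ^ (0 + 1) * e h = conv (classInd g) e h by simp [hn]]
      exact hnot e hec heR hne'
    | succ k ih =>
      rw [show k + 1 + 1 = k + 2 from rfl, hstep,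
        show (conv (classInd g) (cpow n (k + 1)) - c • cpow n (k + 1)) h - (-c) ^ (k + 2) * e h =
          conv (classInd g) (cpow n (k + 1)) h +
            (-c) * (cpow n (k + 1) h - (-c) ^ (k + 1) * e h) by simp; ring]
      exact memLocalIdeal_add hM
        (hnot _ (isClassFunction_cpow hnc k) (memLocalRing_cpow hM hnR _) hne')
        (memLocalIdeal_mul_left hM ((localRing hM).neg_mem hcR) ih)
  have h1 := memLocalIdeal_sub hM (hK (K + 1) (Nat.le_succ K) h) (hmain K)
  rw [sub_sub_cancel] at h1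
  rcases memLocalIdeal_of_mul hM ((localRing hM).pow_mem ((localRing hM).neg_mem hcR) _)
    (heR h) h1 with h2 | h2
  · have : ∀ k, Cfsg.MemLocalIdeal M ((-c) ^ (k + 1)) → Cfsg.MemLocalIdeal M c := by
      intro k
      induction k with
      | zero => intro h3; simpa using memLocalIdeal_neg h3
      | succ k ih =>
        intro h3
        rw [pow_succ] at h3
        rcases memLocalIdeal_of_mul hM ((localRing hM).pow_mem ((localRing hM).neg_mem hcR) _)
          ((localRing hM).neg_mem hcR) h3 with h4 | h4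
        · exact ih h4
        · simpa using memLocalIdeal_neg h4
    exact hg.2.2 χ hχ (this K h2)
  · exact hh h2

end Factor

section Conj

variable [Fact p.Prime] (hM : Cfsg.IsPModular p M) {B : Set (Cfsg.IrrCharacter G)}
  (hB : Cfsg.IsPBlock M B)
include hM hB

theorem exists_defectGroup : ∃ D, Cfsg.IsDefectGroup p M B D := by
  obtain ⟨g, hg⟩ := exists_isDefectClass hM hB
  obtain ⟨S, hS⟩ := exists_isSylC p g
  exact ⟨S, isDefectGroup_iff.2 ⟨g, hg, hS⟩⟩

theorem exists_defectGroup_conj {D E : Subgroup G} (hD : Cfsg.IsDefectGroup p M B D)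
    (hE : Cfsg.IsDefectGroup p M B E) : ∃ k, D.map (MulAut.conj k).toMonoidHom = E := by
  obtain ⟨g, hg, hgD⟩ := isDefectGroup_iff.1 hD
  obtain ⟨h, hh, hhE⟩ := isDefectGroup_iff.1 hE
  obtain ⟨k, hk⟩ := exists_conj_le_of_unit_coeff hM hB hh hhE hg.2.1 hgD
  exact ⟨k, Subgroup.eq_of_le_of_card_ge hk (le_of_eq (by
    rw [card_map_conj, BlockChar.card_defectGroup hM hB hD,
      BlockChar.card_defectGroup hM hB hE]))⟩

/-- A normal p-subgroup lies in every defect group. -/
theorem le_defectGroup_of_normal {D : Subgroup G} (hD : Cfsg.IsDefectGroup p M B D)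
    (Q : Subgroup G) [Q.Normal] (hQ : IsPGroup p Q) : Q ≤ D := by
  obtain ⟨g, hg, hgD⟩ := isDefectGroup_iff.1 hD
  obtain ⟨χ, hχ⟩ := IsPBlock.nonempty hM hB
  have hgQ : g ∈ Subgroup.centralizer (Q : Set G) :=
    not_not.1 fun h => hg.2.2 χ hχ (memLocalIdeal_centralChar_of_notMem Q hM hQ χ h)
  have hle : Q ≤ Subgroup.centralizer ({g} : Set G) := fun q hq =>
    Subgroup.mem_centralizer_singleton_iff.2 (Subgroup.mem_centralizer_iff.1 hgQ q hq)
  obtain ⟨c, -, hc⟩ := hgD.exists_conj_le hQ hle
  intro q hq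
  refine hc ⟨c⁻¹ * q * c, ?_, ?_⟩
  · have := (inferInstance : Q.Normal).conj_mem q hq c⁻¹
    simpa using this
  · simp only [MulEquiv.coe_toMonoidHom, MulAut.conj_apply]
    group

end Conj

/-! ## The Brauer map into a subgroup between `C(P)` and `N(P)` -/

/-- The Brauer map at `P`, into the subgroup `H`. -/
noncomputable def brRes (P H : Subgroup G) (z : G → ℂ) : H → ℂ :=
  open Classical in fun h => if (h : G) ∈ Subgroup.centralizer (P : Set G) then z h else 0

omit [Fintype G] in
theorem mem_centralizer_conj {P : Subgroup G} {k : G}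
    (hk : k ∈ Subgroup.normalizer (P : Set G)) {x : G}
    (hx : x ∈ Subgroup.centralizer (P : Set G)) :
    k * x * k⁻¹ ∈ Subgroup.centralizer (P : Set G) := by
  rw [Subgroup.mem_centralizer_iff] at hx ⊢
  intro u hu
  have hu' : k⁻¹ * u * k ∈ P := by
    have := (Subgroup.mem_normalizer_iff.1 hk (k⁻¹ * u * k)).2
      (by simpa [mul_assoc] using hu)
    exact this
  calc u * (k * x * k⁻¹) = k * ((k⁻¹ * u * k) * x) * k⁻¹ := by group
    _ = k * x * k⁻¹ * u := by rw [hx _ hu']; group

omit [Fintype G] in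
theorem isClassFunction_brRes {P H : Subgroup G} (hHN : H ≤ Subgroup.normalizer (P : Set G))
    {z : G → ℂ} (hz : Cfsg.IsClassFunction G z) : Cfsg.IsClassFunction H (brRes P H z) := by
  classical
  intro h k
  simp only [brRes, Subgroup.coe_mul, Subgroup.coe_inv]
  refine if_congr ⟨fun hc => ?_, mem_centralizer_conj (hHN k.2)⟩ (hz _ _) rfl
  have := mem_centralizer_conj (inv_mem (hHN k.2)) hc
  simpa [mul_assoc] using this

omit [Fintype G] in
theorem memLocalRing_brRes (hM : Cfsg.IsPModular p M) {P H : Subgroup G} {z : G → ℂ}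
    (hz : ∀ x, Cfsg.MemLocalRing M (z x)) (h : H) : Cfsg.MemLocalRing M (brRes P H z h) := by
  simp only [brRes]
  split
  · exact hz _
  · exact (localRing hM).zero_mem

theorem memLocalIdeal_brRes_conv (hM : Cfsg.IsPModular p M) {P H : Subgroup G} [Fintype H]
    (hP : IsPGroup p P) (hCH : Subgroup.centralizer (P : Set G) ≤ H) {z w : G → ℂ}
    (hz : Cfsg.IsClassFunction G z) (hw : Cfsg.IsClassFunction G w)
    (hzR : ∀ x, Cfsg.MemLocalRing M (z x)) (hwR : ∀ x, Cfsg.MemLocalRing M (w x)) (h : H) :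
    Cfsg.MemLocalIdeal M (brRes P H (conv z w) h - conv (brRes P H z) (brRes P H w) h) := by
  classical
  set C := Subgroup.centralizer (P : Set G)
  by_cases hh : (h : G) ∈ C
  · have e : conv (brRes P H z) (brRes P H w) h =
        ∑ a ∈ Finset.univ.filter (· ∈ C), z a * w (a⁻¹ * (h : G)) := by
      rw [Finset.sum_filter, sum_eq_sum_subgroup (N := H)
        (F := fun a => if a ∈ C then z a * w (a⁻¹ * (h : G)) else 0)
        (fun a ha => if_neg fun hc => ha (hCH hc))]
      refine Finset.sum_congr rfl fun a _ => ?_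
      simp only [brRes]
      by_cases ha : (a : G) ∈ C
      · rw [if_pos ha, if_pos ha, if_pos]
        · rfl
        · exact C.mul_mem (C.inv_mem ha) hh
      · rw [if_neg ha, if_neg ha, zero_mul]
    rw [e]
    simp only [brRes]
    rw [if_pos hh]
    exact memLocalIdeal_conv_sub_fixed hM hP hz hw hzR hwR hh
  · have e : conv (brRes P H z) (brRes P H w) h = 0 := by
      refine Finset.sum_eq_zero fun a _ => ?_
      simp only [brRes]
      by_cases ha : (a : G) ∈ C
      · rw [if_neg (c := ((a⁻¹ * h : H) : G) ∈ Subgroup.centralizer (P : Set G)) (fun hc => hh ?_),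
          mul_zero]
        have := C.mul_mem ha hc
        simpa using this
      · rw [if_neg ha, zero_mul]
    rw [e, sub_zero]
    simp only [brRes]
    rw [if_neg hh]
    exact memLocalIdeal_zero hM

theorem memLocalIdeal_brRes_cpow (hM : Cfsg.IsPModular p M) {P H : Subgroup G} [Fintype H]
    (hP : IsPGroup p P) (hCH : Subgroup.centralizer (P : Set G) ≤ H) {z : G → ℂ}
    (hz : Cfsg.IsClassFunction G z) (hzR : ∀ x, Cfsg.MemLocalRing M (z x)) :
    ∀ (k : ℕ) (h : H),
      Cfsg.MemLocalIdeal M (brRes P H (cpow z (k + 1)) h - cpow (brRes P H z) (k + 1) h)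
  | 0, h => by
    rw [BlockChar.cpow_one, BlockChar.cpow_one, sub_self]; exact memLocalIdeal_zero hM
  | k + 1, h => by
    rw [BlockChar.cpow_succ z (k + 1), BlockChar.cpow_succ (brRes P H z) (k + 1)]
    have h1 := memLocalIdeal_brRes_conv hM hP hCH hz (isClassFunction_cpow hz k) hzR
      (memLocalRing_cpow hM hzR _) h
    have h2 : Cfsg.MemLocalIdeal M (conv (brRes P H z) (brRes P H (cpow z (k + 1))) h -
        conv (brRes P H z) (cpow (brRes P H z) (k + 1)) h) := by
      simp only [conv, ← Finset.sum_sub_distrib, ← mul_sub]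
      exact memLocalIdeal_sum hM _ fun a _ => memLocalIdeal_mul_left hM
        (memLocalRing_brRes hM hzR a) (memLocalIdeal_brRes_cpow hM hP hCH hz hzR k _)
    simpa using memLocalIdeal_add hM h1 h2

/-- If all central characters vanish on the image of `z` then a power of `z` vanishes modulo
`M` on the centralizer of `P`. -/
theorem exists_cpow_vanish (hM : Cfsg.IsPModular p M) {P H : Subgroup G} [Fintype H]
    (hP : IsPGroup p P) (hCH : Subgroup.centralizer (P : Set G) ≤ H)
    (hHN : H ≤ Subgroup.normalizer (P : Set G)) {z : G → ℂ} (hz : Cfsg.IsClassFunction G z)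
    (hzR : ∀ x, Cfsg.MemLocalRing M (z x))
    (h0 : ∀ θ : Cfsg.IrrCharacter H,
      Cfsg.MemLocalIdeal M (omega (θ : H → ℂ) (brRes P H z))) :
    ∃ K, ∀ x ∈ Subgroup.centralizer (P : Set G), Cfsg.MemLocalIdeal M (cpow z (K + 1) x) := by
  classical
  obtain ⟨K, hK⟩ := exists_cpow_memLocalIdeal hM (isClassFunction_brRes hHN hz)
    (memLocalRing_brRes hM hzR) h0
  refine ⟨K, fun x hx => ?_⟩
  have h := memLocalIdeal_add hM (memLocalIdeal_brRes_cpow hM hP hCH hz hzR K ⟨x, hCH hx⟩)
    (hK (K + 1) (Nat.le_succ K) ⟨x, hCH hx⟩)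
  rw [sub_add_cancel] at h
  simpa [brRes, if_pos hx] using h

end Cfsg.Agent.DefectThms
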