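import Mathlib
import Cfsg.Agent.BlockThms.DefectGroup
import Cfsg.Agent.BlockChar.RegularSum

/-!
# Consequences of the theory of defect groups
-/

set_option autoImplicit false

namespace Cfsg.Agent.DefectThms

open scoped ComplexConjugate
open Cfsg.Agent Cfsg.Agent.Blocks
open Cfsg.Agent.BlockChar (cpow)
open Cfsg.Agent.BlockThms hiding classInd conv omega IsClass exists_isPModular omega_conv

universe u

variable {G : Type u} [Group G] [Fintype G] {p : ℕ} [Fact p.Prime] {M : Ideal Cfsg.AlgInt}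

omit [Fact p.Prime] in
theorem omega_cpow {χ : G → ℂ} (hχ : Cfsg.IsIrrCharacter G χ) {f : G → ℂ}
    (hf : Cfsg.IsClassFunction G f) : ∀ k, omega χ (cpow f (k + 1)) = omega χ f ^ (k + 1)
  | 0 => by rw [BlockChar.cpow_one, pow_one]
  | k + 1 => by
    rw [BlockChar.cpow_succ, omega_conv hχ hf (isClassFunction_cpow hf k), omega_cpow hχ hf k,
      pow_succ' _ (k + 1)]

omit [Fintype G] [Group G] [Fact p.Prime] in
theorem memLocalIdeal_of_pow (hM : Cfsg.IsPModular p M) {x : ℂ} (hx : Cfsg.MemLocalRing M x) :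
    ∀ k, Cfsg.MemLocalIdeal M (x ^ (k + 1)) → Cfsg.MemLocalIdeal M x
  | 0, h => by simpa using h
  | k + 1, h => by
    rw [pow_succ] at h
    exact (memLocalIdeal_of_mul hM ((localRing hM).pow_mem hx _) hx h).elim
      (memLocalIdeal_of_pow hM hx k) id

/-- The defect group of a class of an induced block. -/
theorem exists_defectGroup_ge_of_induced (hM : Cfsg.IsPModular p M) (H : Subgroup G) [Fintype H]
    {b : Set (Cfsg.IrrCharacter H)} (hb : Cfsg.IsPBlock M b) {B : Set (Cfsg.IrrCharacter G)}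
    (hB : Cfsg.IsPBlock M B) (hind : Cfsg.IsInducedBlock M H b B) {D : Subgroup H}
    (hD : Cfsg.IsDefectGroup p M b D) :
    ∃ E : Subgroup G, Cfsg.IsDefectGroup p M B E ∧ D.map H.subtype ≤ E := by
  classical
  obtain ⟨ξ, hξ⟩ := IsPBlock.nonempty hM hb
  obtain ⟨χ, hχ⟩ := IsPBlock.nonempty hM hB
  set e := Cfsg.blockCoeff B
  have hec : Cfsg.IsClassFunction G e := isClassFunction_blockCoeff B
  have heR := memLocalRing_blockCoeff hM hB
  have : Finite (ConjClasses H) := Quotient.finite _
  have := Fintype.ofFinite (ConjClasses H)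
  obtain ⟨x, hxe, hxc⟩ : ∃ x : H, ¬ Cfsg.MemLocalIdeal M (e x) ∧
      ¬ Cfsg.MemLocalIdeal M (Cfsg.centralChar (ξ : H → ℂ) x) := by
    by_contra hne
    have h := memLocalIdeal_omega_res_sub hM H (Char.isClassFunction_of_isIrr χ.2) hec heR
      (hind.2.2 ξ hξ χ hχ)
    rw [omega_blockCoeff, if_pos hχ, omega_eq_sum_classes (Char.isClassFunction_of_isIrr ξ.2)
      (fun a k => hec (a : G) (k : G))] at h
    have h2 : Cfsg.MemLocalIdeal M (∑ C : ConjClasses H,
        e (C.out : G) * Cfsg.centralChar (ξ : H → ℂ) C.out) := by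
      refine memLocalIdeal_sum hM _ fun C _ => ?_
      by_cases hC : Cfsg.MemLocalIdeal M (e (C.out : G))
      · exact memLocalIdeal_mul_right hM hC (memLocalRing_centralChar hM ξ.2 _)
      · exact memLocalIdeal_mul_left hM (heR _) (not_not.1 fun h' => hne ⟨C.out, hC, h'⟩)
    exact not_memLocalIdeal_one hM (by simpa using memLocalIdeal_sub hM h2 h)
  obtain ⟨g, hg, hgD⟩ := isDefectGroup_iff.1 hD
  obtain ⟨k, S, hS, hkS⟩ := exists_le_isSylC_of_unit hM hb hg hgD hξ hxc
  set D' := (D.map (MulAut.conj k).toMonoidHom).map H.subtype with hD'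
  have hD'le : D' ≤ Subgroup.centralizer ({(x : G)} : Set G) := by
    rintro _ ⟨d, hd, rfl⟩
    rw [Subgroup.mem_centralizer_singleton_iff]
    exact congrArg Subtype.val (Subgroup.mem_centralizer_singleton_iff.1 (hS.1 (hkS hd)))
  obtain ⟨T, hT, hD'T⟩ := exists_le_isSylC (((hgD.2.1).map _).map _ : IsPGroup p D') hD'le
  obtain ⟨E, hE⟩ := exists_defectGroup hM hB
  obtain ⟨gE, hgE, hgEE⟩ := isDefectGroup_iff.1 hE
  obtain ⟨c, hc⟩ := exists_conj_le_of_unit_coeff hM hB hgE hgEE hxe hT
  refine ⟨E.map (MulAut.conj (c * (k : G))⁻¹).toMonoidHom, isDefectGroup_conj hE _, ?_⟩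
  intro y hy
  obtain ⟨d, hd, rfl⟩ := Subgroup.mem_map.1 hy
  refine ⟨c * ((k : G) * (d : G) * (k : G)⁻¹) * c⁻¹, hc ⟨_, hD'T ⟨_, ⟨d, hd, rfl⟩, rfl⟩, rfl⟩, ?_⟩
  simp only [MulEquiv.coe_toMonoidHom, MulAut.conj_apply, Subgroup.coe_subtype]
  group

/-- A defect class has a member in `N(D)` at which some central character of `N(D)` is a
unit. -/
theorem exists_unit_normalizer (hM : Cfsg.IsPModular p M) {B : Set (Cfsg.IrrCharacter G)}
    (hB : Cfsg.IsPBlock M B) {g : G} {D : Subgroup G} (hg : Cfsg.IsDefectClass M B g)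
    (hgD : IsSylC p g D) :
    ∃ (n : Subgroup.normalizer (D : Set G))
      (θ : Cfsg.IrrCharacter (Subgroup.normalizer (D : Set G))),
        (n : G) ∈ Subgroup.centralizer (D : Set G) ∧ IsConj g (n : G) ∧
          ¬ Cfsg.MemLocalIdeal M
            (Cfsg.centralChar (θ : Subgroup.normalizer (D : Set G) → ℂ) n) := by
  classical
  obtain ⟨χ, hχ⟩ := IsPBlock.nonempty hM hB
  set N := Subgroup.normalizer (D : Set G) with hN
  have : Fintype N := Fintype.ofFinite _
  have hCN : Subgroup.centralizer (D : Set G) ≤ N := Subgroup.centralizer_le_normalizer _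
  have hgc := isClassFunction_classInd (G := G) g
  by_contra hne
  obtain ⟨K, hK⟩ := exists_cpow_vanish hM hgD.2.1 hCN le_rfl hgc (memLocalRing_classInd hM g)
    fun θ => by
      have : Finite (ConjClasses N) := Quotient.finite _
      have := Fintype.ofFinite (ConjClasses N)
      rw [omega_eq_sum_classes (Char.isClassFunction_of_isIrr θ.2)
        (isClassFunction_brRes le_rfl hgc)]
      refine memLocalIdeal_sum hM _ fun C _ => ?_
      generalize C.out = n
      simp only [brRes, classInd_apply]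
      split_ifs with h1 h2
      · rw [one_mul]
        exact not_not.1 fun h => hne ⟨n, θ, h1, h2, h⟩
      · rw [zero_mul]; exact memLocalIdeal_zero hM
      · rw [zero_mul]; exact memLocalIdeal_zero hM
  have h := memLocalIdeal_omega_of_vanish hM hB hg hgD hχ (isClassFunction_cpow hgc K)
    (memLocalRing_cpow hM (memLocalRing_classInd hM g) _) hK
  rw [omega_cpow χ.2 hgc, omega_classInd (Char.isClassFunction_of_isIrr χ.2)] at h
  exact hg.2.2 χ hχ (memLocalIdeal_of_pow hM (memLocalRing_centralChar hM χ.2 g) K h)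

/-- `O_p` of the normalizer of a defect group is the defect group. -/
theorem pCore_normalizer_eq (hM : Cfsg.IsPModular p M) {B : Set (Cfsg.IrrCharacter G)}
    (hB : Cfsg.IsPBlock M B) {D : Subgroup G} (hD : Cfsg.IsDefectGroup p M B D) :
    (Cfsg.pCore p (Subgroup.normalizer (D : Set G))).map
      (Subgroup.normalizer (D : Set G)).subtype = D := by
  classical
  obtain ⟨g, hg, hgD⟩ := isDefectGroup_iff.1 hD
  set N := Subgroup.normalizer (D : Set G) with hN
  have : Fintype N := Fintype.ofFinite _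
  have hDN : D ≤ N := Subgroup.le_normalizer
  obtain ⟨n, θ, hnC, hng, hnθ⟩ := exists_unit_normalizer hM hB hg hgD
  set Q := Cfsg.pCore p N
  have hQ : IsPGroup p Q := Core.pCore_isPGroup
  have hDQ : D ≤ Q.map N.subtype := by
    intro d hd
    have : (D.subgroupOf N).Normal := Subgroup.normal_subgroupOf_iff_le_normalizer hDN |>.2 le_rfl
    exact ⟨⟨d, hDN hd⟩, Core.le_pCore (N := D.subgroupOf N)
      (hgD.2.1.comap_subtype) hd, rfl⟩
  have hnQ : n ∈ Subgroup.centralizer (Q : Set N) :=
    not_not.1 fun h => hnθ (memLocalIdeal_centralChar_of_notMem Q hM hQ θ h)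
  refine (Subgroup.eq_of_le_of_card_ge hDQ ?_).symm
  have hle : Q.map N.subtype ≤ Subgroup.centralizer ({(n : G)} : Set G) := by
    rintro _ ⟨q, hq, rfl⟩
    exact Subgroup.mem_centralizer_singleton_iff.2
      (congrArg Subtype.val (Subgroup.mem_centralizer_iff.1 hnQ q hq))
  obtain ⟨k, hk⟩ := isConj_iff.1 hng
  obtain ⟨c, -, hc⟩ := (hgD.conj k).exists_conj_le (hQ.map N.subtype) (hk ▸ hle)
  have h1 := Nat.le_of_dvd Nat.card_pos (Subgroup.card_dvd_of_le hc)
  rwa [card_map_conj, card_map_conj] at h1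

omit [Fact p.Prime] in
/-- A subgroup between `C(P)` and `N(P)`: the induced central character is the Brauer one. -/
theorem memLocalIdeal_induced_sub_brRes (hM : Cfsg.IsPModular p M) {P H : Subgroup G} [Fintype H]
    (hP : IsPGroup p P) (hPH : P ≤ H) (hHN : H ≤ Subgroup.normalizer (P : Set G))
    (ξ : Cfsg.IrrCharacter H) (g : G) :
    Cfsg.MemLocalIdeal M (Cfsg.inducedCentralChar H (ξ : H → ℂ) g -
      omega (ξ : H → ℂ) (brRes P H (classInd g))) := by
  classical
  have : Finite (ConjClasses H) := Quotient.finite _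
  have := Fintype.ofFinite (ConjClasses H)
  have hc : Cfsg.IsClassFunction H (fun h : H => classInd g (h : G)) := fun a k =>
    isClassFunction_classInd g (a : G) (k : G)
  rw [← omega_classInd_res, omega_eq_sum_classes (Char.isClassFunction_of_isIrr ξ.2) hc,
    omega_eq_sum_classes (Char.isClassFunction_of_isIrr ξ.2)
      (isClassFunction_brRes hHN (isClassFunction_classInd g)), ← Finset.sum_sub_distrib]
  refine memLocalIdeal_sum hM _ fun C _ => ?_
  generalize C.out = h
  by_cases hh : (h : G) ∈ Subgroup.centralizer (P : Set G)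
  · simp only [brRes, if_pos hh]
    rw [sub_self]
    exact memLocalIdeal_zero hM
  · simp only [brRes, if_neg hh, zero_mul, sub_zero]
    have : (P.subgroupOf H).Normal := (Subgroup.normal_subgroupOf_iff_le_normalizer hPH).2 hHN
    refine memLocalIdeal_mul_left hM (memLocalRing_classInd hM g _)
      (memLocalIdeal_centralChar_of_notMem (P.subgroupOf H) hM hP.comap_subtype ξ fun hc' => hh ?_)
    rw [Subgroup.mem_centralizer_iff]
    intro u hu
    exact congrArg Subtype.val (Subgroup.mem_centralizer_iff.1 hc' ⟨u, hPH hu⟩ hu)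

omit [Fintype G] [Fact p.Prime] in
theorem brRes_sub (P H : Subgroup G) (z w : G → ℂ) :
    brRes P H (z - w) = brRes P H z - brRes P H w := by
  classical
  funext h
  simp only [brRes, Pi.sub_apply]
  split_ifs <;> simp

omit [Fintype G] [Fact p.Prime] in
theorem brRes_smul (P H : Subgroup G) (c : ℂ) (z : G → ℂ) :
    brRes P H (c • z) = c • brRes P H z := by
  classical
  funext h
  simp only [brRes, Pi.smul_apply, smul_eq_mul]
  split_ifs <;> simp

omit [Fact p.Prime] in
/-- The values of a central character on the image of a product. -/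
theorem memLocalIdeal_omega_brRes_conv (hM : Cfsg.IsPModular p M) {P H : Subgroup G} [Fintype H]
    (hP : IsPGroup p P) (hCH : Subgroup.centralizer (P : Set G) ≤ H)
    (hHN : H ≤ Subgroup.normalizer (P : Set G)) (ξ : Cfsg.IrrCharacter H) {z w : G → ℂ}
    (hz : Cfsg.IsClassFunction G z) (hw : Cfsg.IsClassFunction G w)
    (hzR : ∀ x, Cfsg.MemLocalRing M (z x)) (hwR : ∀ x, Cfsg.MemLocalRing M (w x)) :
    Cfsg.MemLocalIdeal M (omega (ξ : H → ℂ) (brRes P H (conv z w)) -
      omega (ξ : H → ℂ) (brRes P H z) * omega (ξ : H → ℂ) (brRes P H w)) := by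
  classical
  have hzc := isClassFunction_brRes hHN hz
  have hwc := isClassFunction_brRes hHN hw
  rw [← omega_conv ξ.2 hzc hwc, ← omega_sub]
  have : Finite (ConjClasses H) := Quotient.finite _
  have := Fintype.ofFinite (ConjClasses H)
  rw [omega_eq_sum_classes (Char.isClassFunction_of_isIrr ξ.2) (fun a k => by
    simp only [Pi.sub_apply]
    rw [isClassFunction_brRes hHN (isClassFunction_conv hz hw) a k,
      isClassFunction_conv hzc hwc a k])]
  exact memLocalIdeal_sum hM _ fun C _ => memLocalIdeal_mul_right hM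
    (memLocalIdeal_brRes_conv hM hP hCH hz hw hzR hwR _) (memLocalRing_centralChar hM ξ.2 _)

omit [Fact p.Prime] in
/-- A character whose Brauer composite is a unit on a block idempotent agrees with the central
character of that block. -/
theorem memLocalIdeal_omega_brRes_sub (hM : Cfsg.IsPModular p M) {P H : Subgroup G} [Fintype H]
    (hP : IsPGroup p P) (hCH : Subgroup.centralizer (P : Set G) ≤ H)
    (hHN : H ≤ Subgroup.normalizer (P : Set G)) (ξ : Cfsg.IrrCharacter H)
    {B : Set (Cfsg.IrrCharacter G)} (hB : Cfsg.IsPBlock M B) {χ : Cfsg.IrrCharacter G}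
    (hχ : χ ∈ B)
    (hu : ¬ Cfsg.MemLocalIdeal M (omega (ξ : H → ℂ) (brRes P H (Cfsg.blockCoeff B))))
    {z : G → ℂ} (hz : Cfsg.IsClassFunction G z) (hzR : ∀ x, Cfsg.MemLocalRing M (z x)) :
    Cfsg.MemLocalIdeal M (omega (ξ : H → ℂ) (brRes P H z) - omega (χ : G → ℂ) z) := by
  classical
  set e := Cfsg.blockCoeff B
  have hec : Cfsg.IsClassFunction G e := isClassFunction_blockCoeff B
  have heR := memLocalRing_blockCoeff hM hB
  set c := omega (χ : G → ℂ) z with hc
  have hcR : Cfsg.MemLocalRing M c := memLocalRing_omega hM χ.2 hz hzR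
  set lam : (G → ℂ) → ℂ := fun f => omega (ξ : H → ℂ) (brRes P H f) with hlam
  have hlamR : ∀ f : G → ℂ, Cfsg.IsClassFunction G f → (∀ x, Cfsg.MemLocalRing M (f x)) →
      Cfsg.MemLocalRing M (lam f) := fun f hf hfR =>
    memLocalRing_omega hM ξ.2 (isClassFunction_brRes hHN hf) (memLocalRing_brRes hM hfR)
  set n := conv e z - c • e with hn
  have hnc : Cfsg.IsClassFunction G n := fun x k => by
    simp [hn, isClassFunction_conv hec hz x k, hec x k]
  have hnR : ∀ x, Cfsg.MemLocalRing M (n x) := fun x =>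
    (localRing hM).sub_mem (memLocalRing_conv hM heR hzR x) ((localRing hM).mul_mem hcR (heR x))
  obtain ⟨K, hK⟩ := exists_cpow_memLocalIdeal hM hnc hnR fun ψ => by
    rw [hn, omega_sub, omega_smul, omega_conv ψ.2 hec hz, omega_blockCoeff B ψ]
    by_cases hψ : ψ ∈ B
    · rw [if_pos hψ, one_mul, mul_one]
      exact memLocalIdeal_omega_sub hM ψ.2 χ.2 hz hzR (IsPBlock.sameBlock hM hB hψ hχ)
    · rw [if_neg hψ, zero_mul, mul_zero, sub_zero]
      exact memLocalIdeal_zero hM
  have hpow : ∀ k, Cfsg.MemLocalIdeal M (lam (cpow n (k + 1)) - lam n ^ (k + 1)) := by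
    intro k
    induction k with
    | zero => rw [BlockChar.cpow_one, pow_one, sub_self]; exact memLocalIdeal_zero hM
    | succ k ih =>
      rw [BlockChar.cpow_succ, pow_succ' _ (k + 1)]
      have h := memLocalIdeal_omega_brRes_conv hM hP hCH hHN ξ hnc (isClassFunction_cpow hnc k)
        hnR (memLocalRing_cpow hM hnR _)
      have h2 := memLocalIdeal_mul_left hM (hlamR n hnc hnR) ih
      have e : lam (conv n (cpow n (k + 1))) - lam n * lam n ^ (k + 1) =
          (lam (conv n (cpow n (k + 1))) - lam n * lam (cpow n (k + 1))) +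
            lam n * (lam (cpow n (k + 1)) - lam n ^ (k + 1)) := by ring
      rw [e]
      exact memLocalIdeal_add hM h h2
  have hz0 : Cfsg.MemLocalIdeal M (lam (cpow n (K + 1))) := by
    have : Finite (ConjClasses H) := Quotient.finite _
    have := Fintype.ofFinite (ConjClasses H)
    simp only [hlam]
    rw [omega_eq_sum_classes (Char.isClassFunction_of_isIrr ξ.2)
      (isClassFunction_brRes hHN (isClassFunction_cpow hnc K))]
    refine memLocalIdeal_sum hM _ fun C _ =>
      memLocalIdeal_mul_right hM ?_ (memLocalRing_centralChar hM ξ.2 _)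
    simp only [brRes]
    split
    · exact hK _ (Nat.le_succ K) _
    · exact memLocalIdeal_zero hM
  have hn0 : Cfsg.MemLocalIdeal M (lam n) := memLocalIdeal_of_pow hM (hlamR n hnc hnR) K
    (by simpa using memLocalIdeal_sub hM hz0 (hpow K))
  have hn1 : lam n = lam (conv e z) - c * lam e := by
    simp only [hlam, hn, brRes_sub, brRes_smul, omega_sub, omega_smul]
  have h := memLocalIdeal_omega_brRes_conv hM hP hCH hHN ξ hec hz heR hzR
  have h' : Cfsg.MemLocalIdeal M (lam e * (lam z - c)) := by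
    have e1 : lam e * (lam z - c) = lam n - (lam (conv e z) - lam e * lam z) := by
      rw [hn1]; ring
    rw [e1]
    exact memLocalIdeal_sub hM hn0 h
  exact (memLocalIdeal_of_mul hM (hlamR e hec heR)
    ((localRing hM).sub_mem (hlamR z hz hzR) hcR) h').resolve_left hu

/-- Induction to `G` from a subgroup between `PC(P)` and `N(P)`. -/
theorem exists_inducing_iff (hM : Cfsg.IsPModular p M) {P H : Subgroup G} [Fintype H]
    (hP : IsPGroup p P) (hPH : P ⊔ Subgroup.centralizer (P : Set G) ≤ H)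
    (hHN : H ≤ Subgroup.normalizer (P : Set G)) {B : Set (Cfsg.IrrCharacter G)}
    (hB : Cfsg.IsPBlock M B) :
    (∃ b : Set (Cfsg.IrrCharacter H), Cfsg.IsInducedBlock M H b B) ↔
      ∃ D : Subgroup G, Cfsg.IsDefectGroup p M B D ∧
        ∃ x : G, P.map (MulAut.conj x).toMonoidHom ≤ D := by
  classical
  have hPH' : P ≤ H := le_sup_left.trans hPH
  have hCH : Subgroup.centralizer (P : Set G) ≤ H := le_sup_right.trans hPH
  obtain ⟨χ, hχ⟩ := IsPBlock.nonempty hM hB
  obtain ⟨D, hD⟩ := exists_defectGroup hM hB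
  obtain ⟨g, hg, hgD⟩ := isDefectGroup_iff.1 hD
  constructor
  · rintro ⟨b, hb⟩
    obtain ⟨ξ, hξ⟩ := IsPBlock.nonempty hM hb.1
    obtain ⟨h, hhC, hgh⟩ : ∃ h : H, (h : G) ∈ Subgroup.centralizer (P : Set G) ∧
        IsConj g (h : G) := by
      by_contra hne
      refine hg.2.2 χ hχ ?_
      have h1 := memLocalIdeal_induced_sub_brRes hM hP hPH' hHN ξ g
      have h2 : brRes P H (classInd g) = 0 := by
        funext h
        simp only [brRes, Pi.zero_apply]
        split_ifs with hh
        · rw [classInd_apply, if_neg fun hgh => hne ⟨h, hh, hgh⟩]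
        · rfl
      rw [h2, show omega (ξ : H → ℂ) (0 : H → ℂ) = 0 by simp [omega], sub_zero] at h1
      simpa using memLocalIdeal_sub hM h1 (hb.2.2 ξ hξ χ hχ g)
    obtain ⟨k, hk⟩ := isConj_iff.1 hgh
    have hle : P ≤ Subgroup.centralizer ({(h : G)} : Set G) := fun u hu =>
      Subgroup.mem_centralizer_singleton_iff.2 (Subgroup.mem_centralizer_iff.1 hhC u hu)
    obtain ⟨c, -, hc⟩ := (hgD.conj k).exists_conj_le hP (hk ▸ hle)
    exact ⟨_, isDefectGroup_conj hD k, c, hc⟩
  · rintro ⟨E, hE, x, hx⟩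
    obtain ⟨gE, hgE, hgEE⟩ := isDefectGroup_iff.1 hE
    set e := Cfsg.blockCoeff B
    have hec : Cfsg.IsClassFunction G e := isClassFunction_blockCoeff B
    have heR := memLocalRing_blockCoeff hM hB
    obtain ⟨ξ, hξ⟩ : ∃ ξ : Cfsg.IrrCharacter H,
        ¬ Cfsg.MemLocalIdeal M (omega (ξ : H → ℂ) (brRes P H e)) := by
      by_contra! hall
      obtain ⟨K, hK⟩ := exists_cpow_vanish hM hP hCH hHN hec heR hall
      have hy : x⁻¹ * gE * x ∈ Subgroup.centralizer (P : Set G) := by
        rw [Subgroup.mem_centralizer_iff]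
        intro u hu
        have h := Subgroup.mem_centralizer_singleton_iff.1 (hgEE.1 (hx ⟨u, hu, rfl⟩))
        simp only [MulEquiv.coe_toMonoidHom, MulAut.conj_apply] at h
        calc u * (x⁻¹ * gE * x) = x⁻¹ * (x * u * x⁻¹ * gE) * x := by group
          _ = x⁻¹ * gE * x * u := by rw [h]; group
      have h := hK _ hy
      rw [cpow_idem (blockCoeff_conv B)] at h
      refine hgE.2.1 ?_
      have e1 := hec gE x⁻¹
      rw [inv_inv] at e1
      exact (show e (x⁻¹ * gE * x) = Cfsg.blockCoeff B gE from e1) ▸ h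
    refine ⟨Cfsg.blockOf M (ξ : H → ℂ), isPBlock_blockOf ξ, hB, fun ξ' hξ' χ' hχ' y => ?_⟩
    have hξ'' : ¬ Cfsg.MemLocalIdeal M (omega (ξ' : H → ℂ) (brRes P H e)) := fun h => hξ (by
      simpa using memLocalIdeal_add hM h (memLocalIdeal_omega_sub hM ξ.2 ξ'.2
        (isClassFunction_brRes hHN hec) (memLocalRing_brRes hM heR) hξ'))
    have h2 := memLocalIdeal_omega_brRes_sub hM hP hCH hHN ξ' hB hχ' hξ''
      (isClassFunction_classInd y) (memLocalRing_classInd hM y)
    rw [omega_classInd (Char.isClassFunction_of_isIrr χ'.2)] at h2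
    simpa using memLocalIdeal_add hM (memLocalIdeal_induced_sub_brRes hM hP hPH' hHN ξ' y) h2

omit [Fact p.Prime] in
/-- The number of blocks of defect at least `d`. -/
theorem card_blocks_le (hM : Cfsg.IsPModular p M) (d : ℕ) :
    Nat.card {B : Set (Cfsg.IrrCharacter G) // Cfsg.IsPBlock M B ∧ d ≤ Cfsg.blockDefect p B} ≤
      Nat.card {C : ConjClasses G // ∃ g : G, ConjClasses.mk g = C ∧ Cfsg.IsPRegular p g ∧
        d ≤ (Nat.card (Subgroup.centralizer ({g} : Set G))).factorization p} := by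
  classical
  have := hM.2.1
  let _ := Ideal.Quotient.field M
  have : Finite (ConjClasses G) := Quotient.finite _
  have := Fintype.ofFinite (ConjClasses G)
  set S := {B : Set (Cfsg.IrrCharacter G) // Cfsg.IsPBlock M B ∧ d ≤ Cfsg.blockDefect p B}
  set T := {C : ConjClasses G // ∃ g : G, ConjClasses.mk g = C ∧ Cfsg.IsPRegular p g ∧
        d ≤ (Nat.card (Subgroup.centralizer ({g} : Set G))).factorization p}
  have hrep : ∀ B : S, ∃ χ, χ ∈ B.1 := fun B => IsPBlock.nonempty hM B.2.1
  choose χ hχ using hrep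
  let A : Matrix S T (localRing hM) := fun B C =>
    ⟨Cfsg.centralChar (χ B : G → ℂ) C.1.out, memLocalRing_centralChar hM (χ B).2 _⟩
  let E : Matrix T S (localRing hM) := fun C B =>
    ⟨Cfsg.blockCoeff B.1 C.1.out, memLocalRing_blockCoeff hM B.2.1 _⟩
  have hAE : A.map (residue hM) * E.map (residue hM) = 1 := by
    rw [← Matrix.map_mul]
    ext B B'
    rw [Matrix.map_apply, Matrix.one_apply]
    have h : omega (χ B : G → ℂ) (Cfsg.blockCoeff B'.1) = if B = B' then 1 else 0 := by
      rw [omega_blockCoeff]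
      refine if_congr ⟨fun h => Subtype.ext ?_, fun h => h ▸ hχ B⟩ rfl rfl
      rw [IsPBlock.eq_blockOf hM B.2.1 (hχ B), IsPBlock.eq_blockOf hM B'.2.1 h]
    rw [show (if B = B' then (1 : Cfsg.AlgInt ⧸ M) else 0) =
      residue hM (if B = B' then 1 else 0) by split_ifs <;> simp, residue_eq_iff]
    have hval : ((if B = B' then 1 else 0 : localRing hM) : ℂ) = if B = B' then 1 else 0 := by
      split_ifs <;> rfl
    rw [hval, ← h, omega_eq_sum_classes (Char.isClassFunction_of_isIrr (χ B).2)
      (isClassFunction_blockCoeff _), Matrix.mul_apply, AddSubmonoidClass.coe_finsetSum]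
    simp only [A, E, MulMemClass.coe_mul]
    rw [← Finset.sum_subtype (Finset.univ.filter fun C : ConjClasses G => ∃ g : G,
        ConjClasses.mk g = C ∧ Cfsg.IsPRegular p g ∧
          d ≤ (Nat.card (Subgroup.centralizer ({g} : Set G))).factorization p) (fun C => by simp)
      (fun C : ConjClasses G => Cfsg.centralChar (χ B : G → ℂ) C.out *
        Cfsg.blockCoeff B'.1 C.out),
      Finset.sum_filter, ← Finset.sum_sub_distrib]
    refine memLocalIdeal_sum hM _ fun C _ => ?_
    have hbR := memLocalRing_blockCoeff hM B'.2.1 C.out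
    have hcR := memLocalRing_centralChar hM (χ B).2 C.out
    split_ifs with hC
    · rw [mul_comm, sub_self]; exact memLocalIdeal_zero hM
    · rw [zero_sub]
      refine memLocalIdeal_neg ?_
      by_cases hr : Cfsg.IsPRegular p C.out
      · refine memLocalIdeal_mul_left hM hbR (not_not.1 fun hu => hC
          ⟨C.out, Quotient.out_eq C, hr, B.2.2.trans (blockDefect_le_of_unit hM B.2.1 (hχ B) hu)⟩)
      · rw [BlockChar.blockCoeff_eq_zero hM B'.2.1 hr, zero_mul]
        exact memLocalIdeal_zero hM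
  rw [Nat.card_eq_fintype_card, Nat.card_eq_fintype_card]
  have hr := Matrix.rank_mul_le_left (A.map (residue hM)) (E.map (residue hM))
  rw [hAE, Matrix.rank_one] at hr
  exact hr.trans (Matrix.rank_le_card_width _)

/-- A character of full degree relative to a central p-subgroup. -/
theorem central_defect (hM : Cfsg.IsPModular p M) (D : Subgroup G) (hD : IsPGroup p D)
    (hDZ : D ≤ Subgroup.center G) (χ : Cfsg.IrrCharacter G)
    (hdeg : (Cfsg.charDegree (χ : G → ℂ)).factorization p = D.index.factorization p) :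
    Cfsg.IsDefectGroup p M (Cfsg.blockOf M (χ : G → ℂ)) D ∧
      ∀ g x : G, Cfsg.IsPPart p g x → x ∉ D → (χ : G → ℂ) g = 0 := by
  classical
  have hp := hM.1
  have hχc := Char.IsIrr.isCharacter χ.2
  set n := Cfsg.charDegree (χ : G → ℂ) with hn
  have hn0 : 0 < n := charDegree_pos χ.2
  have hn1 : (χ : G → ℂ) 1 = (n : ℂ) := (charDegree_cast hχc).symm
  obtain ⟨δ, hδ⟩ := IsPGroup.iff_card.1 hD
  set a := (Nat.card G).factorization p
  have haδ : a = n.factorization p + δ := by
    have e := congrArg (fun m => m.factorization p) (Subgroup.index_mul_card D)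
    simp only [Nat.factorization_mul Subgroup.index_ne_zero_of_finite Nat.card_pos.ne',
      Finsupp.add_apply] at e
    rw [hδ, hp.factorization_pow, Finsupp.single_eq_same] at e
    rw [hdeg]
    exact e.symm
  -- the sum of the squares of absolute values over the p-regular elements
  obtain ⟨k, hk⟩ := BlockChar.exists_int_regSum hp
    (Char.isCharacter_mul hχc (Char.isCharacter_conj hχc))
  replace hk : BlockChar.regSum p (fun x => (χ : G → ℂ) x * conj ((χ : G → ℂ) x)) =
      ((Nat.card G / p ^ (Nat.card G).factorization p : ℕ) : ℂ) * (k : ℂ) := hk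
  set m := Nat.card G / p ^ a with hm
  have hm' : p ^ a * m = Nat.card G := Nat.ordProj_mul_ordCompl_eq_self _ p
  have hmp : ¬ p ∣ m := Nat.not_dvd_ordCompl hp Nat.card_pos.ne'
  have hS : BlockChar.regSum p (fun x => (χ : G → ℂ) x * conj ((χ : G → ℂ) x)) =
      ∑ x, eta p (χ : G → ℂ) x * (χ : G → ℂ) x := by
    rw [BlockChar.regSum_eq_filter, Finset.sum_filter]
    refine Finset.sum_congr rfl fun x _ => ?_
    by_cases hx : Cfsg.IsPRegular p x
    · rw [if_pos hx, eta_of_regular _ hx, mul_comm]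
    · rw [if_neg hx, eta_of_singular _ hx, zero_mul]
  have hnat : ∀ x : G, (χ : G → ℂ) x * conj ((χ : G → ℂ) x) =
      ((Complex.normSq ((χ : G → ℂ) x) : ℝ) : ℂ) := fun x => Complex.mul_conj _
  -- divisibility by the p-part of the degree
  have hdvd : ((p ^ n.factorization p : ℕ) : ℤ) ∣ k := by
    have hw := memLocalRing_omega hM χ.2
      (isClassFunction_eta (p := p) (Char.isClassFunction_of_isIrr χ.2))
      (memLocalRing_eta hM hχc)
    set w := omega (χ : G → ℂ) (eta p (χ : G → ℂ)) with hwdef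
    have hkw : (m : ℂ) * (k : ℂ) = (n : ℂ) * w := by
      rw [hwdef, omega, ← hS, hk, hn1, mul_div_cancel₀ _ (Nat.cast_ne_zero.2 hn0.ne'), hm]
    have key : ∀ j ≤ n.factorization p, ((p ^ j : ℕ) : ℤ) ∣ k := by
      intro j
      induction j with
      | zero => simp
      | succ j ih =>
        intro hj
        obtain ⟨u, hu⟩ := ih (by omega)
        rw [hu, pow_succ, Nat.cast_mul]
        refine mul_dvd_mul_left _ ?_
        rw [← memLocalIdeal_intCast_iff hM]
        obtain ⟨c, hc⟩ : p ^ (j + 1) ∣ n := (pow_dvd_pow p hj).trans (Nat.ordProj_dvd _ _)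
        have e : (u : ℂ) = (p : ℂ) * ((c : ℂ) * w * (m : ℂ)⁻¹) := by
          have hp0 : (p : ℂ) ^ j ≠ 0 := pow_ne_zero _ (Nat.cast_ne_zero.2 hp.ne_zero)
          have hm0 : (m : ℂ) ≠ 0 := Nat.cast_ne_zero.2 fun h => hmp (h ▸ dvd_zero p)
          rw [hu, hc] at hkw
          push_cast at hkw
          apply mul_left_cancel₀ (mul_ne_zero hm0 hp0)
          rw [mul_assoc, hkw]
          field_simp
          ring
        rw [e]
        exact memLocalIdeal_mul_right hM ((memLocalIdeal_natCast_iff hM p).2 dvd_rfl)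
          ((localRing hM).mul_mem ((localRing hM).mul_mem (memLocalRing_natCast hM c) hw)
            (memLocalRing_natCast_inv hM hmp))
    exact key _ le_rfl
  obtain ⟨j, hj⟩ := hdvd
  -- real sums
  set r : G → ℝ := fun x => Complex.normSq ((χ : G → ℂ) x) with hr
  have hreg : ((∑ x ∈ Finset.univ.filter (Cfsg.IsPRegular p), r x : ℝ) : ℂ) =
      ((m * p ^ n.factorization p : ℕ) : ℂ) * (j : ℂ) := by
    have : ((∑ x ∈ Finset.univ.filter (Cfsg.IsPRegular p), r x : ℝ) : ℂ) =
        BlockChar.regSum p (fun x => (χ : G → ℂ) x * conj ((χ : G → ℂ) x)) := by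
      rw [BlockChar.regSum_eq_filter]
      push_cast
      exact Finset.sum_congr rfl fun x _ => (hnat x).symm
    rw [this, hk, hj, hm]
    push_cast
    ring
  have hreg' : ∑ x ∈ Finset.univ.filter (Cfsg.IsPRegular p), r x =
      ((m * p ^ n.factorization p : ℕ) : ℝ) * (j : ℝ) := by
    apply Complex.ofReal_injective
    rw [hreg]
    push_cast
    rfl
  have htot : ∑ x, r x = (Nat.card G : ℝ) := by
    apply Complex.ofReal_injective
    have h := Char.classInner_irr_self χ.2
    rw [Cfsg.classInner, inv_mul_eq_iff_eq_mul₀ Char.card_ne_zero, mul_one] at h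
    push_cast
    rw [← h]
    exact Finset.sum_congr rfl fun x _ => (hnat x).symm
  have hpos : 0 < ∑ x ∈ Finset.univ.filter (Cfsg.IsPRegular p), r x := by
    refine lt_of_lt_of_le ?_ (Finset.single_le_sum (fun x _ => Complex.normSq_nonneg _)
      (Finset.mem_filter.2 ⟨Finset.mem_univ (1 : G), by
        rw [Cfsg.IsPRegular, orderOf_one]; exact hp.not_dvd_one⟩))
    exact Complex.normSq_pos.2 (Char.IsIrr.one_ne_zero χ.2)
  have hj1 : (1 : ℝ) ≤ (j : ℝ) := by
    rw [hreg'] at hpos
    have : (0 : ℝ) < (j : ℝ) := by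
      by_contra hle
      push Not at hle
      exact absurd hpos (not_lt.2 (mul_nonpos_of_nonneg_of_nonpos (Nat.cast_nonneg _) hle))
    exact_mod_cast (Int.add_one_le_iff.2 (by exact_mod_cast this) : (0 : ℤ) + 1 ≤ j)
  -- elements with p-part in D
  have hval : ∀ (x : G) (u : D), r (x * (u : G)) = r x := by
    intro x u
    simp only [hr]
    have hcz : Subgroup.centralizer ({(u : G)} : Set G) = ⊤ := by
      rw [Subgroup.eq_top_iff']
      intro y
      rw [Subgroup.mem_centralizer_singleton_iff]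
      exact Subgroup.mem_center_iff.1 (hDZ u.2) y
    obtain ⟨l, hl, hlv⟩ : ∃ l : ℂ, Complex.normSq l = 1 ∧
        ∀ y, (χ : G → ℂ) (y * (u : G)) = l * (χ : G → ℂ) y := by
      obtain ⟨q, ρ, hρ, hρe⟩ := χ.2
      obtain ⟨l, hl, -⟩ := Char.sum_smul_rep_eq_scalar ρ hρ (isClassFunction_classInd (u : G))
      have hsum : ∑ y, classInd (u : G) y • ρ y = ρ (u : G) := by
        rw [Finset.sum_eq_single (u : G)]
        · rw [classInd_apply, if_pos (IsConj.refl _), one_smul]
        · intro y _ hy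
          rw [classInd_apply, if_neg, zero_smul]
          intro hc
          obtain ⟨t, ht⟩ := isConj_iff.1 hc
          refine hy ?_
          rw [← ht, Subgroup.mem_center_iff.1 (hDZ u.2) t, mul_inv_cancel_right]
        · simp
      rw [hsum] at hl
      refine ⟨l, ?_, fun y => ?_⟩
      · obtain ⟨hnt, -⟩ := Char.isIrreducible_iff.1 hρ
        obtain ⟨v, hv⟩ := exists_ne (0 : Fin q → ℂ)
        have hpw : ∀ s : ℕ, ρ ((u : G) ^ s) v = l ^ s • v := fun s => by
          induction s with
          | zero => simp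
          | succ s ih =>
            rw [pow_succ', map_mul, Module.End.mul_apply, ih, map_smul, hl]
            simp [smul_smul, pow_succ']
            rw [mul_comm]
        have h1 := hpw (orderOf (u : G))
        rw [pow_orderOf_eq_one, map_one, Module.End.one_apply] at h1
        have h2 : l ^ orderOf (u : G) = 1 :=
          smul_left_injective ℂ hv (by simp only [one_smul]; exact h1.symm)
        rw [Complex.normSq_eq_norm_sq,
          Complex.norm_eq_one_of_pow_eq_one h2 (orderOf_pos (u : G)).ne', one_pow]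
      · rw [← hρe]
        show LinearMap.trace ℂ _ (ρ (y * (u : G))) = l * LinearMap.trace ℂ _ (ρ y)
        rw [map_mul, hl, mul_smul_comm, map_smul, smul_eq_mul, ← Module.End.one_eq_id, mul_one]
    rw [hlv, map_mul, hl, one_mul]
  have hset : ∑ x ∈ Finset.univ.filter (fun x => pPartOf p x ∈ D), r x =
      (Nat.card D : ℝ) * ∑ x ∈ Finset.univ.filter (Cfsg.IsPRegular p), r x := by
    rw [Nat.card_eq_fintype_card, ← nsmul_eq_mul, ← Finset.card_univ, ← Finset.sum_const,
      ← Finset.sum_product']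
    symm
    refine Finset.sum_bij' (fun t _ => t.2 * (t.1 : G))
      (fun y hy => (⟨pPartOf p y, (Finset.mem_filter.1 hy).2⟩, pPrimePartOf p y)) ?_ ?_ ?_ ?_ ?_
    · rintro ⟨u, x⟩ ht
      obtain ⟨-, hx⟩ := Finset.mem_product.1 ht
      obtain ⟨l, hl⟩ := (IsPGroup.iff_orderOf.1 hD) u
      rw [← Subgroup.orderOf_coe] at hl
      have hcomm : Commute x (u : G) := Subgroup.mem_center_iff.1 (hDZ u.2) x
      refine Finset.mem_filter.2 ⟨Finset.mem_univ _, ?_⟩
      rw [hcomm.eq, (parts_mul hp hcomm.symm ⟨l, hl⟩ (Finset.mem_filter.1 hx).2).1]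
      exact u.2
    · intro y hy
      exact Finset.mem_product.2 ⟨Finset.mem_univ _, Finset.mem_filter.2
        ⟨Finset.mem_univ _, not_dvd_orderOf_pPrimePartOf hp y⟩⟩
    · rintro ⟨u, x⟩ ht
      obtain ⟨-, hx⟩ := Finset.mem_product.1 ht
      obtain ⟨l, hl⟩ := (IsPGroup.iff_orderOf.1 hD) u
      rw [← Subgroup.orderOf_coe] at hl
      have hcomm : Commute x (u : G) := Subgroup.mem_center_iff.1 (hDZ u.2) x
      have hparts := parts_mul hp hcomm.symm ⟨l, hl⟩ (Finset.mem_filter.1 hx).2
      rw [← hcomm.eq] at hparts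
      exact Prod.ext (Subtype.ext hparts.1) hparts.2
    · intro y hy
      rw [← (commute_pPartOf_pPrimePartOf y).eq, pPartOf_mul_pPrimePartOf hp y]
    · rintro ⟨u, x⟩ -
      exact (hval x u).symm
  have hge : (Nat.card G : ℝ) ≤ ∑ x ∈ Finset.univ.filter (fun x => pPartOf p x ∈ D), r x := by
    rw [hset, hreg', hδ, ← hm', haδ, pow_add]
    push_cast
    nlinarith [mul_nonneg (mul_nonneg (pow_nonneg (Nat.cast_nonneg (α := ℝ) p)
      (n.factorization p)) (pow_nonneg (Nat.cast_nonneg (α := ℝ) p) δ)) (Nat.cast_nonneg (α := ℝ) m)]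
  have hvan : ∀ g : G, pPartOf p g ∉ D → (χ : G → ℂ) g = 0 := by
    intro g hg
    have h1 := Finset.sum_filter_add_sum_filter_not Finset.univ (fun x => pPartOf p x ∈ D) r
    rw [htot] at h1
    have h2 : ∑ x ∈ Finset.univ.filter (fun x => ¬ pPartOf p x ∈ D), r x = 0 :=
      le_antisymm (by linarith) (Finset.sum_nonneg fun x _ => Complex.normSq_nonneg _)
    have := (Finset.sum_eq_zero_iff_of_nonneg fun x _ => Complex.normSq_nonneg _).1 h2 g
      (Finset.mem_filter.2 ⟨Finset.mem_univ g, hg⟩)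
    exact Complex.normSq_eq_zero.1 this
  refine ⟨?_, fun g x hx hxD => hvan g (by rwa [← eq_pPartOf hp g hx])⟩
  -- the block has no character of smaller height
  have hB := isPBlock_blockOf (M := M) χ
  have hSeq : ∑ x ∈ Finset.univ.filter (Cfsg.IsPRegular p), r x * (Nat.card D : ℝ) =
      (Nat.card G : ℝ) := by
    rw [← Finset.sum_mul, mul_comm, ← hset]
    refine le_antisymm ?_ hge
    rw [← htot]
    exact Finset.sum_le_sum_of_subset_of_nonneg (Finset.subset_univ _) fun x _ _ =>
      Complex.normSq_nonneg _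
  have hu : ¬ Cfsg.MemLocalIdeal M (omega (χ : G → ℂ) (eta p (χ : G → ℂ))) := by
    set nd := n / p ^ n.factorization p with hnd
    have hnn : p ^ n.factorization p * nd = n := Nat.ordProj_mul_ordCompl_eq_self n p
    obtain ⟨c, hc⟩ := Char.IsIrr.degree_dvd_card χ.2 hn1
    have hval2 : omega (χ : G → ℂ) (eta p (χ : G → ℂ)) = (m : ℂ) * (nd : ℂ)⁻¹ := by
      have e : ((∑ x ∈ Finset.univ.filter (Cfsg.IsPRegular p), r x : ℝ) : ℂ) =
          ∑ x, eta p (χ : G → ℂ) x * (χ : G → ℂ) x := by
        rw [← hS, BlockChar.regSum_eq_filter]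
        push_cast
        exact Finset.sum_congr rfl fun x _ => (hnat x).symm
      have hD0 : (Nat.card D : ℂ) ≠ 0 := Char.card_ne_zero
      have hS' : ((∑ x ∈ Finset.univ.filter (Cfsg.IsPRegular p), r x : ℝ) : ℂ) *
          (Nat.card D : ℂ) = (Nat.card G : ℂ) := by
        rw [← Finset.sum_mul] at hSeq
        exact_mod_cast congrArg (fun t : ℝ => (t : ℂ)) hSeq
      rw [omega, ← e, hn1]
      have hnd0 : (nd : ℂ) ≠ 0 := Nat.cast_ne_zero.2 fun h => Nat.not_dvd_ordCompl hp hn0.ne'
        (show p ∣ n / p ^ n.factorization p by rw [← hnd, h]; exact dvd_zero p)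
      rw [div_eq_iff (Nat.cast_ne_zero.2 hn0.ne')]
      apply mul_right_cancel₀ hD0
      rw [hS', ← hm', haδ, hδ]
      conv_rhs => rw [← hnn]
      push_cast
      field_simp
      ring
    rw [hval2]
    intro h
    have hnd0 : ¬ p ∣ nd := Nat.not_dvd_ordCompl hp hn0.ne'
    have h2 := memLocalIdeal_mul_right hM h (memLocalRing_natCast hM nd)
    rw [inv_mul_cancel_right₀ (Nat.cast_ne_zero.2 fun e => hnd0 (by rw [e]; exact dvd_zero p)),
      memLocalIdeal_natCast_iff hM] at h2
    exact hmp h2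
  have hmin : BlockChar.minVal p (Cfsg.blockOf M (χ : G → ℂ)) = n.factorization p := by
    refine le_antisymm (BlockChar.minVal_le (mem_blockOf_self hM χ)) ?_
    refine le_csInf ⟨_, χ, mem_blockOf_self hM χ, rfl⟩ ?_
    rintro _ ⟨ψ, hψ, rfl⟩
    have hψc := Char.IsIrr.isCharacter ψ.2
    have hw : ¬ Cfsg.MemLocalIdeal M (omega (ψ : G → ℂ) (eta p (χ : G → ℂ))) := fun h => hu (by
      simpa using memLocalIdeal_add hM h (memLocalIdeal_omega_sub hM χ.2 ψ.2
        (isClassFunction_eta (Char.isClassFunction_of_isIrr χ.2)) (memLocalRing_eta hM hχc) hψ))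
    have hw' := memLocalRing_omega hM χ.2
      (isClassFunction_eta (p := p) (Char.isClassFunction_of_isIrr ψ.2))
      (memLocalRing_eta hM hψc)
    set e := (Cfsg.charDegree (ψ : G → ℂ)).factorization p
    show n.factorization p ≤ e
    by_contra hlt
    obtain ⟨c, hc⟩ : p ^ (e + 1) ∣ n := (pow_dvd_pow p (by omega)).trans (Nat.ordProj_dvd _ _)
    set w := Cfsg.charDegree (ψ : G → ℂ) / p ^ e
    have hwe : p ^ e * w = Cfsg.charDegree (ψ : G → ℂ) := Nat.ordProj_mul_ordCompl_eq_self _ p
    have hwp : ¬ p ∣ w := Nat.not_dvd_ordCompl hp (charDegree_pos ψ.2).ne'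
    refine hw ?_
    have e1 : omega (ψ : G → ℂ) (eta p (χ : G → ℂ)) =
        ((p * c : ℕ) : ℂ) * ((w : ℂ)⁻¹ * omega (χ : G → ℂ) (eta p (ψ : G → ℂ))) := by
      rw [omega, omega, sum_eta_mul_comm hψc hχc, hn1, hc, ← charDegree_cast hψc, ← hwe]
      have hp0 : (p : ℂ) ≠ 0 := Nat.cast_ne_zero.2 hp.ne_zero
      have hw0 : (w : ℂ) ≠ 0 := Nat.cast_ne_zero.2 fun h => hwp (h ▸ dvd_zero p)
      have hc0 : (c : ℂ) ≠ 0 := Nat.cast_ne_zero.2 fun h => hn0.ne' (by rw [hc, h, mul_zero])
      push_cast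
      field_simp
      ring
    rw [e1]
    exact memLocalIdeal_mul_right hM ((memLocalIdeal_natCast_iff hM _).2 (dvd_mul_right p c))
      ((localRing hM).mul_mem (memLocalRing_natCast_inv hM hwp) hw')
  obtain ⟨E, hE⟩ := exists_defectGroup hM hB
  have hDn : D.Normal := ⟨fun u hu x => by
    rw [Subgroup.mem_center_iff.1 (hDZ hu) x, mul_inv_cancel_right]; exact hu⟩
  have hle := le_defectGroup_of_normal hM hB hE D hD
  rwa [Subgroup.eq_of_le_of_card_ge hle (by
    rw [BlockChar.card_defectGroup hM hB hE, BlockChar.blockDefect_eq, hmin, hδ]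
    exact Nat.pow_le_pow_right hp.pos (by omega))]

omit [Fact p.Prime] in
/-- Blocks of `Q C(Q)` for a normal p-subgroup `Q`. -/
theorem induced_of_covering (hM : Cfsg.IsPModular p M) (Q : Subgroup G) [Q.Normal]
    (hQ : IsPGroup p Q) {H : Subgroup G} [H.Normal] [Fintype H]
    (hH : Subgroup.centralizer (Q : Set G) ≤ H) {b : Set (Cfsg.IrrCharacter H)}
    (hb : Cfsg.IsPBlock M b) :
    Cfsg.InducedBlockDefined M H b ∧ ∀ B : Set (Cfsg.IrrCharacter G), Cfsg.IsPBlock M B →
      (∃ χ ∈ B, ∃ θ ∈ b, Cfsg.classInner (fun n : H => ((χ : Cfsg.IrrCharacter G) : G → ℂ) n)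
        ((θ : Cfsg.IrrCharacter H) : H → ℂ) ≠ 0) → Cfsg.IsInducedBlock M H b B := by
  classical
  have key : ∀ B : Set (Cfsg.IrrCharacter G), Cfsg.IsPBlock M B →
      (∃ χ ∈ B, ∃ θ ∈ b, Cfsg.classInner (fun n : H => ((χ : Cfsg.IrrCharacter G) : G → ℂ) n)
        ((θ : Cfsg.IrrCharacter H) : H → ℂ) ≠ 0) → Cfsg.IsInducedBlock M H b B := by
    intro B hB hcov
    refine ⟨hb, hB, fun ξ hξ χ hχ g => ?_⟩
    by_cases hg : g ∈ H
    · simpa using memLocalIdeal_neg ((covering_iff hM hB hb).1 hcov χ hχ ξ hξ ⟨g, hg⟩)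
    · have h0 : Cfsg.inducedCentralChar H (ξ : H → ℂ) g = 0 := by
        rw [← omega_classInd_res, omega, Finset.sum_eq_zero, zero_div]
        intro x _
        rw [classInd_apply, if_neg, zero_mul]
        intro hc
        obtain ⟨t, ht⟩ := isConj_iff.1 hc.symm
        exact hg (ht ▸ (inferInstance : H.Normal).conj_mem _ x.2 t)
      rw [h0, zero_sub]
      exact memLocalIdeal_neg
        (memLocalIdeal_centralChar_of_notMem Q hM hQ χ fun hc => hg (hH hc))
  refine ⟨?_, key⟩
  obtain ⟨θ, hθ⟩ := IsPBlock.nonempty hM hb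
  have hne : Cfsg.indFun H (θ : H → ℂ) ≠ 0 := fun h => by
    have h1 := congrFun h 1
    rw [Char.indFun_apply_one, Pi.zero_apply, mul_eq_zero] at h1
    exact h1.elim (fun h2 => Subgroup.index_ne_zero_of_finite (Nat.cast_eq_zero.1 h2))
      (Char.IsIrr.one_ne_zero θ.2)
  obtain ⟨χ, hχ⟩ := Char.IsChar.exists_constituent
    (Char.isCharacter_indFun H (Char.IsIrr.isCharacter θ.2)) hne
  rw [Char.classInner_indFun_left H _ (Char.isClassFunction_of_isIrr χ.2)] at hχ
  refine ⟨_, key _ (isPBlock_blockOf χ) ⟨χ, mem_blockOf_self hM χ, θ, hθ, ?_⟩⟩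
  rw [← Char.classInner_conj_symm, map_ne_zero]
  exact hχ

end Cfsg.Agent.DefectThms
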