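import Mathlib
import Cfsg.Agent.BlockThms.Green
import Cfsg.Agent.BrauerPairs.Basic

/-!
# The first main theorem and its extension to `P C(P)`
-/

set_option autoImplicit false

namespace Cfsg.Agent.DefectThms

open scoped ComplexConjugate
open Cfsg.Agent Cfsg.Agent.Blocks
open Cfsg.Agent.BlockThms hiding classInd conv omega IsClass exists_isPModular omega_conv

universe u

variable {G : Type u} [Group G] [Fintype G] {p : ℕ} [Fact p.Prime] {M : Ideal Cfsg.AlgInt}

/-- A block of a subgroup normalizing `P` that induces a block with defect group `P` has defect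
group `P`. -/
theorem isDefectGroup_of_induced (hM : Cfsg.IsPModular p M) {P H : Subgroup G} [Fintype H]
    (hPH : P ≤ H) (hHN : H ≤ Subgroup.normalizer (P : Set G)) {B : Set (Cfsg.IrrCharacter G)}
    (hB : Cfsg.IsPBlock M B) (hD : Cfsg.IsDefectGroup p M B P)
    {b : Set (Cfsg.IrrCharacter H)} (hind : Cfsg.IsInducedBlock M H b B) :
    Cfsg.IsDefectGroup p M b (P.subgroupOf H) := by
  have hn : (P.subgroupOf H).Normal := (Subgroup.normal_subgroupOf_iff_le_normalizer hPH).2 hHN
  obtain ⟨E, hE⟩ := exists_defectGroup hM hind.1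
  have hle := le_defectGroup_of_normal hM hind.1 hE (P.subgroupOf H)
    (isPGroup_of_isDefectGroup hD).comap_subtype
  obtain ⟨E', hE', hEE'⟩ := exists_defectGroup_ge_of_induced hM H hind.1 hB hind hE
  rwa [Subgroup.eq_of_le_of_card_ge hle ?_]
  rw [Nat.card_congr (Subgroup.subgroupOfEquivOfLe hPH).toEquiv,
    BlockChar.card_defectGroup hM hB hD, ← BlockChar.card_defectGroup hM hB hE',
    ← Subgroup.card_map_of_injective (Subgroup.subtype_injective H)]
  exact Nat.le_of_dvd Nat.card_pos (Subgroup.card_dvd_of_le hEE')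

/-- A class of `N(P)` with defect group `P` gives a class of `G` with defect group `P`. -/
theorem isSylC_lift {P : Subgroup G} (hP : IsPGroup p P)
    {x : Subgroup.normalizer (P : Set G)}
    (h : IsSylC p x (P.subgroupOf (Subgroup.normalizer (P : Set G)))) :
    IsSylC p (x : G) P := by
  have hPN : P ≤ (Subgroup.normalizer (P : Set G)) := Subgroup.le_normalizer
  have hn : (P.subgroupOf (Subgroup.normalizer (P : Set G))).Normal :=
    (Subgroup.normal_subgroupOf_iff_le_normalizer hPN).2 le_rfl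
  have hle : P ≤ Subgroup.centralizer ({(x : G)} : Set G) := fun y hy =>
    Subgroup.mem_centralizer_singleton_iff.2 (congrArg Subtype.val
      (Subgroup.mem_centralizer_singleton_iff.1
        (h.1 (show (⟨y, hPN hy⟩ : (Subgroup.normalizer (P : Set G))) ∈ P.subgroupOf (Subgroup.normalizer (P : Set G)) from hy))))
  obtain ⟨R, hR, hPR⟩ := exists_le_isSylC hP hle
  have hinf : R ⊓ (Subgroup.normalizer (P : Set G)) ≤ P := by
    have hXC : R.subgroupOf (Subgroup.normalizer (P : Set G)) ≤ Subgroup.centralizer ({x} : Set (Subgroup.normalizer (P : Set G))) := fun y hy =>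
      Subgroup.mem_centralizer_singleton_iff.2
        (Subtype.ext (Subgroup.mem_centralizer_singleton_iff.1 (hR.1 hy)))
    obtain ⟨c, -, hc⟩ := h.exists_conj_le hR.2.1.comap_subtype hXC
    intro y hy
    have h1 := hc ⟨⟨y, hy.2⟩, hy.1, rfl⟩
    have h2 := hn.conj_mem _ h1 c⁻¹
    have h3 : (⟨y, hy.2⟩ : (Subgroup.normalizer (P : Set G))) ∈ P.subgroupOf (Subgroup.normalizer (P : Set G)) := by simpa [mul_assoc] using h2
    exact h3
  rwa [eq_of_inf_normalizer_le hR.2.1 hPR hinf] at hR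

/-- No splitting of classes with defect group `P` in the centralizer of `P`. -/
theorem brRes_classInd_eq {P : Subgroup G} {x : Subgroup.normalizer (P : Set G)}
    (hx : (x : G) ∈ Subgroup.centralizer (P : Set G)) (h : IsSylC p (x : G) P) :
    brRes P (Subgroup.normalizer (P : Set G)) (classInd (x : G)) = classInd x := by
  classical
  funext m
  simp only [brRes, classInd_apply]
  by_cases hm : (m : G) ∈ Subgroup.centralizer (P : Set G)
  · rw [if_pos hm]
    refine if_congr ⟨fun hc => ?_, fun hc => ?_⟩ rfl rfl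
    · obtain ⟨k, hk⟩ := isConj_iff.1 hc
      have hk' := h.conj k
      rw [hk] at hk'
      have hPm : P ≤ Subgroup.centralizer ({(m : G)} : Set G) := fun u hu =>
        Subgroup.mem_centralizer_singleton_iff.2 (Subgroup.mem_centralizer_iff.1 hm u hu)
      obtain ⟨c, hc', hle⟩ := hk'.exists_conj_le h.2.1 hPm
      have heq := Subgroup.eq_of_le_of_card_ge hle (by rw [card_map_conj, card_map_conj])
      have hn : c⁻¹ * k ∈ Subgroup.normalizer (P : Set G) := by
        rw [Subgroup.mem_normalizer_iff]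
        intro u
        constructor
        · intro hu
          have hu' : k * u * k⁻¹ ∈ P.map (MulAut.conj c).toMonoidHom := heq ▸ ⟨u, hu, rfl⟩
          obtain ⟨v, hv, hvu⟩ := hu'
          have hvu' : c * v * c⁻¹ = k * u * k⁻¹ := hvu
          rw [show c⁻¹ * k * u * (c⁻¹ * k)⁻¹ = c⁻¹ * (k * u * k⁻¹) * c by group, ← hvu']
          simpa [mul_assoc] using hv
        · intro hu
          have hu' : c * (c⁻¹ * k * u * (c⁻¹ * k)⁻¹) * c⁻¹ ∈
              P.map (MulAut.conj k).toMonoidHom := heq ▸ ⟨_, hu, rfl⟩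
          obtain ⟨v, hv, hvu⟩ := hu'
          have hvu' : k * v * k⁻¹ = c * (c⁻¹ * k * u * (c⁻¹ * k)⁻¹) * c⁻¹ := hvu
          rw [show c * (c⁻¹ * k * u * (c⁻¹ * k)⁻¹) * c⁻¹ = k * u * k⁻¹ by group] at hvu'
          rwa [← mul_left_cancel (mul_right_cancel hvu')]
      refine isConj_iff.2 ⟨⟨_, hn⟩, Subtype.ext ?_⟩
      show c⁻¹ * k * (x : G) * (c⁻¹ * k)⁻¹ = (m : G)
      rw [show c⁻¹ * k * (x : G) * (c⁻¹ * k)⁻¹ = c⁻¹ * (k * (x : G) * k⁻¹) * c by group, hk,
        mul_assoc, ← Subgroup.mem_centralizer_singleton_iff.1 hc', inv_mul_cancel_left]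
    · exact MonoidHom.map_isConj (Subgroup.normalizer (P : Set G)).subtype hc
  · rw [if_neg hm, if_neg]
    intro hc
    obtain ⟨k, rfl⟩ := isConj_iff.1 hc
    exact hm (by simpa using mem_centralizer_conj k.2 hx)

/-- Injectivity in the first main theorem. -/
theorem induced_injective (hM : Cfsg.IsPModular p M) {P : Subgroup G} (hP : IsPGroup p P)
    [Fintype (Subgroup.normalizer (P : Set G))]
    {β β' : Set (Cfsg.IrrCharacter (Subgroup.normalizer (P : Set G)))}
    (hd : Cfsg.IsDefectGroup p M β (P.subgroupOf (Subgroup.normalizer (P : Set G))))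
    {B : Set (Cfsg.IrrCharacter G)}
    (h : Cfsg.IsInducedBlock M (Subgroup.normalizer (P : Set G)) β B)
    (h' : Cfsg.IsInducedBlock M (Subgroup.normalizer (P : Set G)) β' B) : β = β' := by
  classical
  have hPN : P ≤ (Subgroup.normalizer (P : Set G)) := Subgroup.le_normalizer
  have hn : (P.subgroupOf (Subgroup.normalizer (P : Set G))).Normal :=
    (Subgroup.normal_subgroupOf_iff_le_normalizer hPN).2 le_rfl
  obtain ⟨θ, hθ⟩ := IsPBlock.nonempty hM h.1
  obtain ⟨θ', hθ'⟩ := IsPBlock.nonempty hM h'.1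
  obtain ⟨χ, hχ⟩ := IsPBlock.nonempty hM h.2.1
  obtain ⟨g, hg, hgD⟩ := isDefectGroup_iff.1 hd
  by_contra hne
  have hθ'β : θ' ∉ β := fun hm =>
    hne ((IsPBlock.eq_blockOf hM h.1 hm).trans (IsPBlock.eq_blockOf hM h'.1 hθ').symm)
  have : Finite (ConjClasses (Subgroup.normalizer (P : Set G))) := Quotient.finite _
  have := Fintype.ofFinite (ConjClasses (Subgroup.normalizer (P : Set G)))
  set e := Cfsg.blockCoeff β with he
  have hec : Cfsg.IsClassFunction (Subgroup.normalizer (P : Set G)) e := isClassFunction_blockCoeff β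
  refine not_memLocalIdeal_one hM ?_
  have h1 : omega (θ : (Subgroup.normalizer (P : Set G)) → ℂ) e - omega (θ' : (Subgroup.normalizer (P : Set G)) → ℂ) e = 1 := by
    rw [he, omega_blockCoeff, omega_blockCoeff, if_pos hθ, if_neg hθ'β, sub_zero]
  rw [← h1, omega_eq_sum_classes (Char.isClassFunction_of_isIrr θ.2) hec,
    omega_eq_sum_classes (Char.isClassFunction_of_isIrr θ'.2) hec, ← Finset.sum_sub_distrib]
  refine memLocalIdeal_sum hM _ fun C _ => ?_
  generalize C.out = x
  rw [← mul_sub]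
  have heR := memLocalRing_blockCoeff hM h.1 x
  by_cases hu : Cfsg.MemLocalIdeal M (e x)
  · exact memLocalIdeal_mul_right hM hu ((localRing hM).sub_mem
      (memLocalRing_centralChar hM θ.2 x) (memLocalRing_centralChar hM θ'.2 x))
  refine memLocalIdeal_mul_left hM heR ?_
  by_cases hx : x ∈ Subgroup.centralizer ((P.subgroupOf (Subgroup.normalizer (P : Set G)) : Subgroup (Subgroup.normalizer (P : Set G))) : Set (Subgroup.normalizer (P : Set G)))
  swap
  · exact memLocalIdeal_sub hM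
      (memLocalIdeal_centralChar_of_notMem (P.subgroupOf (Subgroup.normalizer (P : Set G))) hM hP.comap_subtype θ hx)
      (memLocalIdeal_centralChar_of_notMem (P.subgroupOf (Subgroup.normalizer (P : Set G))) hM hP.comap_subtype θ' hx)
  obtain ⟨S, hS⟩ := exists_isSylC p x
  obtain ⟨k, hk⟩ := exists_conj_le_of_unit_coeff hM h.1 hg hgD hu hS
  have hPle : P.subgroupOf (Subgroup.normalizer (P : Set G)) ≤ Subgroup.centralizer ({x} : Set (Subgroup.normalizer (P : Set G))) := fun u hu' =>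
    Subgroup.mem_centralizer_singleton_iff.2 (Subgroup.mem_centralizer_iff.1 hx u hu')
  obtain ⟨c, -, hc⟩ := hS.exists_conj_le hP.comap_subtype hPle
  have hSyl : IsSylC p x (P.subgroupOf (Subgroup.normalizer (P : Set G))) := ⟨hPle, hP.comap_subtype, le_antisymm
    (hS.2.2 ▸ (card_map_conj (P.subgroupOf (Subgroup.normalizer (P : Set G))) c) ▸
      Nat.le_of_dvd Nat.card_pos (Subgroup.card_dvd_of_le hc))
    (hS.2.2 ▸ (card_map_conj S k) ▸ Nat.le_of_dvd Nat.card_pos (Subgroup.card_dvd_of_le hk))⟩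
  have hxC : (x : G) ∈ Subgroup.centralizer (P : Set G) := Subgroup.mem_centralizer_iff.2
    fun u hu' => congrArg Subtype.val
      (Subgroup.mem_centralizer_iff.1 hx ⟨u, hPN hu'⟩ hu')
  have hbr := brRes_classInd_eq hxC (isSylC_lift hP hSyl)
  have key : ∀ {β₀ : Set (Cfsg.IrrCharacter (Subgroup.normalizer (P : Set G)))}, Cfsg.IsInducedBlock M (Subgroup.normalizer (P : Set G)) β₀ B →
      ∀ φ ∈ β₀, Cfsg.MemLocalIdeal M
        (Cfsg.centralChar ((φ : Cfsg.IrrCharacter (Subgroup.normalizer (P : Set G))) : (Subgroup.normalizer (P : Set G)) → ℂ) x -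
          Cfsg.centralChar (χ : G → ℂ) x) := by
    intro β₀ h₀ φ hφ
    have h2 := memLocalIdeal_induced_sub_brRes hM hP hPN le_rfl φ (x : G)
    rw [hbr, omega_classInd (Char.isClassFunction_of_isIrr φ.2)] at h2
    simpa using memLocalIdeal_sub hM (h₀.2.2 φ hφ χ hχ (x : G)) h2
  simpa using memLocalIdeal_sub hM (key h θ hθ) (key h' θ' hθ')

/-- A block of `N(P)` with defect group `P` induces a block with defect group `P`. -/
theorem isDefectGroup_induced (hM : Cfsg.IsPModular p M) {P : Subgroup G} (hP : IsPGroup p P)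
    [Fintype (Subgroup.normalizer (P : Set G))]
    {β : Set (Cfsg.IrrCharacter (Subgroup.normalizer (P : Set G)))}
    (hd : Cfsg.IsDefectGroup p M β (P.subgroupOf (Subgroup.normalizer (P : Set G))))
    {B : Set (Cfsg.IrrCharacter G)}
    (h : Cfsg.IsInducedBlock M (Subgroup.normalizer (P : Set G)) β B) :
    Cfsg.IsDefectGroup p M B P := by
  classical
  have hPN : P ≤ (Subgroup.normalizer (P : Set G)) := Subgroup.le_normalizer
  obtain ⟨E, hE, hle⟩ := exists_defectGroup_ge_of_induced hM (Subgroup.normalizer (P : Set G)) h.1 h.2.1 h hd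
  rw [Subgroup.map_subgroupOf_eq_of_le hPN] at hle
  obtain ⟨g, hg, hgD⟩ := isDefectGroup_iff.1 hd
  obtain ⟨θ, hθ⟩ := IsPBlock.nonempty hM h.1
  obtain ⟨χ, hχ⟩ := IsPBlock.nonempty hM h.2.1
  have hgC : (g : G) ∈ Subgroup.centralizer (P : Set G) := Subgroup.mem_centralizer_iff.2
    fun u hu => congrArg Subtype.val (Subgroup.mem_centralizer_singleton_iff.1
      (hgD.1 (show (⟨u, hPN hu⟩ : (Subgroup.normalizer (P : Set G))) ∈ P.subgroupOf (Subgroup.normalizer (P : Set G)) from hu)))
  have hlift := isSylC_lift hP hgD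
  have h2 := memLocalIdeal_induced_sub_brRes hM hP hPN le_rfl θ (g : G)
  rw [brRes_classInd_eq hgC hlift, omega_classInd (Char.isClassFunction_of_isIrr θ.2)] at h2
  have hu : ¬ Cfsg.MemLocalIdeal M (Cfsg.centralChar (χ : G → ℂ) g) := fun hd' =>
    hg.2.2 θ hθ (by
      simpa using memLocalIdeal_sub hM (memLocalIdeal_add hM (h.2.2 θ hθ χ hχ (g : G)) hd') h2)
  have hle' := blockDefect_le_of_unit hM h.2.1 hχ hu
  rwa [Subgroup.eq_of_le_of_card_ge hle (by
    rw [BlockChar.card_defectGroup hM h.2.1 hE, hlift.2.2]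
    exact Nat.pow_le_pow_right hM.1.pos hle')]

/-- The extended first main theorem. -/
theorem exists_conj_blocks (hM : Cfsg.IsPModular p M) {P : Subgroup G}
    {B : Set (Cfsg.IrrCharacter G)} (hB : Cfsg.IsPBlock M B) (hD : Cfsg.IsDefectGroup p M B P)
    [Fintype (P ⊔ Subgroup.centralizer (P : Set G) : Subgroup G)]
    {b b' : Set (Cfsg.IrrCharacter ↥(P ⊔ Subgroup.centralizer (P : Set G)))}
    (hb : Cfsg.IsInducedBlock M (P ⊔ Subgroup.centralizer (P : Set G)) b B)
    (hb' : Cfsg.IsInducedBlock M (P ⊔ Subgroup.centralizer (P : Set G)) b' B) :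
    ∃ n ∈ Subgroup.normalizer (P : Set G), ∀ θ ∈ b, ∃ θ' ∈ b',
      ∀ x : ↥(P ⊔ Subgroup.centralizer (P : Set G)),
      ∀ hx : n * (x : G) * n⁻¹ ∈ P ⊔ Subgroup.centralizer (P : Set G),
        ((θ' : Cfsg.IrrCharacter _) : ↥(P ⊔ Subgroup.centralizer (P : Set G)) → ℂ) x =
          ((θ : Cfsg.IrrCharacter _) : ↥(P ⊔ Subgroup.centralizer (P : Set G)) → ℂ)
            ⟨n * (x : G) * n⁻¹, hx⟩ := by
  classical
  have hP := isPGroup_of_isDefectGroup hD
  set L := P ⊔ Subgroup.centralizer (P : Set G) with hL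
  set N := Subgroup.normalizer (P : Set G) with hN
  have : Fintype N := Fintype.ofFinite _
  have hPN : P ≤ N := Subgroup.le_normalizer
  have hLN : L ≤ N := sup_le hPN (Subgroup.centralizer_le_normalizer _)
  have hn : (P.subgroupOf N).Normal :=
    (Subgroup.normal_subgroupOf_iff_le_normalizer hPN).2 le_rfl
  set L' := L.subgroupOf N with hL'
  have hLn : L'.Normal := by
    refine ⟨fun x hx k => ?_⟩
    show (k : G) * (x : G) * (k : G)⁻¹ ∈ L
    have hLeq : L.map (MulAut.conj (k : G)).toMonoidHom ≤ L := by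
      rw [hL, Subgroup.map_sup]
      refine sup_le_sup ?_ ?_
      · rintro _ ⟨u, hu, rfl⟩
        exact (Subgroup.mem_normalizer_iff.1 k.2 u).1 hu
      · rintro _ ⟨u, hu, rfl⟩
        exact mem_centralizer_conj k.2 hu
    exact hLeq ⟨x, hx, rfl⟩
  have : Fintype L' := Fintype.ofFinite _
  let e : L' ≃* L := Subgroup.subgroupOfEquivOfLe hLN
  have hCL : Subgroup.centralizer ((P.subgroupOf N : Subgroup N) : Set N) ≤ L' := by
    intro x hx
    refine Subgroup.mem_sup_right ?_
    rw [Subgroup.mem_centralizer_iff]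
    exact fun u hu => congrArg Subtype.val (Subgroup.mem_centralizer_iff.1 hx ⟨u, hPN hu⟩ hu)
  -- a block of `N` over a block of `L` inducing `B`
  have hcover : ∀ {c : Set (Cfsg.IrrCharacter L)}, Cfsg.IsInducedBlock M L c B →
      ∀ θ ∈ c, ∃ (β : Set (Cfsg.IrrCharacter N)) (ψ : Cfsg.IrrCharacter N), ψ ∈ β ∧
        Cfsg.IsInducedBlock M N β B ∧ Cfsg.classInner (fun m : L' => (ψ : N → ℂ) m)
          (BrauerPairs.compIrr e θ : L' → ℂ) ≠ 0 := by
    intro c hc θ hθ
    set φ := BrauerPairs.compIrr e θ with hφ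
    have hne : Cfsg.indFun L' (φ : L' → ℂ) ≠ 0 := fun h => by
      have h1 := congrFun h 1
      rw [Char.indFun_apply_one, Pi.zero_apply, mul_eq_zero] at h1
      exact h1.elim (fun h2 => Subgroup.index_ne_zero_of_finite (Nat.cast_eq_zero.1 h2))
        (Char.IsIrr.one_ne_zero φ.2)
    obtain ⟨ψ, hψ⟩ := Char.IsChar.exists_constituent
      (Char.isCharacter_indFun L' (Char.IsIrr.isCharacter φ.2)) hne
    rw [Char.classInner_indFun_left L' _ (Char.isClassFunction_of_isIrr ψ.2)] at hψ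
    have hψ' : Cfsg.classInner (fun m : L' => (ψ : N → ℂ) m) (φ : L' → ℂ) ≠ 0 := by
      rw [← Char.classInner_conj_symm, map_ne_zero]; exact hψ
    obtain ⟨-, hi⟩ := induced_of_covering hM (P.subgroupOf N) hP.comap_subtype hCL
      (isPBlock_blockOf (M := M) φ)
    have hi' := hi _ (isPBlock_blockOf ψ)
      ⟨ψ, mem_blockOf_self hM ψ, φ, mem_blockOf_self hM φ, hψ'⟩
    refine ⟨_, ψ, mem_blockOf_self hM ψ, ⟨isPBlock_blockOf ψ, hB, fun ψ' hψ'' χ hχ g => ?_⟩,
      hψ'⟩
    have h1 := hc.2.2 θ hθ χ hχ g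
    have h2 := memLocalIdeal_omega_res_sub hM L' (Char.isClassFunction_of_isIrr ψ'.2)
      (isClassFunction_res N (isClassFunction_classInd g))
      (fun a => Blocks.memLocalRing_classInd hM g (a : G))
      (hi'.2.2 φ (mem_blockOf_self hM φ) ψ' hψ'')
    have e1 : Cfsg.inducedCentralChar L (θ : L → ℂ) g =
        omega (φ : L' → ℂ) fun a : L' => classInd g ((a : N) : G) := by
      rw [inducedCentralChar_eq_omega, omega, omega, hφ, BrauerPairs.compIrr_apply, map_one]
      congr 1
      refine (Fintype.sum_equiv e.toEquiv _ _ fun a => ?_).symm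
      simp only [BrauerPairs.compIrr_apply]
      rfl
    rw [e1] at h1
    rw [inducedCentralChar_eq_omega]
    simpa using memLocalIdeal_sub hM h1 h2
  obtain ⟨θ₁, hθ₁⟩ := IsPBlock.nonempty hM hb.1
  obtain ⟨θ₂, hθ₂⟩ := IsPBlock.nonempty hM hb'.1
  obtain ⟨β, ψ₁, hψ₁, hβ, hc₁⟩ := hcover hb θ₁ hθ₁
  obtain ⟨β', ψ₂, hψ₂, hβ', hc₂⟩ := hcover hb' θ₂ hθ₂
  have hββ := induced_injective hM hP
    (isDefectGroup_of_induced hM hPN le_rfl hB hD hβ) hβ hβ'
  obtain ⟨g, hg⟩ := exists_conj_sameBlock hM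
    (IsPBlock.sameBlock hM hβ.1 hψ₁ (hββ ▸ hψ₂)) hc₁ hc₂
  refine ⟨g, g.2, fun θ hθ => ?_⟩
  set φ : Cfsg.IrrCharacter L' := ⟨_, Char.isIrr_conjFun g (BrauerPairs.compIrr e θ).2⟩ with hφ
  have hs : Cfsg.SameBlock M (BrauerPairs.compIrr e θ₂ : L' → ℂ) (φ : L' → ℂ) := by
    refine sameBlock_trans hM (sameBlock_symm hg) ?_
    refine sameBlock_conjFun (BrauerPairs.compIrr e θ₁).2 (BrauerPairs.compIrr e θ).2 ?_ g
    intro a
    rw [BrauerPairs.centralChar_compIrr, BrauerPairs.centralChar_compIrr]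
    exact IsPBlock.sameBlock hM hb.1 hθ₁ hθ (e a)
  refine ⟨BrauerPairs.compIrr e.symm φ, IsPBlock.mem_of_sameBlock hM hb'.1 hθ₂ fun a => ?_,
    fun x hx => ?_⟩
  · have := hs (e.symm a)
    rwa [BrauerPairs.centralChar_compIrr, e.apply_symm_apply,
      ← BrauerPairs.centralChar_compIrr e.symm φ] at this
  · rw [BrauerPairs.compIrr_apply]
    show Char.conjFun g (BrauerPairs.compIrr e θ : L' → ℂ) (e.symm x) = _
    rw [Char.conjFun_apply, BrauerPairs.compIrr_apply]
    exact congrArg (θ : L → ℂ) (Subtype.ext rfl)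

end Cfsg.Agent.DefectThms
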