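import Mathlib
import Cfsg.Agent.BlockThms.NormalCor
import Cfsg.Agent.BlockThms.DefectCor
import Cfsg.Agent.Core.Hall

/-!
# Defect groups of blocks of a factor group
-/

set_option autoImplicit false

namespace Cfsg.Agent.BlockThms.QuotientDefect

open Cfsg.Agent Cfsg.Agent.Blocks Cfsg.Agent.Char

universe u

variable {G : Type u} [Group G] [Fintype G] {p : ℕ} [Fact p.Prime] {M : Ideal Cfsg.AlgInt}
  (N : Subgroup G) [N.Normal]

theorem omega_push (f : G → ℂ) (ψ : Cfsg.IrrCharacter (G ⧸ N)) [Fintype (G ⧸ N)] :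
    Blocks.omega (ψ : G ⧸ N → ℂ) (push N f) = Blocks.omega (fun g : G => (ψ : G ⧸ N → ℂ) g) f :=
  (omega_comp_mk N _ f).symm

/-- A defect group of a dominated block lies in the image of a defect group of the dominating
block. -/
theorem exists_le_map (hM : Cfsg.IsPModular p M) {Bb : Set (Cfsg.IrrCharacter (G ⧸ N))}
    (hBb : Cfsg.IsPBlock M Bb) {B : Set (Cfsg.IrrCharacter G)} (hB : Cfsg.IsPBlock M B)
    (hsub : ∀ χ ∈ Bb, ∀ ψ : Cfsg.IrrCharacter G,
      (ψ : G → ℂ) = (χ : G ⧸ N → ℂ) ∘ QuotientGroup.mk → ψ ∈ B)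
    {Db : Subgroup (G ⧸ N)} (hDb : Cfsg.IsDefectGroup p M Bb Db) :
    ∃ P : Subgroup G, Cfsg.IsDefectGroup p M B P ∧ Db ≤ P.map (QuotientGroup.mk' N) := by
  classical
  have := Fintype.ofFinite (G ⧸ N)
  have : Finite (ConjClasses (G ⧸ N)) := Quotient.finite _
  have := Fintype.ofFinite (ConjClasses (G ⧸ N))
  obtain ⟨ψ, hψ⟩ := IsPBlock.nonempty hM hBb
  set e := Cfsg.blockCoeff B with he
  have hec : Cfsg.IsClassFunction G e := isClassFunction_blockCoeff B
  have heR := memLocalRing_blockCoeff hM hB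
  let χ : Cfsg.IrrCharacter G := ⟨_, isIrrCharacter_mk N ψ.2⟩
  have hχ : χ ∈ B := hsub ψ hψ χ rfl
  have h1 : Blocks.omega (ψ : G ⧸ N → ℂ) (push N e) = 1 := by
    rw [omega_push, he]
    show Blocks.omega (χ : G → ℂ) (Cfsg.blockCoeff B) = 1
    rw [omega_blockCoeff, if_pos hχ]
  obtain ⟨q, hq1, hq2⟩ : ∃ q : G ⧸ N, ¬ Cfsg.MemLocalIdeal M (push N e q) ∧
      ¬ Cfsg.MemLocalIdeal M (Cfsg.centralChar (ψ : G ⧸ N → ℂ) q) := by
    by_contra! hne
    refine not_memLocalIdeal_one hM ?_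
    rw [← h1, omega_eq_sum_classes (isClassFunction_of_isIrr ψ.2) (isClassFunction_push N hec)]
    refine memLocalIdeal_sum hM _ fun C _ => ?_
    by_cases hC : Cfsg.MemLocalIdeal M (push N e C.out)
    · exact memLocalIdeal_mul_right hM hC (memLocalRing_centralChar hM ψ.2 _)
    · exact memLocalIdeal_mul_left hM (memLocalRing_push N hM heR _) (hne _ hC)
  obtain ⟨g₁, hg₁, hg₁D⟩ := DefectThms.isDefectGroup_iff.1 hDb
  obtain ⟨k, Sb, hSb, hkS⟩ := DefectThms.exists_le_isSylC_of_unit hM hBb hg₁ hg₁D hψ hq2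
  -- a p-subgroup above `Sb`
  set f := QuotientGroup.mk' N with hf
  obtain ⟨S₀, hS₀, hS₀map⟩ : ∃ S₀ : Subgroup G, IsPGroup p S₀ ∧ S₀.map f = Sb := by
    have hsurj : Function.Surjective (f.subgroupComap Sb) :=
      MonoidHom.subgroupComap_surjective_of_surjective f Sb (QuotientGroup.mk'_surjective N)
    obtain ⟨Q⟩ : Nonempty (Sylow p (Sb.comap f)) := inferInstance
    refine ⟨(Q : Subgroup (Sb.comap f)).map (Sb.comap f).subtype, Q.isPGroup'.map _, ?_⟩
    have htop : (Q.mapSurjective hsurj : Subgroup Sb) = ⊤ :=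
      ((Q.mapSurjective hsurj).is_maximal' (hSb.2.1.to_subgroup ⊤) le_top).symm
    have h2 : ((Q : Subgroup (Sb.comap f)).map (f.subgroupComap Sb)).map Sb.subtype = Sb := by
      rw [show (Q : Subgroup (Sb.comap f)).map (f.subgroupComap Sb) = ⊤ from htop,
        ← MonoidHom.range_eq_map, Subgroup.range_subtype]
    rw [Subgroup.map_map] at h2
    rw [Subgroup.map_map]
    exact h2
  -- a fixed point with unit coefficient
  let φ : G → ℂ := fun a => if (a : G ⧸ N) = q then e a else 0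
  letI : MulAction S₀ G :=
    MulAction.compHom G ((MulAut.conj : G →* MulAut G).comp S₀.subtype)
  have hs : ∀ (w : S₀) (a : G), w • a = (w : G) * a * (w : G)⁻¹ := fun _ _ => rfl
  have hwq : ∀ w : S₀, ((w : G) : G ⧸ N) * q = q * ((w : G) : G ⧸ N) := fun w => by
    have h3 : f (w : G) ∈ Sb := hS₀map ▸ Subgroup.mem_map_of_mem f w.2
    exact Subgroup.mem_centralizer_singleton_iff.1 (hSb.1 h3)
  have key := DefectThms.memLocalIdeal_sum_sub_fixed hM hS₀ φ (fun a => by
      simp only [φ]; split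
      exacts [heR a, (localRing hM).zero_mem]) fun w a => by
    simp only [φ, hs, hec a]
    refine if_congr ?_ rfl rfl
    rw [QuotientGroup.mk_mul, QuotientGroup.mk_mul, QuotientGroup.mk_inv, mul_inv_eq_iff_eq_mul,
      ← hwq w, mul_right_inj]
  obtain ⟨a, haf, ha⟩ : ∃ a : G, a ∈ MulAction.fixedPoints S₀ G ∧ ¬ Cfsg.MemLocalIdeal M (φ a) := by
    by_contra! hne
    refine hq1 ?_
    have h3 := memLocalIdeal_add hM key (memLocalIdeal_sum hM (Finset.univ.filter
      (· ∈ MulAction.fixedPoints S₀ G)) (f := φ) fun a ha => hne a (Finset.mem_filter.1 ha).2)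
    rw [sub_add_cancel] at h3
    simpa [push, φ] using h3
  have haq : (a : G ⧸ N) = q := by
    by_contra hne
    exact ha (by simp only [φ, if_neg hne]; exact memLocalIdeal_zero hM)
  simp only [φ, if_pos haq] at ha
  have hle : S₀ ≤ Subgroup.centralizer ({a} : Set G) := fun w hw => by
    rw [Subgroup.mem_centralizer_singleton_iff]
    have h3 := haf ⟨w, hw⟩
    rw [hs] at h3
    exact mul_inv_eq_iff_eq_mul.1 h3
  obtain ⟨T, hT, hS₀T⟩ := DefectThms.exists_le_isSylC hS₀ hle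
  obtain ⟨E, hE⟩ := DefectThms.exists_defectGroup hM hB
  obtain ⟨gE, hgE, hgEE⟩ := DefectThms.isDefectGroup_iff.1 hE
  obtain ⟨c, hc⟩ := DefectThms.exists_conj_le_of_unit_coeff hM hB hgE hgEE ha hT
  obtain ⟨kk, hkk⟩ := QuotientGroup.mk_surjective k
  refine ⟨E.map (MulAut.conj (c * kk)⁻¹).toMonoidHom, DefectThms.isDefectGroup_conj hE _, fun y hy => ?_⟩
  have h4 : k * y * k⁻¹ ∈ S₀.map f := by rw [hS₀map]; exact hkS ⟨y, hy, rfl⟩
  obtain ⟨w, hw, hwy⟩ := Subgroup.mem_map.1 h4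
  have h5 : c * w * c⁻¹ ∈ E := hc ⟨w, hS₀T hw, rfl⟩
  refine ⟨_, ⟨_, h5, rfl⟩, ?_⟩
  show f ((c * kk)⁻¹ * (c * w * c⁻¹) * ((c * kk)⁻¹)⁻¹) = y
  rw [show (c * kk)⁻¹ * (c * w * c⁻¹) * ((c * kk)⁻¹)⁻¹ = kk⁻¹ * w * kk by group, map_mul, map_mul,
    map_inv, hwy, show f kk = k from hkk]
  group

/-- Over a normal `p`-subgroup a block dominates a block with the image of its defect group. -/
theorem exists_dominated (hM : Cfsg.IsPModular p M) (hN : IsPGroup p N)
    {B : Set (Cfsg.IrrCharacter G)} (hB : Cfsg.IsPBlock M B) :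
    ∃ Bb : Set (Cfsg.IrrCharacter (G ⧸ N)), Cfsg.IsPBlock M Bb ∧
      (∀ χ ∈ Bb, ∀ ψ : Cfsg.IrrCharacter G,
        (ψ : G → ℂ) = (χ : G ⧸ N → ℂ) ∘ QuotientGroup.mk → ψ ∈ B) ∧
      ∃ P : Subgroup G, Cfsg.IsDefectGroup p M B P ∧
        Cfsg.IsDefectGroup p M Bb (P.map (QuotientGroup.mk' N)) := by
  classical
  have := Fintype.ofFinite (G ⧸ N)
  obtain ⟨g, hg⟩ := exists_isDefectClass hM hB
  obtain ⟨D, hD⟩ := DefectThms.exists_isSylC p g
  have hDdef : Cfsg.IsDefectGroup p M B D := DefectThms.isDefectGroup_iff.2 ⟨g, hg, hD⟩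
  have hND : N ≤ D := DefectThms.le_defectGroup_of_normal hM hB hDdef N hN
  set e := Cfsg.blockCoeff B with he
  have hsing : ∀ y : G, ¬ Cfsg.IsPRegular p y → e y = 0 := by
    intro y hy
    have hy' : ¬ Cfsg.IsPRegular p y⁻¹ := by
      unfold Cfsg.IsPRegular at hy ⊢
      rwa [orderOf_inv]
    have h := BlockChar.sum_block_degree_mul_eq_zero hM hB hy'
    rw [he, Cfsg.blockCoeff, finsum_mem_eq_sum_of_inter_support_eq _
      (t := Finset.univ.filter (· ∈ B)) (by simp), Finset.sum_filter]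
    refine mul_eq_zero_of_right _ (Eq.trans (Finset.sum_congr rfl fun χ _ => ?_) h)
    rw [IsChar.inv_eq_conj (IsIrr.isCharacter χ.2)]
  have hreg : Cfsg.IsPRegular p g := by
    by_contra hns
    exact hg.2.1 (by rw [← he, hsing g hns]; exact memLocalIdeal_zero hM)
  have hgN : ∀ n ∈ N, n * g = g * n := fun n hn =>
    Subgroup.mem_centralizer_singleton_iff.1 (hD.1 (hND hn))
  have honly : ∀ n ∈ N, Cfsg.IsPRegular p (g * n) → n = 1 := by
    intro n hn hr
    by_contra h1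
    refine hr ?_
    obtain ⟨k, hk⟩ := IsPGroup.iff_orderOf.1 hN ⟨n, hn⟩
    rw [Subgroup.orderOf_mk] at hk
    have hk0 : k ≠ 0 := by rintro rfl; exact h1 (orderOf_eq_one_iff.1 (by rw [hk, pow_zero]))
    have hcop : (orderOf g).Coprime (orderOf n) :=
      hk ▸ (hM.1.coprime_iff_not_dvd.2 hreg).symm.pow_right k
    rw [(show Commute g n from (hgN n hn).symm).orderOf_mul_eq_mul_orderOf_of_coprime hcop, hk]
    exact (dvd_pow_self p hk0).mul_left _
  set q : G ⧸ N := (g : G ⧸ N) with hq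
  have hpush : push N e q = e g := by
    simp only [push]
    rw [Finset.sum_eq_single g, if_pos rfl]
    · intro a _ hne
      split_ifs with ha
      · refine hsing a fun hr => hne ?_
        have hn : g⁻¹ * a ∈ N := QuotientGroup.eq.1 ha.symm
        have := honly _ hn (by rwa [mul_inv_cancel_left])
        rw [inv_mul_eq_one] at this
        exact this.symm
      · rfl
    · exact fun h => absurd (Finset.mem_univ g) h
  -- the centraliser of the image
  set f := QuotientGroup.mk' N with hf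
  have hcomap : (Subgroup.centralizer ({q} : Set (G ⧸ N))).comap f =
      Subgroup.centralizer ({g} : Set G) := by
    ext x
    simp only [Subgroup.mem_comap, Subgroup.mem_centralizer_singleton_iff]
    refine ⟨fun h => ?_, fun h => ?_⟩
    · have hn : g⁻¹ * (x * g * x⁻¹) ∈ N := by
        rw [← QuotientGroup.eq]
        show q = f (x * g * x⁻¹)
        rw [map_mul, map_mul, map_inv, eq_mul_inv_iff_mul_eq]
        exact h.symm
      have := honly _ hn (by
        rw [mul_inv_cancel_left]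
        unfold Cfsg.IsPRegular
        rwa [← MulAut.conj_apply, MulEquiv.orderOf_eq])
      rw [inv_mul_eq_one] at this
      exact mul_inv_eq_iff_eq_mul.1 this.symm
    · show f x * f g = f g * f x
      rw [← map_mul, h, map_mul]
  have hidx : (Subgroup.centralizer ({q} : Set (G ⧸ N))).index =
      (Subgroup.centralizer ({g} : Set G)).index := by
    rw [← hcomap, Subgroup.index_comap_of_surjective _ (QuotientGroup.mk'_surjective N)]
  -- the dominated blocks
  let A : Set (Cfsg.IrrCharacter (G ⧸ N)) :=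
    {ψ | (⟨_, isIrrCharacter_mk N ψ.2⟩ : Cfsg.IrrCharacter G) ∈ B}
  have hAclosed : ∀ ψ ∈ A, ∀ ψ' : Cfsg.IrrCharacter (G ⧸ N),
      Cfsg.SameBlock M (ψ : G ⧸ N → ℂ) (ψ' : G ⧸ N → ℂ) → ψ' ∈ A := fun ψ hψ ψ' h =>
    IsPBlock.mem_of_sameBlock hM hB hψ (sameBlock_comp_mk N hM ψ ψ' h)
  have hpushA : push N e = Cfsg.blockCoeff A := by
    refine classFun_ext_omega (isClassFunction_push N (isClassFunction_blockCoeff B))
      (isClassFunction_blockCoeff A) fun ψ => ?_
    rw [omega_push, omega_blockCoeff]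
    exact omega_blockCoeff B ⟨_, isIrrCharacter_mk N ψ.2⟩
  let 𝒜 : Finset (Set (Cfsg.IrrCharacter (G ⧸ N))) :=
    ((Finset.univ : Finset (Cfsg.IrrCharacter (G ⧸ N))).filter (· ∈ A)).image
      fun ψ : Cfsg.IrrCharacter (G ⧸ N) => Cfsg.blockOf M (ψ : G ⧸ N → ℂ)
  have hsum : Cfsg.blockCoeff A = ∑ b ∈ 𝒜, Cfsg.blockCoeff b := by
    refine classFun_ext_omega (isClassFunction_blockCoeff A) (fun x k => by
      simp only [Finset.sum_apply]
      exact Finset.sum_congr rfl fun b _ => isClassFunction_blockCoeff b x k) fun ψ => ?_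
    rw [omega_blockCoeff, show Blocks.omega (ψ : G ⧸ N → ℂ) (∑ b ∈ 𝒜, Cfsg.blockCoeff b) =
      ∑ b ∈ 𝒜, Blocks.omega (ψ : G ⧸ N → ℂ) (Cfsg.blockCoeff b) by
        simp only [Blocks.omega, Finset.sum_apply, Finset.sum_mul, ← Finset.sum_div]
        rw [Finset.sum_comm]]
    simp only [omega_blockCoeff]
    rw [Finset.sum_boole]
    split_ifs with h
    · rw [show 𝒜.filter (fun b => ψ ∈ b) = {Cfsg.blockOf M (ψ : G ⧸ N → ℂ)} from ?_,
        Finset.card_singleton, Nat.cast_one]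
      ext b
      simp only [Finset.mem_filter, Finset.mem_singleton, 𝒜, Finset.mem_image, Finset.mem_univ,
        true_and]
      constructor
      · rintro ⟨⟨η, -, rfl⟩, hψ⟩
        exact blockOf_eq_of_sameBlock hM hψ
      · rintro rfl
        exact ⟨⟨ψ, h, rfl⟩, mem_blockOf_self hM ψ⟩
    · rw [Finset.card_eq_zero.2 (Finset.filter_eq_empty_iff.2 fun b hb hψ => h ?_), Nat.cast_zero]
      obtain ⟨η, hη, rfl⟩ := Finset.mem_image.1 hb
      exact hAclosed η (Finset.mem_filter.1 hη).2 ψ hψ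
  obtain ⟨b, hb, hbq⟩ : ∃ b ∈ 𝒜, ¬ Cfsg.MemLocalIdeal M (Cfsg.blockCoeff b q) := by
    by_contra! hne
    refine hg.2.1 ?_
    rw [← he, ← hpush, hpushA, hsum, Finset.sum_apply]
    exact memLocalIdeal_sum hM _ fun b hb => hne b hb
  obtain ⟨η, hη, rfl⟩ := Finset.mem_image.1 hb
  have hbblock : Cfsg.IsPBlock M (Cfsg.blockOf M (η : G ⧸ N → ℂ)) := isPBlock_blockOf η
  have hsubA : ∀ χ ∈ Cfsg.blockOf M (η : G ⧸ N → ℂ), χ ∈ A :=
    fun χ hχ => hAclosed η (Finset.mem_filter.1 hη).2 χ hχ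
  refine ⟨_, hbblock, fun χ hχ ψ hψ => ?_, D, hDdef, DefectThms.isDefectGroup_iff.2
    ⟨q, ⟨memLocalRing_blockCoeff hM hbblock q, hbq, fun χ hχ => ?_⟩, ?_, hD.2.1.map _, ?_⟩⟩
  · exact (show ψ = ⟨_, isIrrCharacter_mk N χ.2⟩ from Subtype.ext hψ) ▸ hsubA χ hχ
  · have h := hg.2.2 _ (hsubA χ hχ)
    unfold Cfsg.centralChar at h ⊢
    rw [hidx]
    exact h
  · rintro _ ⟨d, hd, rfl⟩
    rw [Subgroup.mem_centralizer_singleton_iff]
    show f d * f g = f g * f d
    rw [← map_mul, Subgroup.mem_centralizer_singleton_iff.1 (hD.1 hd), map_mul]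
  · have h1 : Nat.card (Subgroup.centralizer ({g} : Set G)) =
        Nat.card N * Nat.card (Subgroup.centralizer ({q} : Set (G ⧸ N))) := by
      rw [← hcomap]
      exact Core.card_comap_mk N _
    have h2 : Nat.card D = Nat.card N * Nat.card (D.map f) := by
      rw [← Core.card_comap_mk N (D.map f), Subgroup.comap_map_eq_self]
      rw [QuotientGroup.ker_mk']
      exact hND
    obtain ⟨k, hk⟩ := IsPGroup.iff_card.1 hN
    have h3 := hD.2.2
    rw [h1, Nat.factorization_mul Nat.card_pos.ne' Nat.card_pos.ne', Finsupp.add_apply, h2, hk,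
      hM.1.factorization_pow, Finsupp.single_eq_same, pow_add] at h3
    exact Nat.eq_of_mul_eq_mul_left (pow_pos hM.1.pos k) h3

end Cfsg.Agent.BlockThms.QuotientDefect
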