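import Mathlib
import Cfsg.Agent.BlockThms.DefectCor
import Cfsg.Agent.Blocks.SecondMain
import Cfsg.Agent.Blocks.LocalIdem

/-!
# Fong: defect groups of blocks covering an invariant block
-/

set_option autoImplicit false

namespace Cfsg.Agent.DefectThms

open scoped ComplexConjugate
open Cfsg.Agent Cfsg.Agent.Blocks
open Cfsg.Agent.BlockThms hiding classInd conv omega IsClass exists_isPModular omega_conv

universe u

variable {G : Type u} [Group G] [Fintype G] {p : ℕ} {M : Ideal Cfsg.AlgInt}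
variable {N : Subgroup G} [hN : N.Normal] [Fintype N]

/-- The central character of a conjugate. -/
theorem centralChar_conjFun (g : G) (θ : Cfsg.IrrCharacter N) (n : N) :
    Cfsg.centralChar (Char.conjFun g (θ : N → ℂ)) n =
      Cfsg.centralChar (θ : N → ℂ) (MulAut.conjNormal g n) := by
  rw [← omega_classInd (Char.isClassFunction_of_isIrr θ.2),
    ← omega_classInd (Char.isClassFunction_of_isIrr (Char.isIrr_conjFun g θ.2)), omega_conjFun,
    classInd_conjFun, inv_inv]

omit [Fintype G] in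
/-- Centralizers of conjugate elements of the normal subgroup have equal indices. -/
theorem index_centralizer_conjNormal (g : G) (n : N) :
    (Subgroup.centralizer ({MulAut.conjNormal g n} : Set N)).index =
      (Subgroup.centralizer ({n} : Set N)).index := by
  rw [← Char.card_isConj_eq_index, ← Char.card_isConj_eq_index]
  refine (Nat.card_congr ((MulAut.conjNormal g : MulAut N).toEquiv.subtypeEquiv fun d => ?_)).symm
  exact ⟨fun hd => (MulAut.conjNormal g : N ≃* N).toMonoidHom.map_isConj hd, fun hd => by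
    simpa using ((MulAut.conjNormal g : N ≃* N).symm).toMonoidHom.map_isConj hd⟩

variable [Fact p.Prime]

/-- Fong's theorem. -/
theorem fong (hM : Cfsg.IsPModular p M) {b : Set (Cfsg.IrrCharacter N)}
    (hb : Cfsg.IsPBlock M b)
    (hinv : ∀ (g : G) (θ : Cfsg.IrrCharacter N), θ ∈ b →
      (⟨_, Char.isIrr_conjFun g θ.2⟩ : Cfsg.IrrCharacter N) ∈ b)
    {B : Set (Cfsg.IrrCharacter G)} (hB : Cfsg.IsPBlock M B)
    (hcov : ∃ χ ∈ B, ∃ θ ∈ b, Cfsg.classInner (fun n : N => ((χ : Cfsg.IrrCharacter G) : G → ℂ) n)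
      ((θ : Cfsg.IrrCharacter N) : N → ℂ) ≠ 0)
    (hmax : ∀ B' : Set (Cfsg.IrrCharacter G), Cfsg.IsPBlock M B' →
      (∃ χ ∈ B', ∃ θ ∈ b, Cfsg.classInner (fun n : N => ((χ : Cfsg.IrrCharacter G) : G → ℂ) n)
        ((θ : Cfsg.IrrCharacter N) : N → ℂ) ≠ 0) → Cfsg.blockDefect p B' ≤ Cfsg.blockDefect p B)
    {P : Subgroup G} (hP : Cfsg.IsDefectGroup p M B P) :
    ¬ p ∣ (P ⊔ N).index ∧ Cfsg.IsDefectGroup p M b ((P ⊓ N).subgroupOf N) ∧
      Cfsg.blockDefect p B = Cfsg.blockDefect p b + N.index.factorization p := by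
  classical
  have hp := hM.1
  -- the idempotent of `b` as a function on `G`
  set eb := Cfsg.blockCoeff b with heb
  have hebc : Cfsg.IsClassFunction N eb := isClassFunction_blockCoeff b
  have hinv' : ∀ (g : G) (θ : Cfsg.IrrCharacter N),
      (⟨_, Char.isIrr_conjFun g θ.2⟩ : Cfsg.IrrCharacter N) ∈ b ↔ θ ∈ b := by
    intro g θ
    refine ⟨fun h => ?_, hinv g θ⟩
    have := hinv g⁻¹ _ h
    simp only [Char.conjFun_inv_cancel] at this
    exact this
  have hebi : ∀ g : G, Char.conjFun g eb = eb := by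
    intro g
    refine classFun_ext_omega (fun x k => ?_) hebc fun θ => ?_
    · simp only [Char.conjFun_eq_comp, map_mul, map_inv, hebc _ _]
    · have h := omega_conjFun (N := N) g⁻¹ (θ : N → ℂ) eb
      rw [inv_inv] at h
      rw [← h, heb, omega_blockCoeff b θ,
        omega_blockCoeff b (⟨_, Char.isIrr_conjFun g⁻¹ θ.2⟩ : Cfsg.IrrCharacter N)]
      simp only [hinv' g⁻¹ θ]
  set e := Cfsg.extendByZero N eb with he
  have hec : Cfsg.IsClassFunction G e := isClassFunction_extend hebi
  have he0 : ∀ g, g ∉ N → e g = 0 := fun g hg => Char.extendByZero_of_not_mem N _ hg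
  have hev : ∀ n : N, e (n : G) = eb n := fun n => Char.extendByZero_coe N _ n
  set A : Set (Cfsg.IrrCharacter G) := {ψ | ∃ θ ∈ b,
    Cfsg.classInner (fun n : N => (ψ : G → ℂ) n) ((θ : Cfsg.IrrCharacter N) : N → ℂ) ≠ 0}
    with hA
  have hAe : e = Cfsg.blockCoeff A := by
    refine eq_blockCoeff hec A fun ψ => ?_
    obtain ⟨θ, hθ⟩ := Char.exists_constituent_res (N := N) ψ.2
    rw [omega_res_eq ψ.2 θ.2 hθ hec he0, show (fun n : N => e (n : G)) = eb from funext hev,
      heb, omega_blockCoeff b θ]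
    refine if_congr ⟨fun h => ⟨θ, h, hθ⟩, fun ⟨θ', hθ', hc⟩ => ?_⟩ rfl rfl
    obtain ⟨g, hg⟩ := Char.mem_orbit.1 (Char.constituent_mem_orbit ψ.2 θ'.2 θ.2 hc hθ)
    have := hinv g θ' hθ'
    rwa [show (⟨_, Char.isIrr_conjFun g θ'.2⟩ : Cfsg.IrrCharacter N) = θ from Subtype.ext hg]
      at this
  obtain ⟨θ₀, hθ₀⟩ := IsPBlock.nonempty hM hb
  obtain ⟨χ₁, hχ₁, hcovB⟩ := hcov
  -- a class of `G` in `N`
  obtain ⟨x, hxe, hxu⟩ : ∃ x : N, ¬ Cfsg.MemLocalIdeal M (e (x : G)) ∧
      ¬ Cfsg.MemLocalIdeal M (Cfsg.inducedCentralChar N (θ₀ : N → ℂ) (x : G)) := by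
    by_contra! hne
    have : Finite (ConjClasses G) := Quotient.finite _
    have := Fintype.ofFinite (ConjClasses G)
    refine not_memLocalIdeal_one hM ?_
    have h1 : omega (θ₀ : N → ℂ) (fun n : N => e (n : G)) = 1 := by
      rw [show (fun n : N => e (n : G)) = eb from funext hev, heb, omega_blockCoeff b θ₀,
        if_pos hθ₀]
    rw [← h1, omega_res_eq_sum_classes N _ hec]
    refine memLocalIdeal_sum hM _ fun C _ => ?_
    by_cases hC : C.out ∈ N
    · by_cases hu : Cfsg.MemLocalIdeal M (e C.out)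
      · refine memLocalIdeal_mul_right hM hu ?_
        rw [← omega_classInd_res]
        exact memLocalRing_omega hM θ₀.2 (isClassFunction_res N (isClassFunction_classInd _))
          (fun a => Blocks.memLocalRing_classInd hM _ _)
      · refine memLocalIdeal_mul_left hM ?_ (hne ⟨_, hC⟩ hu)
        rw [show e C.out = eb ⟨_, hC⟩ from hev ⟨_, hC⟩, heb]
        exact memLocalRing_blockCoeff hM hb _
    · rw [he0 _ hC, zero_mul]; exact memLocalIdeal_zero hM
  -- every covering block is a unit there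
  have hcu : ∀ {B' : Set (Cfsg.IrrCharacter G)}, Cfsg.IsPBlock M B' →
      (∃ χ ∈ B', ∃ θ ∈ b, Cfsg.classInner (fun n : N => ((χ : Cfsg.IrrCharacter G) : G → ℂ) n)
        ((θ : Cfsg.IrrCharacter N) : N → ℂ) ≠ 0) →
      ∀ χ ∈ B', ¬ Cfsg.MemLocalIdeal M (Cfsg.centralChar ((χ : Cfsg.IrrCharacter G) : G → ℂ) x) :=
    fun hB' hcov' χ hχ h => hxu (by
      simpa using memLocalIdeal_sub hM h ((covering_iff hM hB' hb).1 hcov' χ hχ θ₀ hθ₀ x))
  -- one of them has a unit coefficient
  obtain ⟨B', hB', hcov', hxe'⟩ : ∃ B' : Set (Cfsg.IrrCharacter G), Cfsg.IsPBlock M B' ∧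
      (∃ χ ∈ B', ∃ θ ∈ b, Cfsg.classInner (fun n : N => ((χ : Cfsg.IrrCharacter G) : G → ℂ) n)
        ((θ : Cfsg.IrrCharacter N) : N → ℂ) ≠ 0) ∧
      ¬ Cfsg.MemLocalIdeal M (Cfsg.blockCoeff B' (x : G)) := by
    by_contra hne
    refine hxe ?_
    rw [hAe, blockCoeff_eq_sum A, ← Finset.sum_fiberwise Finset.univ
      (fun φ : Cfsg.IrrCharacter G => Cfsg.blockOf M (φ : G → ℂ)), Finset.mul_sum]
    refine memLocalIdeal_sum hM _ fun B' _ => ?_
    by_cases hB' : Cfsg.IsPBlock M B' ∧ ∃ χ ∈ B', χ ∈ A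
    · obtain ⟨hB', χ', hχ', θ', hθ', hc'⟩ := hB'
      have hall : ∀ φ ∈ B', φ ∈ A := by
        intro φ hφ
        obtain ⟨η, hη⟩ := Char.exists_constituent_res (N := N) φ.2
        obtain ⟨g, θ'', hθ'', hg⟩ := covering_orbit hM hB' hb hχ' hθ' hc' hφ hη
        refine ⟨η, ?_, hη⟩
        have := hinv g θ'' hθ''
        rwa [show (⟨_, Char.isIrr_conjFun g θ''.2⟩ : Cfsg.IrrCharacter N) = η from
          Subtype.ext (funext hg).symm] at this
      have h := Classical.not_not.1 fun h => hne ⟨B', hB', ⟨χ', hχ', θ', hθ', hc'⟩, h⟩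
      convert h using 1
      rw [blockCoeff_eq_sum B', Finset.sum_filter]
      congr 1
      refine Finset.sum_congr rfl fun φ _ => ?_
      have hiff : Cfsg.blockOf M (φ : G → ℂ) = B' ↔ φ ∈ B' :=
        ⟨fun h => h ▸ mem_blockOf_self hM φ, fun h => (IsPBlock.eq_blockOf hM hB' h).symm⟩
      by_cases hφ : φ ∈ B'
      · rw [if_pos (hiff.2 hφ), if_pos hφ, if_pos (hall φ hφ)]
      · rw [if_neg (fun h => hφ (hiff.1 h)), if_neg hφ]
    · rw [Finset.sum_eq_zero, mul_zero]
      · exact memLocalIdeal_zero hM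
      · intro φ hφ
        have hφ' := (Finset.mem_filter.1 hφ).2
        rw [if_neg]
        intro hmem
        exact hB' ⟨hφ' ▸ isPBlock_blockOf φ, φ, hφ' ▸ mem_blockOf_self hM φ, hmem⟩
  -- defects
  obtain ⟨S, hS⟩ := exists_isSylC p (x : G)
  obtain ⟨D', hD'⟩ := exists_defectGroup hM hB'
  obtain ⟨d', hd', hdD'⟩ := isDefectGroup_iff.1 hD'
  obtain ⟨k', hk'⟩ := exists_conj_le_of_unit_coeff hM hB' hd' hdD' hxe' hS
  obtain ⟨χ', hχ', -⟩ := id hcov'
  set c := (Nat.card (Subgroup.centralizer ({(x : G)} : Set G))).factorization p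
  have hd1 : Cfsg.blockDefect p B = c := by
    refine le_antisymm (blockDefect_le_of_unit hM hB hχ₁ (hcu hB ⟨χ₁, hχ₁, hcovB⟩ χ₁ hχ₁))
      (le_trans ?_ (hmax B' hB' hcov'))
    refine (Nat.pow_le_pow_iff_right hp.one_lt).1 ?_
    rw [← hS.2.2, ← BlockChar.card_defectGroup hM hB' hD', ← card_map_conj S k']
    exact Nat.le_of_dvd Nat.card_pos (Subgroup.card_dvd_of_le hk')
  -- move the element so that `P` is a Sylow subgroup of its centralizer
  obtain ⟨gB, hgB, hgBP⟩ := isDefectGroup_iff.1 hP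
  obtain ⟨k, S₁, hS₁, hle₁⟩ := exists_le_isSylC_of_unit hM hB hgB hgBP hχ₁
    (hcu hB ⟨χ₁, hχ₁, hcovB⟩ χ₁ hχ₁)
  have hPS : P.map (MulAut.conj k).toMonoidHom = S₁ := Subgroup.eq_of_le_of_card_ge hle₁ (by
    rw [card_map_conj, BlockChar.card_defectGroup hM hB hP, hS₁.2.2, hd1])
  set y : N := MulAut.conjNormal k⁻¹ x with hy
  have hyx : (y : G) = k⁻¹ * (x : G) * k⁻¹⁻¹ := by rw [hy, MulAut.conjNormal_apply]
  have hPy : IsSylC p (y : G) P := by
    have h := hS₁.conj k⁻¹
    rwa [← hPS, map_conj_map_conj, inv_mul_cancel, map_conj_one, ← hyx] at h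
  have hye : ¬ Cfsg.MemLocalIdeal M (eb y) := by rwa [← hev, hyx, hec]
  have hyu : ¬ Cfsg.MemLocalIdeal M (Cfsg.inducedCentralChar N (θ₀ : N → ℂ) (y : G)) := by
    rw [hyx]
    intro h
    refine hxu ?_
    convert h using 1
    rw [inducedCentralChar_eq_omega, inducedCentralChar_eq_omega]
    congr 1
    funext a
    rw [classInd_apply, classInd_apply]
    exact if_congr ⟨fun h => (isConj_iff.2 ⟨k⁻¹, rfl⟩ : IsConj (x : G) _).symm.trans h,
      fun h => (isConj_iff.2 ⟨k⁻¹, rfl⟩ : IsConj (x : G) _).trans h⟩ rfl rfl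
  -- the classes of `N` in the class of `y`
  have : Finite (ConjClasses N) := Quotient.finite _
  have := Fintype.ofFinite (ConjClasses N)
  set T := Finset.univ.filter fun C : ConjClasses N => IsConj (y : G) (C.out : N) with hT
  set iN := (Subgroup.centralizer ({y} : Set N)).index with hiN
  set iG := (Subgroup.centralizer ({(y : G)} : Set G)).index with hiG
  have hTidx : ∀ C ∈ T, (Subgroup.centralizer ({(C.out : N)} : Set N)).index = iN := by
    intro C hC
    obtain ⟨g, hg⟩ := isConj_iff.1 (Finset.mem_filter.1 hC).2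
    rw [show (C.out : N) = MulAut.conjNormal g y from Subtype.ext (by
      rw [MulAut.conjNormal_apply, hg]), index_centralizer_conjNormal]
  have hcount : T.card * iN = iG := by
    have h := omega_eq_sum_classes (G := N) (χ := (triv N : N → ℂ))
      (Char.isClassFunction_of_isIrr (triv N).2)
      (isClassFunction_res N (isClassFunction_classInd (y : G)))
    have e1 : omega (triv N : N → ℂ) (fun a : N => classInd (y : G) (a : G)) = (iG : ℂ) := by
      rw [omega, hiG, ← Char.card_isConj_eq_index]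
      simp only [triv, mul_one, div_one, classInd_apply]
      rw [← Finset.natCast_card_filter, Nat.card_eq_fintype_card, Fintype.card_subtype, Nat.cast_inj]
      refine Finset.card_bij (fun a _ => (a : G)) ?_ ?_ ?_
      · intro a ha
        exact Finset.mem_filter.2 ⟨Finset.mem_univ _, (Finset.mem_filter.1 ha).2⟩
      · intro a _ a' _ h
        exact Subtype.ext h
      · intro a ha
        obtain ⟨g, hg⟩ := isConj_iff.1 (Finset.mem_filter.1 ha).2
        exact ⟨⟨a, hg ▸ hN.conj_mem _ y.2 g⟩, Finset.mem_filter.2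
          ⟨Finset.mem_univ _, (Finset.mem_filter.1 ha).2⟩, rfl⟩
    rw [e1] at h
    have e2 : (iG : ℂ) = ∑ C ∈ T, (iN : ℂ) := by
      rw [h, hT, Finset.sum_filter]
      refine Finset.sum_congr rfl fun C _ => ?_
      rw [classInd_apply]
      split_ifs with hC
      · rw [one_mul, Cfsg.centralChar, hTidx C (Finset.mem_filter.2 ⟨Finset.mem_univ C, hC⟩)]
        simp [triv]
      · rw [zero_mul]
    rw [Finset.sum_const, nsmul_eq_mul, ← Nat.cast_mul, Nat.cast_inj] at e2
    exact e2.symm
  have hω : Cfsg.MemLocalIdeal M (Cfsg.inducedCentralChar N (θ₀ : N → ℂ) (y : G) -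
      (T.card : ℂ) * Cfsg.centralChar (θ₀ : N → ℂ) y) := by
    have h : Cfsg.inducedCentralChar N (θ₀ : N → ℂ) (y : G) =
        ∑ C ∈ T, Cfsg.centralChar (θ₀ : N → ℂ) (C.out : N) := by
      rw [inducedCentralChar_eq_omega, omega_eq_sum_classes (Char.isClassFunction_of_isIrr θ₀.2)
        (isClassFunction_res N (isClassFunction_classInd (y : G))), hT, Finset.sum_filter]
      refine Finset.sum_congr rfl fun C _ => ?_
      rw [classInd_apply]
      split_ifs <;> simp
    rw [h, ← nsmul_eq_mul, ← Finset.sum_const, ← Finset.sum_sub_distrib]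
    refine memLocalIdeal_sum hM _ fun C hC => ?_
    obtain ⟨g, hg⟩ := isConj_iff.1 (Finset.mem_filter.1 hC).2
    rw [show (C.out : N) = MulAut.conjNormal g y from Subtype.ext (by
      rw [MulAut.conjNormal_apply, hg]), ← centralChar_conjFun g θ₀ y]
    exact IsPBlock.sameBlock hM hb (hinv g θ₀ hθ₀) hθ₀ y
  have hTu : ¬ p ∣ T.card ∧ ¬ Cfsg.MemLocalIdeal M (Cfsg.centralChar (θ₀ : N → ℂ) y) := by
    refine ⟨fun hd => hyu ?_, fun hd => hyu ?_⟩
    · have := memLocalIdeal_add hM hω (memLocalIdeal_mul_right hM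
        ((memLocalIdeal_natCast_iff hM _).2 hd) (memLocalRing_centralChar hM θ₀.2 y))
      simpa using this
    · have := memLocalIdeal_add hM hω (memLocalIdeal_mul_left hM
        (memLocalRing_natCast hM T.card) hd)
      simpa using this
  have hcl : Cfsg.IsDefectClass M b y :=
    ⟨memLocalRing_blockCoeff hM hb y, hye, fun θ hθ hd => hTu.2 (by
      simpa using memLocalIdeal_add hM (IsPBlock.sameBlock hM hb hθ₀ hθ y) hd)⟩
  -- orders
  set cN := (Nat.card (Subgroup.centralizer ({y} : Set N))).factorization p with hcN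
  have hcard : ∀ (H : Subgroup G), (Nat.card G).factorization p =
      H.index.factorization p + (Nat.card H).factorization p := fun H => by
    have e1 := congrArg (fun t => t.factorization p) (Subgroup.index_mul_card H)
    simp only [Nat.factorization_mul Subgroup.index_ne_zero_of_finite Nat.card_pos.ne',
      Finsupp.add_apply] at e1
    exact e1.symm
  have hc' : (Nat.card (Subgroup.centralizer ({(y : G)} : Set G))).factorization p = c :=
    Nat.pow_right_injective hp.two_le (by
      simp only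
      rw [← hPy.2.2, BlockChar.card_defectGroup hM hB hP, hd1])
  have hcN' : c = cN + N.index.factorization p := by
    have e1 := hcard (Subgroup.centralizer ({(y : G)} : Set G))
    have e2 := hcard N
    have e3 := congrArg (fun t => t.factorization p)
      (Subgroup.index_mul_card (Subgroup.centralizer ({y} : Set N)))
    simp only [Nat.factorization_mul Subgroup.index_ne_zero_of_finite Nat.card_pos.ne',
      Finsupp.add_apply] at e3
    have hT0 : T.card ≠ 0 := fun h => hTu.1 (h ▸ dvd_zero p)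
    have e4 := congrArg (fun t => t.factorization p) hcount
    have hiN0 : iN ≠ 0 := Subgroup.index_ne_zero_of_finite
    beta_reduce at e4
    rw [Nat.factorization_mul hT0 hiN0, Finsupp.add_apply,
      Nat.factorization_eq_zero_of_not_dvd hTu.1, zero_add] at e4
    rw [hiG, hiN] at e4
    rw [hc', ← e4] at e1
    rw [← hcN] at e3
    omega
  have hdb : Cfsg.blockDefect p b = cN := by
    obtain ⟨E, hE⟩ := exists_isSylC p y
    exact (Nat.pow_right_injective hp.two_le (hE.2.2.symm.trans (BlockChar.card_defectGroup hM hb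
      (isDefectGroup_iff.2 ⟨y, hcl, hE⟩)))).symm
  set Q := (P ⊓ N).subgroupOf N with hQ
  have hQp : IsPGroup p Q := (hPy.2.1.to_le inf_le_left).comap_subtype
  have hQle : Q ≤ Subgroup.centralizer ({y} : Set N) := fun u hu =>
    Subgroup.mem_centralizer_singleton_iff.2 (Subtype.ext
      (Subgroup.mem_centralizer_singleton_iff.1 (hPy.1 hu.1)))
  obtain ⟨i, hi⟩ := IsPGroup.iff_card.1 hQp
  have hicN : i ≤ cN := (hp.pow_dvd_iff_le_factorization Nat.card_pos.ne').1
    (hi ▸ Subgroup.card_dvd_of_le hQle)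
  have hcQ : Nat.card Q = Nat.card (P ⊓ N : Subgroup G) :=
    Nat.card_congr (Subgroup.subgroupOfEquivOfLe inf_le_right).toEquiv
  have hprod : Nat.card P = N.relIndex (P ⊔ N) * Nat.card (P ⊓ N : Subgroup G) := by
    have e1 : N.relIndex (P ⊔ N) = (P ⊓ N).relIndex P := by
      rw [sup_comm, Subgroup.relIndex_sup_left, ← Subgroup.inf_relIndex_right, inf_comm]
    rw [e1, Subgroup.relIndex,
      ← Nat.card_congr (Subgroup.subgroupOfEquivOfLe (inf_le_left : P ⊓ N ≤ P)).toEquiv,
      Subgroup.index_mul_card]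
  rw [BlockChar.card_defectGroup hM hB hP, hd1, ← hcQ, hi] at hprod
  have hr0 : N.relIndex (P ⊔ N) ≠ 0 := Subgroup.index_ne_zero_of_finite
  have e5 := congrArg (fun t => t.factorization p) hprod
  simp only [Nat.factorization_mul hr0 (pow_ne_zero _ hp.ne_zero), Finsupp.add_apply,
    hp.factorization_pow, Finsupp.single_eq_same] at e5
  have e6 := congrArg (fun t => t.factorization p)
    (Subgroup.relIndex_mul_index (le_sup_right : N ≤ P ⊔ N))
  simp only [Nat.factorization_mul hr0 Subgroup.index_ne_zero_of_finite, Finsupp.add_apply] at e6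
  refine ⟨fun hd => ?_, ?_, by rw [hd1, hdb, hcN']⟩
  · have := Nat.Prime.factorization_pos_of_dvd hp Subgroup.index_ne_zero_of_finite hd
    omega
  · refine isDefectGroup_iff.2 ⟨y, hcl, hQle, hQp, ?_⟩
    rw [hi, ← hcN]
    congr 1
    omega

end Cfsg.Agent.DefectThms
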