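import Mathlib

/-!
# Homocyclic Sylow 2-subgroups of rank two: the automizer
-/

set_option autoImplicit false

namespace Cfsg.Agent.BlockThms.Homocyclic

universe u

theorem two_mul_eq_zero_iff {m : ℕ} (hm : 1 ≤ m) (a : ZMod (2 ^ m)) :
    a + a = 0 ↔ a = 0 ∨ a = ((2 ^ (m - 1) : ℕ) : ZMod (2 ^ m)) := by
  have e : (2 : ℕ) ^ m = 2 * 2 ^ (m - 1) := by rw [← pow_succ']; congr 1; omega
  constructor
  · intro h
    have h' : ((a.val + a.val : ℕ) : ZMod (2 ^ m)) = 0 := by
      rw [Nat.cast_add, ZMod.natCast_zmod_val, h]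
    rw [ZMod.natCast_eq_zero_iff] at h'
    obtain ⟨k, hk⟩ := h'
    have hlt := ZMod.val_lt a
    have e' : (2 : ℕ) ^ m * k = 2 * (2 ^ (m - 1) * k) := by rw [← mul_assoc, ← e]
    have hk' : a.val = 2 ^ (m - 1) * k := by omega
    have hk2 : k < 2 := by
      by_contra hge
      have : 2 ^ (m - 1) * 2 ≤ 2 ^ (m - 1) * k := Nat.mul_le_mul_left _ (by omega)
      omega
    interval_cases k
    · left
      rw [← ZMod.natCast_zmod_val a, hk', Nat.mul_zero, Nat.cast_zero]
    · right
      rw [← ZMod.natCast_zmod_val a, hk', Nat.mul_one]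
  · rintro (rfl | rfl)
    · simp
    · rw [← Nat.cast_add, ← two_mul, ← e, ZMod.natCast_self]

theorem half_ne_zero {m : ℕ} (hm : 1 ≤ m) : ((2 ^ (m - 1) : ℕ) : ZMod (2 ^ m)) ≠ 0 := by
  rw [Ne, ZMod.natCast_eq_zero_iff]
  intro h
  have := (Nat.pow_dvd_pow_iff_le_right (by norm_num : 1 < 2)).1 h
  omega

variable {G : Type u} [Group G] [Finite G]

/-- A homocyclic group of rank two has three involutions. -/
theorem card_involutions {P : Type u} [Group P] {m : ℕ} (hm : 1 ≤ m)
    (e : P ≃* Multiplicative (ZMod (2 ^ m) × ZMod (2 ^ m))) :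
    Nat.card {z : P // z ≠ 1 ∧ z * z = 1} = 3 := by
  classical
  set h := ((2 ^ (m - 1) : ℕ) : ZMod (2 ^ m)) with hh
  have hh0 : h ≠ 0 := half_ne_zero hm
  rw [Nat.card_congr (e.toEquiv.subtypeEquiv (q := fun v => v ∈
    ({Multiplicative.ofAdd (h, (0 : ZMod (2 ^ m))), Multiplicative.ofAdd (0, h),
      Multiplicative.ofAdd (h, h)} : Finset (Multiplicative (ZMod (2 ^ m) × ZMod (2 ^ m))))) ?_),
    Nat.card_eq_finsetCard, Finset.card_insert_of_notMem, Finset.card_pair]
  · simp [Ne.symm hh0]
  · simp [Ne.symm hh0, hh0, Prod.ext_iff]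
  intro z
  have h1 : z * z = 1 ↔ (Multiplicative.toAdd (e z)).1 + (Multiplicative.toAdd (e z)).1 = 0 ∧
      (Multiplicative.toAdd (e z)).2 + (Multiplicative.toAdd (e z)).2 = 0 := by
    rw [← map_eq_one_iff e e.injective, map_mul, ← Multiplicative.toAdd.injective.eq_iff,
      toAdd_mul, toAdd_one, Prod.ext_iff]
    rfl
  have h2 : z ≠ 1 ↔ Multiplicative.toAdd (e z) ≠ 0 := by
    rw [Ne, Ne, ← map_eq_one_iff e e.injective, ← toAdd_eq_zero]
  rw [h1, h2, two_mul_eq_zero_iff hm, two_mul_eq_zero_iff hm, ← hh]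
  simp only [Finset.mem_insert, Finset.mem_singleton, MulEquiv.toEquiv_eq_coe,
    MulEquiv.coe_toEquiv, ← Multiplicative.toAdd.injective.eq_iff, toAdd_ofAdd]
  generalize Multiplicative.toAdd (e z) = v
  obtain ⟨a, b⟩ := v
  simp only [Prod.ext_iff, Ne, Prod.fst_zero, Prod.snd_zero]
  constructor
  · rintro ⟨hne, ha | ha, hb | hb⟩ <;> subst ha hb <;> simp_all
  · rintro (⟨rfl, rfl⟩ | ⟨rfl, rfl⟩ | ⟨rfl, rfl⟩) <;> simp [hh0]

theorem perm_fin_three : ∀ σ : Equiv.Perm (Fin 3), σ ^ 3 = 1 → ∀ i, σ i = i → σ = 1 := by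
  decide

set_option maxHeartbeats 1000000

variable (P : Sylow 2 G) {m : ℕ} (hm : 1 ≤ m)
  (e : (P : Subgroup G) ≃* Multiplicative (ZMod (2 ^ m) × ZMod (2 ^ m)))
include hm e

/-- The automizer of `P` has order 1 or 3, and in the latter case it acts without fixed
points. -/
theorem automizer :
    ((Subgroup.centralizer (P : Set G)).relIndex (Subgroup.normalizer (P : Set G)) = 1 ∨
      (Subgroup.centralizer (P : Set G)).relIndex (Subgroup.normalizer (P : Set G)) = 3) ∧
    ((Subgroup.centralizer (P : Set G)).relIndex (Subgroup.normalizer (P : Set G)) ≠ 1 →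
      (∀ z ∈ (P : Subgroup G), z ≠ 1 →
        Subgroup.centralizer ({z} : Set G) ⊓ Subgroup.normalizer (P : Set G) =
          Subgroup.centralizer (P : Set G)) ∧
      ∀ s t : G, s ∈ (P : Subgroup G) → orderOf s = 2 → t ∈ (P : Subgroup G) → orderOf t = 2 →
        IsConj s t) := by
  classical
  set N := Subgroup.normalizer (P : Set G) with hN
  set C := Subgroup.centralizer (P : Set G) with hC
  set r := C.relIndex N with hr
  have hCN : C ≤ N := Subgroup.centralizer_le_normalizer _
  have hcomm : ∀ a ∈ (P : Subgroup G), ∀ b ∈ (P : Subgroup G), a * b = b * a := by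
    intro a ha b hb
    have := e.injective ((by rw [map_mul, map_mul, mul_comm]) :
      e (⟨a, ha⟩ * ⟨b, hb⟩) = e (⟨b, hb⟩ * ⟨a, ha⟩))
    exact congrArg Subtype.val this
  have hPC : (P : Subgroup G) ≤ C := fun a ha => Subgroup.mem_centralizer_iff.2 fun b hb =>
    hcomm b hb a ha
  have hCn : (C.subgroupOf N).Normal := by
    refine ⟨fun c hc k => ?_⟩
    rw [Subgroup.mem_subgroupOf, Subgroup.mem_centralizer_iff] at hc ⊢
    intro v hv
    simp only [Subgroup.coe_mul, Subgroup.coe_inv]
    have hv' : (k : G)⁻¹ * v * k ∈ (P : Subgroup G) := by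
      have := (Subgroup.mem_normalizer_iff.1 (inv_mem k.2) v).1 hv
      simpa using this
    calc v * ((k : G) * c * (k : G)⁻¹) = (k : G) * (((k : G)⁻¹ * v * k) * c) * (k : G)⁻¹ := by
          group
      _ = (k : G) * (c * ((k : G)⁻¹ * v * k)) * (k : G)⁻¹ := by rw [hc _ hv']
      _ = (k : G) * c * (k : G)⁻¹ * v := by group
  have hrodd : ¬ 2 ∣ r := fun h2 => P.not_dvd_index (h2.trans
    ((Subgroup.relIndex_dvd_index_of_le hCN).trans (Subgroup.index_dvd_of_le hPC)))
  have hpow : ∀ n : N, ((n ^ r : N) : G) ∈ C := fun n =>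
    Subgroup.mem_subgroupOf.1 (Subgroup.pow_index_mem (C.subgroupOf N) n)
  -- involutions control the action
  have key : ∀ n : N, (∀ z ∈ (P : Subgroup G), z ≠ 1 → z * z = 1 → (n : G) * z = z * n) →
      (n : G) ∈ C := by
    intro n hn
    rw [hC, Subgroup.mem_centralizer_iff]
    suffices H : ∀ (j : ℕ) (x : G), x ∈ (P : Subgroup G) → x ^ (2 ^ j) = 1 →
        (n : G) * x = x * n by
      intro x hx
      obtain ⟨j, hj⟩ := P.2 ⟨x, hx⟩
      exact (H j x hx (congrArg Subtype.val hj)).symm
    intro j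
    induction j with
    | zero => intro x _ hx; rw [pow_zero, pow_one] at hx; simp [hx]
    | succ j ih =>
      intro x hx hx2
      have hxx : (n : G) * (x * x) = x * x * n := ih _ (mul_mem hx hx) (by
        rw [← pow_two, ← pow_mul, ← pow_succ']; exact hx2)
      set d := (n : G) * x * (n : G)⁻¹ * x⁻¹ with hd
      have hnx : (n : G) * x * (n : G)⁻¹ ∈ (P : Subgroup G) :=
        (Subgroup.mem_normalizer_iff.1 n.2 x).1 hx
      have hdP : d ∈ (P : Subgroup G) := mul_mem hnx (inv_mem hx)
      have hd2 : d * d = 1 := by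
        rw [hd, show (n : G) * x * (n : G)⁻¹ * x⁻¹ * ((n : G) * x * (n : G)⁻¹ * x⁻¹) =
          (n : G) * x * (n : G)⁻¹ * (x⁻¹ * ((n : G) * x * (n : G)⁻¹)) * x⁻¹ by group,
          hcomm _ (inv_mem hx) _ hnx]
        rw [show (n : G) * x * (n : G)⁻¹ * ((n : G) * x * (n : G)⁻¹ * x⁻¹) * x⁻¹ =
          (n : G) * (x * x) * (n : G)⁻¹ * (x⁻¹ * x⁻¹) by group, hxx]
        group
      by_cases hd1 : d = 1
      · rwa [hd, mul_inv_eq_one, mul_inv_eq_iff_eq_mul] at hd1
      have hnd : Commute (n : G) d := hn d hdP hd1 hd2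
      have hiter : ∀ k : ℕ, (n : G) ^ k * x = d ^ k * x * (n : G) ^ k := by
        intro k
        induction k with
        | zero => simp
        | succ k ihk =>
          rw [pow_succ', mul_assoc, ihk, ← mul_assoc, ← mul_assoc, (hnd.pow_right k).eq,
            mul_assoc (d ^ k), show (n : G) * x = d * x * n by rw [hd]; group, pow_succ d k]
          group
      exfalso
      apply hd1
      have h1 : (n : G) ^ r * x = x * (n : G) ^ r := by
        have := Subgroup.mem_centralizer_iff.1 (hpow n) x hx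
        rw [Subgroup.coe_pow] at this
        exact this.symm
      have h2 := hiter r
      rw [h1] at h2
      have hdr : d ^ r = 1 := by
        have := mul_right_cancel h2
        exact mul_eq_right.1 this.symm
      rw [← orderOf_eq_one_iff]
      exact Nat.eq_one_of_dvd_coprimes (Nat.prime_two.coprime_iff_not_dvd.2 hrodd)
        (orderOf_dvd_of_pow_eq_one (by rw [pow_two]; exact hd2)) (orderOf_dvd_of_pow_eq_one hdr)
  -- the action on involutions
  let X := {z : (P : Subgroup G) // z ≠ 1 ∧ z * z = 1}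
  have hX : Nat.card X = 3 := card_involutions hm e
  let ψ : N →* Equiv.Perm X :=
    { toFun := fun n =>
        { toFun := fun z => ⟨⟨(n : G) * (z.1 : G) * (n : G)⁻¹,
              (Subgroup.mem_normalizer_iff.1 n.2 _).1 z.1.2⟩,
            ⟨fun h => z.2.1 (Subtype.ext (by
              have := congrArg Subtype.val h
              simpa using this)),
            Subtype.ext (by
              have := congrArg Subtype.val z.2.2
              simp only [Subgroup.coe_mul, Subgroup.coe_one] at this ⊢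
              rw [show (n : G) * (z.1 : G) * (n : G)⁻¹ * ((n : G) * (z.1 : G) * (n : G)⁻¹) =
                (n : G) * ((z.1 : G) * (z.1 : G)) * (n : G)⁻¹ by group, this]
              group)⟩⟩
          invFun := fun z => ⟨⟨(n : G)⁻¹ * (z.1 : G) * (n : G), by
              simpa using (Subgroup.mem_normalizer_iff.1 (inv_mem n.2) _).1 z.1.2⟩,
            ⟨fun h => z.2.1 (Subtype.ext (by
              have := congrArg Subtype.val h
              simp only [Subgroup.coe_one] at this ⊢
              calc (z.1 : G) = (n : G) * ((n : G)⁻¹ * (z.1 : G) * (n : G)) * (n : G)⁻¹ := by group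
                _ = 1 := by rw [this]; group)),
            Subtype.ext (by
              have := congrArg Subtype.val z.2.2
              simp only [Subgroup.coe_mul, Subgroup.coe_one] at this ⊢
              rw [show (n : G)⁻¹ * (z.1 : G) * (n : G) * ((n : G)⁻¹ * (z.1 : G) * (n : G)) =
                (n : G)⁻¹ * ((z.1 : G) * (z.1 : G)) * (n : G) by group, this]
              group)⟩⟩
          left_inv := fun z => Subtype.ext (Subtype.ext (by simp [mul_assoc]))
          right_inv := fun z => Subtype.ext (Subtype.ext (by simp [mul_assoc])) }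
      map_one' := by ext z; simp
      map_mul' := fun a b => by ext z; simp [mul_assoc] }
  have hψ : ∀ (n : N) (z : X), (((ψ n z).1 : (P : Subgroup G)) : G) =
      (n : G) * (z.1 : G) * (n : G)⁻¹ := fun _ _ => rfl
  have hker : ψ.ker = C.subgroupOf N := by
    ext n
    rw [MonoidHom.mem_ker, Subgroup.mem_subgroupOf]
    constructor
    · intro h
      refine key n fun z hz hz1 hz2 => ?_
      have h1 := congrArg (fun w : X => ((w.1 : (P : Subgroup G)) : G))
        (Equiv.Perm.ext_iff.1 h ⟨⟨z, hz⟩, fun hh => hz1 (congrArg Subtype.val hh),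
          Subtype.ext hz2⟩)
      simp only [hψ, Equiv.Perm.one_apply] at h1
      rwa [mul_inv_eq_iff_eq_mul] at h1
    · intro h
      ext z
      rw [hψ, Equiv.Perm.one_apply, ← Subgroup.mem_centralizer_iff.1 h _ z.1.2,
        mul_inv_cancel_right]
  have hidx : r = Nat.card ψ.range := by rw [← Subgroup.index_ker, hker]; rfl
  have hperm : Nat.card (Equiv.Perm X) = 6 := by rw [Nat.card_perm, hX]; rfl
  have h13 : r = 1 ∨ r = 3 := by
    have hd : r ∣ 6 := hidx ▸ hperm ▸ Subgroup.card_subgroup_dvd_card ψ.range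
    have := Nat.le_of_dvd (by norm_num) hd
    have h2 := hrodd
    interval_cases r <;> omega
  refine ⟨h13, fun hne => ?_⟩
  have h3 : r = 3 := h13.resolve_left hne
  have : Finite X := Nat.finite_of_card_ne_zero (by omega)
  let eX : X ≃ Fin 3 := (Finite.equivFin X).trans (finCongr hX)
  have hfix : ∀ n : N, ∀ z : X, ψ n z = z → n ∈ ψ.ker := by
    intro n z hz
    rw [MonoidHom.mem_ker]
    have h3' : ψ n ^ 3 = 1 := by
      have := orderOf_dvd_natCard (⟨ψ n, n, rfl⟩ : ψ.range)
      rw [← Subgroup.orderOf_coe, ← hidx, h3] at this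
      exact orderOf_dvd_iff_pow_eq_one.1 this
    have h1 := perm_fin_three (eX.permCongrHom (ψ n)) (by rw [← map_pow, h3', map_one])
      (eX z) (by show eX (ψ n (eX.symm (eX z))) = eX z; rw [eX.symm_apply_apply, hz])
    exact eX.permCongrHom.injective (by rw [h1, map_one])
  refine ⟨fun z hzP hz1 => ?_, ?_⟩
  · refine le_antisymm (fun g hg => ?_) (le_inf (fun g hg => ?_) hCN)
    · obtain ⟨hgz', hgN⟩ := hg
      have hgz : g * z = z * g := Subgroup.mem_centralizer_singleton_iff.1 hgz'
      obtain ⟨k, hk⟩ := (IsPGroup.iff_orderOf.1 P.2) ⟨z, hzP⟩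
      rw [← Subgroup.orderOf_coe] at hk
      cases k with
      | zero => exact absurd (orderOf_eq_one_iff.1 (hk.trans (pow_zero 2))) hz1
      | succ k =>
        set w := z ^ 2 ^ k with hw
        have hw2 : w * w = 1 := by
          rw [hw, ← pow_add, ← two_mul, ← pow_succ']
          exact hk ▸ pow_orderOf_eq_one z
        have hw1 : w ≠ 1 := fun h => by
          have := orderOf_dvd_of_pow_eq_one h
          rw [show orderOf z = 2 ^ (k + 1) from hk] at this
          have := (Nat.pow_dvd_pow_iff_le_right (by norm_num : 1 < 2)).1 this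
          omega
        have hm' := hfix ⟨g, hgN⟩ ⟨⟨w, pow_mem hzP _⟩, fun h => hw1 (congrArg Subtype.val h),
          Subtype.ext hw2⟩ (Subtype.ext (Subtype.ext (by
            show g * w * g⁻¹ = w
            rw [((show Commute g z from hgz).pow_right (2 ^ k)).eq, mul_inv_cancel_right])))
        rw [hker] at hm'
        exact hm'
    · rw [Subgroup.mem_centralizer_singleton_iff]
      exact (Subgroup.mem_centralizer_iff.1 hg z hzP).symm
  · intro s t hs hs2 ht ht2
    have mk : ∀ u ∈ (P : Subgroup G), orderOf u = 2 → ∃ x : X, ((x.1 : (P : Subgroup G)) : G) = u := by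
      intro u hu hu2
      refine ⟨⟨⟨u, hu⟩, fun h => ?_, Subtype.ext ?_⟩, rfl⟩
      · rw [show u = 1 from congrArg Subtype.val h, orderOf_one] at hu2
        exact absurd hu2 (by norm_num)
      · show u * u = 1
        rw [← pow_two, ← hu2, pow_orderOf_eq_one]
    obtain ⟨x, hx⟩ := mk s hs hs2
    obtain ⟨y, hy⟩ := mk t ht ht2
    have hinj : Function.Injective fun σ : ψ.range => (σ : Equiv.Perm X) x := by
      rintro ⟨_, a, rfl⟩ ⟨_, b, rfl⟩ h
      have := hfix (b⁻¹ * a) x (by
        rw [map_mul, Equiv.Perm.mul_apply, show ψ a x = ψ b x from h, ← Equiv.Perm.mul_apply,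
          ← map_mul, inv_mul_cancel, map_one, Equiv.Perm.one_apply])
      rw [MonoidHom.mem_ker, map_mul, map_inv, inv_mul_eq_one] at this
      exact Subtype.ext this.symm
    obtain ⟨⟨_, n, rfl⟩, hn⟩ := (hinj.bijective_of_nat_card_le (by rw [hX, ← hidx, h3])).2 y
    refine isConj_iff.2 ⟨(n : G), ?_⟩
    rw [← hx, ← hy, ← hψ]
    exact congrArg (fun w : X => ((w.1 : (P : Subgroup G)) : G)) hn

end Cfsg.Agent.BlockThms.Homocyclic
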