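import Mathlib
import Cfsg.Agent.S0947
import Cfsg.Agent.BlockThms.Homocyclic
import Cfsg.Agent.BlockThms.BrauerMap
import Cfsg.Agent.BlockThms.SecondMainIdem
import Cfsg.Agent.BlockThms.NormalCor
import Cfsg.Agent.BlockChar.LowDefect
import Cfsg.Agent.Fusion.Transfer
import Cfsg.Agent.Invol.ZStar
import Cfsg.Agent.Invol.Isolated

/-!
# The principal 2-block with a quaternion Sylow subgroup of order 8
-/

set_option autoImplicit false

namespace Cfsg.Agent.BlockThms.QuaternionBlock

open scoped ComplexConjugate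
open Cfsg.Agent Cfsg.Agent.Blocks
open Cfsg.Agent.BlockThms hiding conv omega IsClass exists_isPModular omega_conv

universe u

variable {G : Type u} [Group G] [Fintype G] {M : Ideal Cfsg.AlgInt}

omit [Fintype G] in
/-- Values at involutions are integers of the parity of the degree. -/
theorem exists_int_involution [Finite G] {χ : G → ℂ} (hχ : Cfsg.IsCharacter G χ) {z : G}
    (hz : z * z = 1) :
    ∃ k : ℤ, χ z = (k : ℂ) ∧ (2 : ℤ) ∣ k - (Cfsg.charDegree χ : ℤ) := by
  classical
  obtain ⟨n, ρ, hρ⟩ := id hχ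
  obtain ⟨μ, b, -, hμ, hsum⟩ := Char.exists_eigenbasis ρ z
  have h1 : ∀ i, μ i = 1 ∨ μ i = -1 := fun i => by
    have h2 : μ i ^ 2 = 1 := by
      obtain ⟨c, hc⟩ : orderOf z ∣ 2 := orderOf_dvd_of_pow_eq_one (by rw [pow_two, hz])
      rw [hc, pow_mul, hμ, one_pow]
    exact sq_eq_one_iff.1 h2
  have hdeg : Cfsg.charDegree χ = Module.finrank ℂ (Fin n → ℂ) :=
    charDegree_eq (n := Module.finrank ℂ (Fin n → ℂ)) (by rw [← hρ, Representation.char_one])
  refine ⟨∑ i, if μ i = 1 then 1 else -1, ?_, ?_⟩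
  · rw [← hρ, hsum]
    push_cast
    refine Finset.sum_congr rfl fun i _ => ?_
    rcases h1 i with h | h <;> norm_num [h]
  · rw [hdeg]
    have : ((Module.finrank ℂ (Fin n → ℂ) : ℤ)) =
        ∑ _i : Fin (Module.finrank ℂ (Fin n → ℂ)), (1 : ℤ) := by simp
    rw [this, ← Finset.sum_sub_distrib]
    refine Finset.dvd_sum fun i _ => ?_
    split_ifs <;> norm_num

/-- With a normal 2-complement, counting elements of odd order. -/
theorem card_regular_mul {C : Type u} [Group C] [Fintype C] (h : Cfsg.HasNormalPComplement 2 C) :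
    (∃ k : ℕ, (Cfsg.pPrimeCore 2 C).index = 2 ^ k) ∧
      Nat.card {y : C // ¬ 2 ∣ orderOf y} * 2 ^ (Nat.card C).factorization 2 = Nat.card C := by
  classical
  obtain ⟨N, hN, hc, k, hk⟩ := Fusion.hasNormalPComplement_iff_exists.1 h
  have h2N : ¬ 2 ∣ Nat.card N := (Nat.prime_two.coprime_iff_not_dvd).1 hc.symm
  refine ⟨?_, ?_⟩
  · obtain ⟨i, -, hi⟩ := (Nat.dvd_prime_pow Nat.prime_two).1
      (hk ▸ Subgroup.index_dvd_of_le (Core.le_pPrimeCore (p := 2) hc))
    exact ⟨i, hi⟩
  · have hmem : ∀ y : C, ¬ 2 ∣ orderOf y ↔ y ∈ N := fun y =>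
      ⟨fun hy => BlockThms.mem_of_regular Nat.prime_two ⟨k, hk⟩ hy, fun hy hd => h2N (hd.trans
        (by have := orderOf_dvd_natCard (⟨y, hy⟩ : N); rwa [← Subgroup.orderOf_coe] at this))⟩
    rw [Nat.card_congr (Equiv.subtypeEquivRight hmem)]
    have e := N.card_mul_index
    rw [hk] at e
    have hkv : k = (Nat.card C).factorization 2 := by
      rw [← e, Nat.factorization_mul Nat.card_pos.ne' (pow_ne_zero _ two_ne_zero),
        Finsupp.add_apply, Nat.factorization_eq_zero_of_not_dvd h2N, zero_add,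
        Nat.prime_two.factorization_pow, Finsupp.single_eq_same]
    rw [← hkv]
    exact e

/-- The sum of the squares of the absolute values over the principal block. -/
theorem sum_norm_section (hM : Cfsg.IsPModular 2 M) {g : G}
    (hne : ¬ ¬ 2 ∣ orderOf g)
    (hC : Cfsg.HasNormalPComplement 2
      (Subgroup.centralizer ({pPartOf 2 g} : Set G) : Subgroup G)) :
    ∑ χ ∈ (Set.toFinite (Cfsg.principalBlock M G)).toFinset,
      (χ : G → ℂ) g * conj ((χ : G → ℂ) g) =
        ((2 ^ (Nat.card (Subgroup.centralizer ({pPartOf 2 g} : Set G))).factorization 2 : ℕ) : ℂ) := by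
  classical
  have : Fact (Nat.Prime 2) := ⟨Nat.prime_two⟩
  set x := pPartOf 2 g with hx
  have : Fintype (Subgroup.centralizer ({x} : Set G)) := Fintype.ofFinite _
  let y : Subgroup.centralizer ({x} : Set G) := ⟨pPrimePartOf 2 g,
    Subgroup.mem_centralizer_singleton_iff.2 (commute_pPartOf_pPrimePartOf g).eq.symm⟩
  have hy : ¬ 2 ∣ orderOf y := by
    rw [← Subgroup.orderOf_coe]; exact not_dvd_orderOf_pPrimePartOf Nat.prime_two g
  have h := (Cfsg.Agent.S0947.result 2 M hM x (orderOf_pPartOf Nat.prime_two g)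
    (fun h => hne ((pPartOf_eq_one_iff Nat.prime_two g).1 h)) y hy).2 (card_regular_mul hC).1
  rw [show x * (y : G) = g from pPartOf_mul_pPrimePartOf Nat.prime_two g,
    finsum_mem_eq_finite_toFinset_sum _ (Set.toFinite _)] at h
  have h' := congrArg (fun r : ℝ => (r : ℂ)) h
  simp only [Complex.ofReal_sum, Complex.ofReal_natCast] at h'
  rw [← h']
  refine Finset.sum_congr rfl fun χ _ => ?_
  rw [Complex.mul_conj, Complex.normSq_eq_norm_sq]

/-- A central involution acts as a sign. -/
theorem central_mul {χ : G → ℂ} (hχ : Cfsg.IsIrrCharacter G χ) {z : G}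
    (hz : z ∈ Subgroup.center G) (y : G) : χ 1 * χ (z * y) = χ z * χ y := by
  classical
  have hsingle : ∀ k : G, Blocks.classInd z k = if k = z then 1 else 0 := fun k => by
    rw [Blocks.classInd_apply]
    refine if_congr ⟨fun h => ?_, fun h => h ▸ IsConj.refl _⟩ rfl rfl
    obtain ⟨c, hc⟩ := isConj_iff.1 h
    rw [← hc, Subgroup.mem_center_iff.1 hz c, mul_inv_cancel_right]
  have h := sum_mul_char_mul hχ (Blocks.isClassFunction_classInd z) y
  have h1 : Blocks.omega χ (Blocks.classInd z) = χ z / χ 1 := by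
    rw [Blocks.omega, Finset.sum_eq_single z (fun k _ hk => by rw [hsingle, if_neg hk, zero_mul])
      (by simp), hsingle, if_pos rfl, one_mul]
  rw [Finset.sum_eq_single z (fun k _ hk => by rw [hsingle, if_neg hk, zero_mul]) (by simp),
    hsingle, if_pos rfl, one_mul, h1] at h
  rw [h]
  field_simp [Char.IsIrr.one_ne_zero hχ]

theorem klein_sq : ∀ v : Multiplicative (ZMod (2 ^ 1) × ZMod (2 ^ 1)), v ^ 2 = 1 := by decide

theorem klein_ne_one :
    Multiplicative.ofAdd ((1 : ZMod (2 ^ 1)), (0 : ZMod (2 ^ 1))) ≠ 1 := by decide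

section Klein

variable {Q : Type u} [Group Q] [Fintype Q] (V : Sylow 2 Q)
  (e : (V : Subgroup Q) ≃* Multiplicative (ZMod (2 ^ 1) × ZMod (2 ^ 1)))
  (hone : ∀ s t : Q, orderOf s = 2 → orderOf t = 2 → IsConj s t)
include e hone

omit [Fintype Q] in
theorem card_eq_four : Nat.card (V : Subgroup Q) = 4 := by
  rw [Nat.card_congr e.toEquiv]
  simp [Nat.card_eq_fintype_card]

omit [Fintype Q] in
theorem orderOf_eq_two {u : Q} (hu : ∃ k, orderOf u = 2 ^ k) (hu1 : u ≠ 1) [Finite Q] :
    orderOf u = 2 := by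
  obtain ⟨k, hk⟩ := hu
  obtain ⟨W, hW⟩ := (IsPGroup.of_card (p := 2) (n := k) (by rw [Nat.card_zpowers, hk]) :
    IsPGroup 2 (Subgroup.zpowers u)).exists_le_sylow
  obtain ⟨c, hc⟩ := MulAction.exists_smul_eq Q W V
  have hv : c * u * c⁻¹ ∈ (V : Subgroup Q) := hc ▸ ⟨u, hW (Subgroup.mem_zpowers u), rfl⟩
  have h2 : (⟨_, hv⟩ : (V : Subgroup Q)) ^ 2 = 1 := e.injective (by
    rw [map_pow, klein_sq, map_one])
  have h3 := congrArg Subtype.val h2
  simp only [Subgroup.coe_pow, Subgroup.coe_one, conj_pow, conj_eq_one_iff] at h3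
  exact orderOf_eq_prime h3 hu1

/-- Centralizers of involutions: Sylow order and normal complement. -/
theorem centralizer_facts {u : Q} (hu : orderOf u = 2) :
    Cfsg.HasNormalPComplement 2 (Subgroup.centralizer ({u} : Set Q) : Subgroup Q) ∧
      (Nat.card (Subgroup.centralizer ({u} : Set Q))).factorization 2 = 2 := by
  classical
  set C := Subgroup.centralizer ({u} : Set Q) with hC
  obtain ⟨W, hW⟩ := (IsPGroup.of_card (p := 2) (n := 1)
    (by rw [Nat.card_zpowers, hu, pow_one]) : IsPGroup 2 (Subgroup.zpowers u)).exists_le_sylow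
  obtain ⟨c, hc⟩ := MulAction.exists_smul_eq Q V W
  have he : Nonempty ((W : Subgroup Q) ≃* Multiplicative (ZMod (2 ^ 1) × ZMod (2 ^ 1))) :=
    ⟨(Sylow.equiv W V).trans e⟩
  obtain ⟨eW⟩ := he
  have hcomm : ∀ a b : (W : Subgroup Q), a * b = b * a := fun a b =>
    eW.injective (by rw [map_mul, map_mul, mul_comm])
  have hWC : (W : Subgroup Q) ≤ C := fun a ha => Subgroup.mem_centralizer_singleton_iff.2
    (congrArg Subtype.val (hcomm ⟨a, ha⟩ ⟨u, hW (Subgroup.mem_zpowers u)⟩))
  set W' := W.subtype hWC with hW'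
  let eW' : (W' : Subgroup C) ≃* Multiplicative (ZMod (2 ^ 1) × ZMod (2 ^ 1)) :=
    (Subgroup.subgroupOfEquivOfLe hWC).trans eW
  have h4 : Nat.card (W' : Subgroup C) = 4 := by
    rw [Nat.card_congr eW'.toEquiv]; simp [Nat.card_eq_fintype_card]
  have hfac : (Nat.card C).factorization 2 = 2 := by
    have h := W'.card_eq_multiplicity
    rw [h4, show (4 : ℕ) = 2 ^ 2 from rfl] at h
    exact (Nat.pow_right_injective (le_refl 2) h).symm
  refine ⟨?_, hfac⟩
  obtain ⟨h13, htrans⟩ := Homocyclic.automizer W' (le_refl 1) eW'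
  refine Fusion.hasNormalPComplement_of_normalizer_le_centralizer W'
    (Subgroup.relIndex_eq_one.1 (by_contra fun hne => ?_))
  set uC : C := ⟨u, hWC (hW (Subgroup.mem_zpowers u))⟩
  have hX := Homocyclic.card_involutions (le_refl 1) eW'
  have huW : uC ∈ (W' : Subgroup C) :=
    Subgroup.mem_subgroupOf.2 (hW (Subgroup.mem_zpowers u))
  have hall : ∀ a : {a : (W' : Subgroup C) // a ≠ 1 ∧ a * a = 1}, (a.1 : C) = uC := by
    intro a
    have ha2 : orderOf (a.1 : C) = 2 := orderOf_eq_prime
      (by rw [pow_two]; exact congrArg Subtype.val a.2.2)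
      (fun h => a.2.1 (Subtype.ext h))
    have hu2 : orderOf uC = 2 := by rw [← Subgroup.orderOf_coe]; exact hu
    obtain ⟨k, hk⟩ := isConj_iff.1 ((htrans hne).2 uC (a.1 : C) huW hu2 a.1.2 ha2)
    rw [← hk]
    refine mul_inv_eq_iff_eq_mul.2 (Subtype.ext ?_)
    exact Subgroup.mem_centralizer_singleton_iff.1 k.2
  have : Subsingleton {a : (W' : Subgroup C) // a ≠ 1 ∧ a * a = 1} :=
    ⟨fun a b => Subtype.ext (Subtype.ext ((hall a).trans (hall b).symm))⟩
  have := Finite.card_le_one_iff_subsingleton.2 this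
  omega

/-- Four elements in the principal block, and the sum over the elements of odd order. -/
theorem klein_counts (hM : Cfsg.IsPModular 2 M) :
    (Cfsg.principalBlock M Q).ncard = 4 ∧
      ∑ q ∈ Finset.univ.filter (fun q : Q => ¬ 2 ∣ orderOf q),
        ∑ χ ∈ (Set.toFinite (Cfsg.principalBlock M Q)).toFinset,
          (χ : Q → ℂ) q * conj ((χ : Q → ℂ) q) = 3 * (Nat.card Q : ℂ) := by
  classical
  have : Fact (Nat.Prime 2) := ⟨Nat.prime_two⟩
  set B := Cfsg.principalBlock M Q with hB'
  have hB : Cfsg.IsPBlock M B := isPBlock_principalBlock M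
  set S := (Set.toFinite B).toFinset with hS
  have hv : (Nat.card Q).factorization 2 = 2 := by
    have h := V.card_eq_multiplicity
    rw [card_eq_four V e hone, show (4 : ℕ) = 2 ^ 2 from rfl] at h
    exact (Nat.pow_right_injective (le_refl 2) h).symm
  have hminval : BlockChar.minVal 2 B = 0 := by
    have h := BlockChar.minVal_le (p := 2) (triv_mem_principalBlock (G := Q) hM)
    rw [charDegree_eq (n := 1) (by simp [triv]), Nat.factorization_one] at h
    simpa using h
  have hd : Cfsg.blockDefect 2 B = 2 := by rw [BlockChar.blockDefect_eq, hminval, hv]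
  have hodd : ∀ χ ∈ B, ¬ 2 ∣ Cfsg.charDegree ((χ : Cfsg.IrrCharacter Q) : Q → ℂ) := by
    intro χ hχ h2
    have h := BlockChar.height_add_two_le hM hB hχ (by omega)
    rw [BlockChar.blockHeight_eq, hminval, hd] at h
    have := Nat.Prime.factorization_pos_of_dvd Nat.prime_two (charDegree_pos χ.2).ne' h2
    omega
  -- singular elements
  have hsing : ∀ q : Q, 2 ∣ orderOf q →
      orderOf (pPartOf 2 q) = 2 ∧ ∑ χ ∈ S, (χ : Q → ℂ) q * conj ((χ : Q → ℂ) q) = 4 := by
    intro q hq
    have h1 : orderOf (pPartOf 2 q) = 2 := orderOf_eq_two V e hone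
      (orderOf_pPartOf Nat.prime_two q) fun h => (pPartOf_eq_one_iff Nat.prime_two q).1 h hq
    obtain ⟨h2, h3⟩ := centralizer_facts V e hone h1
    refine ⟨h1, ?_⟩
    rw [hS, sum_norm_section hM (not_not.2 hq) h2, h3]
    norm_num
  obtain ⟨v, hv2⟩ : ∃ v : Q, orderOf v = 2 :=
    exists_prime_orderOf_dvd_card' 2 (dvd_trans (dvd_pow_self 2 (by omega : (Nat.card Q).factorization 2 ≠ 0))
      (Nat.ordProj_dvd _ 2))
  -- four characters
  have hcount : S.card = 4 := by
    have hp : pPartOf 2 v = v := by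
      have h := (parts_mul Nat.prime_two (Commute.one_right v) ⟨1, by rw [hv2, pow_one]⟩
        (by rw [orderOf_one]; norm_num)).1
      rwa [mul_one] at h
    obtain ⟨-, h4⟩ := hsing v (by rw [hv2])
    have hval : ∀ χ : Cfsg.IrrCharacter Q, χ ∈ S → ∃ k : ℤ, (χ : Q → ℂ) v = (k : ℂ) ∧
        1 ≤ k * k ∧ (k * k = 1 ∨ 9 ≤ k * k) := by
      intro χ hχ
      obtain ⟨k, hk, hk2⟩ := exists_int_involution (Char.IsIrr.isCharacter χ.2) (z := v)
        (by rw [← pow_two, ← hv2, pow_orderOf_eq_one])
      have ho := hodd χ ((Set.toFinite B).mem_toFinset.1 hχ)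
      have hk0 : k ≠ 0 := fun h => ho (by
        rw [h, zero_sub, dvd_neg] at hk2; exact_mod_cast hk2)
      refine ⟨k, hk, ?_, ?_⟩
      · rcases lt_or_gt_of_ne hk0 with h | h <;> nlinarith
      · rcases lt_trichotomy k (-1) with h | h | h
        · right
          have : k ≠ -2 := fun e => ho (by
            have h5 : (2 : ℤ) ∣ (Cfsg.charDegree (χ : Q → ℂ) : ℤ) := by omega
            exact_mod_cast h5)
          nlinarith [show k ≤ -3 by omega]
        · left; rw [h]; norm_num
        · by_cases h1 : k = 1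
          · left; rw [h1]; norm_num
          · right
            have : k ≠ 2 := fun e => ho (by
              have h5 : (2 : ℤ) ∣ (Cfsg.charDegree (χ : Q → ℂ) : ℤ) := by omega
              exact_mod_cast h5)
            nlinarith [show 3 ≤ k by omega]
    choose k hk hk1 hk9 using hval
    have hsum : ∑ χ ∈ S.attach, k χ.1 χ.2 * k χ.1 χ.2 = 4 := by
      have h := h4
      rw [← Finset.sum_attach, Finset.sum_congr rfl fun χ _ => by
        rw [hk χ.1 χ.2, map_intCast, ← Int.cast_mul]] at h
      exact_mod_cast h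
    have hone' : ∀ χ ∈ S.attach, k χ.1 χ.2 * k χ.1 χ.2 = 1 := by
      intro χ hχ
      have := Finset.single_le_sum (f := fun χ : {x // x ∈ S} => k χ.1 χ.2 * k χ.1 χ.2)
        (fun χ _ => mul_self_nonneg _) hχ
      rw [hsum] at this
      rcases hk9 χ.1 χ.2 with h | h
      · exact h
      · omega
    rw [Finset.sum_congr rfl hone', Finset.sum_const, Finset.card_attach, nsmul_eq_mul, mul_one]
      at hsum
    exact_mod_cast hsum
  have hnc : B.ncard = 4 := by rw [Set.ncard_eq_toFinset_card B, ← hcount]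
  refine ⟨hnc, ?_⟩
  -- the sum over all elements
  have htot : ∑ q, ∑ χ ∈ S, (χ : Q → ℂ) q * conj ((χ : Q → ℂ) q) = 4 * (Nat.card Q : ℂ) := by
    rw [Finset.sum_comm]
    have : ∀ χ : Cfsg.IrrCharacter Q, ∑ q, (χ : Q → ℂ) q * conj ((χ : Q → ℂ) q) =
        (Nat.card Q : ℂ) := fun χ => by
      have h := Char.classInner_irr_self χ.2
      rwa [Cfsg.classInner, inv_mul_eq_iff_eq_mul₀ Char.card_ne_zero, mul_one] at h
    rw [Finset.sum_congr rfl fun χ _ => this χ, Finset.sum_const, hcount, nsmul_eq_mul]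
    norm_num
  -- a quarter of the elements is singular
  have hcardsing : (Finset.univ.filter fun q : Q => 2 ∣ orderOf q).card * 4 = Nat.card Q := by
    set I := Finset.univ.filter fun u : Q => orderOf u = 2
    rw [Finset.card_eq_sum_card_fiberwise (f := pPartOf 2) (t := I)
      (fun q hq => Finset.mem_filter.2 ⟨Finset.mem_univ _, (hsing q (Finset.mem_filter.1 hq).2).1⟩),
      Finset.sum_mul]
    have hfib : ∀ u ∈ I, ((Finset.univ.filter fun q : Q => 2 ∣ orderOf q).filter
        fun q => pPartOf 2 q = u).card * 4 = Nat.card (Subgroup.centralizer ({u} : Set Q)) := by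
      intro u hu
      have hu2 := (Finset.mem_filter.1 hu).2
      obtain ⟨h2, h3⟩ := centralizer_facts V e hone hu2
      have h := (card_regular_mul h2).2
      rw [h3] at h
      refine Eq.trans ?_ h
      congr 1
      rw [← Nat.card_eq_finsetCard]
      refine Nat.card_congr
        { toFun := fun q => ⟨⟨pPrimePartOf 2 q.1, Subgroup.mem_centralizer_singleton_iff.2
              (((congrArg (fun t => Commute t (pPrimePartOf 2 q.1))
                (Finset.mem_filter.1 q.2).2).mp (commute_pPartOf_pPrimePartOf q.1)).eq.symm)⟩, by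
              rw [← Subgroup.orderOf_coe]
              exact not_dvd_orderOf_pPrimePartOf Nat.prime_two q.1⟩
          invFun := fun y => ⟨u * (y.1 : Q), by
            have hp := parts_mul Nat.prime_two (u := u) (s := (y.1 : Q))
              (Subgroup.mem_centralizer_singleton_iff.1 y.1.2).symm ⟨1, by rw [hu2, pow_one]⟩
              (by rw [Subgroup.orderOf_coe]; exact y.2)
            refine Finset.mem_filter.2 ⟨Finset.mem_filter.2 ⟨Finset.mem_univ _, ?_⟩, hp.1⟩
            by_contra hd
            have h0 := (pPartOf_eq_one_iff Nat.prime_two _).2 hd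
            rw [hp.1] at h0
            rw [h0, orderOf_one] at hu2
            exact absurd hu2 (by norm_num)⟩
          left_inv := fun q => by
            refine Subtype.ext ?_
            show u * pPrimePartOf 2 q.1 = q.1
            conv_rhs => rw [← pPartOf_mul_pPrimePartOf Nat.prime_two q.1,
              (Finset.mem_filter.1 q.2).2]
          right_inv := fun y => by
            refine Subtype.ext (Subtype.ext ?_)
            exact (parts_mul Nat.prime_two (u := u) (s := (y.1 : Q))
              (Subgroup.mem_centralizer_singleton_iff.1 y.1.2).symm ⟨1, by rw [hu2, pow_one]⟩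
              (by rw [Subgroup.orderOf_coe]; exact y.2)).2 }
    rw [Finset.sum_congr rfl hfib]
    have hconst : ∀ u ∈ I, Nat.card (Subgroup.centralizer ({u} : Set Q)) =
        Nat.card (Subgroup.centralizer ({v} : Set Q)) := fun u hu => by
      obtain ⟨c, rfl⟩ := isConj_iff.1 (hone v u hv2 (Finset.mem_filter.1 hu).2)
      exact card_centralizer_conj v c
    rw [Finset.sum_congr rfl hconst, Finset.sum_const, smul_eq_mul]
    have hI : I.card = (Subgroup.centralizer ({v} : Set Q)).index := by
      rw [← Char.card_isConj_eq_index, ← Nat.card_eq_finsetCard]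
      refine Nat.card_congr (Equiv.subtypeEquivRight fun w => ?_)
      simp only [I, Finset.mem_filter, Finset.mem_univ, true_and]
      refine ⟨fun hw => hone v w hv2 hw, fun hw => ?_⟩
      obtain ⟨c, rfl⟩ := isConj_iff.1 hw
      rw [Blocks.orderOf_conj', hv2]
    rw [hI, Subgroup.index_mul_card]
  have hsplit := Finset.sum_filter_add_sum_filter_not Finset.univ (fun q : Q => 2 ∣ orderOf q)
    (fun q => ∑ χ ∈ S, (χ : Q → ℂ) q * conj ((χ : Q → ℂ) q))
  rw [htot, Finset.sum_congr rfl fun q hq => (hsing q (Finset.mem_filter.1 hq).2).2,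
    Finset.sum_const, nsmul_eq_mul] at hsplit
  have hc4 : ((Finset.univ.filter fun q : Q => 2 ∣ orderOf q).card : ℂ) * 4 = (Nat.card Q : ℂ) := by
    exact_mod_cast hcardsing
  linear_combination hsplit - hc4

end Klein

/-- The principal block has seven members. -/
theorem card_principal (hM : Cfsg.IsPModular 2 M) (S : Sylow 2 G)
    (e : (S : Subgroup G) ≃* QuaternionGroup 2)
    (hO : ∀ N : Subgroup G, N.Normal → Odd (Nat.card N) → N = ⊥)
    (hG : (S : Subgroup G) ≠ ⊤) : Nat.card (Cfsg.principalBlock M G) = 7 := by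
  classical
  have : Fact (Nat.Prime 2) := ⟨Nat.prime_two⟩
  -- facts about the quaternion group
  have q1 : ∀ a b : QuaternionGroup 2, a * a = 1 → a ≠ 1 → b * b = 1 → b ≠ 1 → a = b := by decide
  have q2 : ∀ a : QuaternionGroup 2, a * a = 1 ∨ a * a = QuaternionGroup.a 2 := by decide
  have q3 : ∀ a b : QuaternionGroup 2, a * a ≠ 1 → a * b = b * a →
      b = 1 ∨ b = a ∨ b = a * a ∨ b = a * a * a := by decide
  set z : G := ((e.symm (QuaternionGroup.a 2) : (S : Subgroup G)) : G) with hz
  have hzS : z ∈ (S : Subgroup G) := SetLike.coe_mem _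
  have hz2 : orderOf z = 2 := by
    rw [hz, Subgroup.orderOf_coe, MulEquiv.orderOf_eq]
    exact orderOf_eq_prime (by decide) (by decide)
  have hinS : ∀ u ∈ (S : Subgroup G), orderOf u = 2 → u = z := by
    intro u hu hu2
    have h1 : u * u = 1 := by rw [← pow_two, ← hu2, pow_orderOf_eq_one]
    have h := q1 (e ⟨u, hu⟩) (QuaternionGroup.a 2)
      (by rw [← map_mul]; exact (map_eq_one_iff e e.injective).2 (Subtype.ext h1))
      (fun h => by
        rw [map_eq_one_iff e e.injective] at h
        rw [show u = 1 from congrArg Subtype.val h, orderOf_one] at hu2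
        exact absurd hu2 (by norm_num)) (by decide) (by decide)
    rw [hz, ← h, e.symm_apply_apply]
  have hOdd : Cfsg.oddCore G = ⊥ := hO _ inferInstance
    (Nat.not_even_iff_odd.1 (fun h => (Nat.prime_two.coprime_iff_not_dvd.1
      (Core.coprime_card_pPrimeCore (G := G) (p := 2)).symm) h.two_dvd))
  have hiso : Cfsg.IsIsolatedInvolution z := Invol.isolated_of_sylow S hz2 fun g hg =>
    hinS _ hg ((Blocks.orderOf_conj' z g).trans hz2)
  have hzc : z ∈ Subgroup.center G := Subgroup.mem_center_iff.2 fun g => by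
    have h := Invol.zstar hiso g
    rw [hOdd, Subgroup.mem_bot, mul_inv_eq_one, mul_inv_eq_iff_eq_mul] at h
    exact h.symm
  have hconjS : ∀ u : G, (∃ k, orderOf u = 2 ^ k) → ∃ c : G, c * u * c⁻¹ ∈ (S : Subgroup G) := by
    intro u hu
    obtain ⟨k, hk⟩ := hu
    obtain ⟨W, hW⟩ := (IsPGroup.of_card (p := 2) (n := k) (by rw [Nat.card_zpowers, hk]) :
      IsPGroup 2 (Subgroup.zpowers u)).exists_le_sylow
    obtain ⟨c, hc⟩ := MulAction.exists_smul_eq G W S
    exact ⟨c, hc ▸ ⟨u, hW (Subgroup.mem_zpowers u), rfl⟩⟩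
  have hinvol : ∀ u : G, orderOf u = 2 → u = z := by
    intro u hu
    obtain ⟨c, hc⟩ := hconjS u ⟨1, by rw [hu, pow_one]⟩
    have h := hinS _ hc ((Blocks.orderOf_conj' u c).trans hu)
    rw [← mul_right_inj c, ← mul_left_inj c⁻¹, h, Subgroup.mem_center_iff.1 hzc c,
      mul_inv_cancel_right]
  -- the quotient
  set Z := Subgroup.zpowers z with hZ
  have hZn : Z.Normal := ⟨fun n hn g => by
    obtain ⟨i, rfl⟩ := hn
    rw [Subgroup.mem_center_iff.1 (zpow_mem hzc i) g, mul_inv_cancel_right]
    exact zpow_mem (Subgroup.mem_zpowers z) i⟩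
  have hZcard : Nat.card Z = 2 := by rw [Nat.card_zpowers, hz2]
  have hZp : IsPGroup 2 Z := IsPGroup.of_card (n := 1) (by rw [hZcard, pow_one])
  have hZmem : ∀ u : G, u ∈ Z ↔ u = 1 ∨ u = z := by
    intro u
    constructor
    · intro hu
      by_cases h1 : u = 1
      · exact Or.inl h1
      refine Or.inr (hinvol u ?_)
      have := orderOf_dvd_natCard (⟨u, hu⟩ : Z)
      rw [← Subgroup.orderOf_coe, hZcard] at this
      exact (Nat.dvd_prime Nat.prime_two).1 this |>.resolve_left
        fun h => h1 (orderOf_eq_one_iff.1 h)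
    · rintro (rfl | rfl)
      · exact one_mem _
      · exact Subgroup.mem_zpowers z
  have : Fintype (G ⧸ Z) := Fintype.ofFinite _
  let V : Sylow 2 (G ⧸ Z) := S.mapSurjective (QuotientGroup.mk'_surjective Z)
  have hexp : ∀ v : (V : Subgroup (G ⧸ Z)), v ^ 2 = 1 := by
    rintro ⟨v, hv⟩
    obtain ⟨a, ha, rfl⟩ := hv
    apply Subtype.ext
    show (QuotientGroup.mk' Z a) ^ 2 = 1
    rw [← map_pow, QuotientGroup.mk'_apply, QuotientGroup.eq_one_iff, hZmem, pow_two]
    rcases q2 (e ⟨a, ha⟩) with h | h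
    · left
      rw [← map_mul, map_eq_one_iff e e.injective] at h
      exact congrArg Subtype.val h
    · right
      rw [← map_mul] at h
      rw [hz, ← h, e.symm_apply_apply]
      rfl
  have hS8 : Nat.card (S : Subgroup G) = 8 := by
    rw [Nat.card_congr e.toEquiv, Nat.card_eq_fintype_card, QuaternionGroup.card]
  have hGfac : (Nat.card G).factorization 2 = 3 := by
    have h := S.card_eq_multiplicity
    rw [hS8, show (8 : ℕ) = 2 ^ 3 from rfl] at h
    exact (Nat.pow_right_injective (le_refl 2) h).symm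
  have hGQ : Nat.card G = Nat.card (G ⧸ Z) * 2 := by
    rw [Subgroup.card_eq_card_quotient_mul_card_subgroup Z, hZcard]
  have hV4 : Nat.card (V : Subgroup (G ⧸ Z)) = 4 := by
    have hf : (Nat.card (G ⧸ Z)).factorization 2 = 2 := by
      have h2 := congrArg (fun t => t.factorization 2) hGQ
      simp only [Nat.factorization_mul Nat.card_pos.ne' two_ne_zero, Finsupp.add_apply, hGfac,
        Nat.prime_two.factorization, Finsupp.single_eq_same] at h2
      omega
    rw [V.card_eq_multiplicity, hf]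
    rfl
  obtain ⟨eV⟩ : Nonempty ((V : Subgroup (G ⧸ Z)) ≃*
      Multiplicative (ZMod (2 ^ 1) × ZMod (2 ^ 1))) := by
    obtain ⟨e0⟩ : Nonempty ((V : Subgroup (G ⧸ Z)) ≃
        Multiplicative (ZMod (2 ^ 1) × ZMod (2 ^ 1))) :=
      Finite.card_eq.1 (by rw [hV4]; simp [Nat.card_eq_fintype_card])
    have h2 : Monoid.exponent (Multiplicative (ZMod (2 ^ 1) × ZMod (2 ^ 1))) = 2 := by
      refine (Nat.prime_two.eq_one_or_self_of_dvd _ (Monoid.exponent_dvd_of_forall_pow_eq_one
        klein_sq)).resolve_left fun h => klein_ne_one ?_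
      have := Monoid.exp_eq_one_iff.1 h
      exact Subsingleton.elim _ _
    have hV2 : IsKleinFour (V : Subgroup (G ⧸ Z)) := by
      refine ⟨hV4, (Nat.prime_two.eq_one_or_self_of_dvd _
        (Monoid.exponent_dvd_of_forall_pow_eq_one hexp)).resolve_left fun h => ?_⟩
      have := Monoid.exp_eq_one_iff.1 h
      have := Finite.card_le_one_iff_subsingleton.2 this
      omega
    exact ⟨IsKleinFour.mulEquiv' (e0.trans (Equiv.swap (e0 1) 1)) (by simp) h2⟩
  have hone : ∀ s t : G ⧸ Z, orderOf s = 2 → orderOf t = 2 → IsConj s t := by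
    obtain ⟨h13, htr⟩ := Homocyclic.automizer V (le_refl 1) eV
    have hne : (Subgroup.centralizer (V : Set (G ⧸ Z))).relIndex
        (Subgroup.normalizer (V : Set (G ⧸ Z))) ≠ 1 := by
      intro h1
      obtain ⟨N, hN, hc, k, hk⟩ := Fusion.hasNormalPComplement_iff_exists.1
        (Fusion.hasNormalPComplement_of_normalizer_le_centralizer V (Subgroup.relIndex_eq_one.1 h1))
      set K := N.comap (QuotientGroup.mk' Z) with hK
      have hKn : K.Normal := Subgroup.Normal.comap hN _
      -- the elements of odd order in the preimage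
      have hZK : Z ≤ K := fun u hu => by
        rw [hK, Subgroup.mem_comap, QuotientGroup.mk'_apply, (QuotientGroup.eq_one_iff u).2 hu]
        exact one_mem N
      have hKcard : Nat.card K = 2 * Nat.card N := by
        have e1 := K.card_mul_index
        rw [Subgroup.index_comap_of_surjective _ (QuotientGroup.mk'_surjective Z)] at e1
        have e2 := N.card_mul_index
        exact Nat.eq_of_mul_eq_mul_right (Nat.pos_of_ne_zero Subgroup.index_ne_zero_of_finite)
          (by rw [e1, mul_assoc, e2, hGQ, mul_comm])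
      set Z' := Z.subgroupOf K with hZ'
      have hZ'c : Nat.card Z' = 2 := by
        rw [Nat.card_congr (Subgroup.subgroupOfEquivOfLe hZK).toEquiv, hZcard]
      have hidxZ : Z'.index = Nat.card N := by
        have e1 := Z'.card_mul_index
        rw [hZ'c, hKcard] at e1
        omega
      obtain ⟨L, hL⟩ := Subgroup.exists_right_complement'_of_coprime (N := Z')
        (by rw [hZ'c, hidxZ]; exact hc.symm)
      have hLcard : Nat.card L = Nat.card N := by rw [← hidxZ, hL.symm.index_eq_card]
      have hLidx : L.index = 2 := by rw [hL.index_eq_card, hZ'c]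
      have hLn : L.Normal := Subgroup.normal_of_index_eq_two hLidx
      have hLmem : ∀ y : K, ¬ 2 ∣ orderOf y → y ∈ L := fun y hy =>
        BlockThms.mem_of_regular Nat.prime_two ⟨1, by rw [hLidx, pow_one]⟩ hy
      have hN2 : ¬ 2 ∣ Nat.card N := Nat.prime_two.coprime_iff_not_dvd.1 hc.symm
      have hLGn : (L.map K.subtype).Normal := by
        refine ⟨?_⟩
        rintro _ ⟨y, hy, rfl⟩ g
        refine ⟨⟨g * (y : G) * g⁻¹, hKn.conj_mem _ y.2 g⟩, hLmem _ ?_, rfl⟩
        rw [← Subgroup.orderOf_coe]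
        show ¬ 2 ∣ orderOf (g * (y : G) * g⁻¹)
        rw [Blocks.orderOf_conj', Subgroup.orderOf_coe]
        intro hd
        have := orderOf_dvd_natCard (⟨y, hy⟩ : L)
        rw [← Subgroup.orderOf_coe, hLcard] at this
        exact hN2 (hd.trans this)
      have hbot := hO _ hLGn (by
        rw [Subgroup.card_map_of_injective K.subtype_injective, hLcard]
        exact Nat.not_even_iff_odd.1 fun h => hN2 h.two_dvd)
      have hN1 : Nat.card N = 1 := by
        rw [← hLcard, ← (Subgroup.card_map_of_injective K.subtype_injective :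
          Nat.card (L.map K.subtype) = Nat.card L), hbot, Subgroup.card_bot]
      apply hG
      rw [← Subgroup.index_eq_one]
      have e2 := N.card_mul_index
      rw [hN1, one_mul, hk] at e2
      have e3 := (S : Subgroup G).card_mul_index
      rw [hS8, hGQ, ← e2] at e3
      have hk2 : (Nat.card (G ⧸ Z)).factorization 2 = k := by
        rw [← e2, Nat.prime_two.factorization_pow, Finsupp.single_eq_same]
      have h4 := V.card_eq_multiplicity
      rw [hV4, hk2] at h4
      omega
    intro s t hs ht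
    have mv : ∀ u : G ⧸ Z, orderOf u = 2 → ∃ k : G ⧸ Z, k * u * k⁻¹ ∈ (V : Subgroup (G ⧸ Z)) := by
      intro u hu
      obtain ⟨W, hW⟩ := (IsPGroup.of_card (p := 2) (n := 1)
        (by rw [Nat.card_zpowers, hu, pow_one]) : IsPGroup 2 (Subgroup.zpowers u)).exists_le_sylow
      obtain ⟨k, hk⟩ := MulAction.exists_smul_eq (G ⧸ Z) W V
      exact ⟨k, hk ▸ ⟨u, hW (Subgroup.mem_zpowers u), rfl⟩⟩
    obtain ⟨a, ha⟩ := mv s hs
    obtain ⟨b, hb⟩ := mv t ht
    exact ((isConj_iff.2 ⟨a, rfl⟩ : IsConj s _).trans ((htr hne).2 _ _ ha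
      ((Blocks.orderOf_conj' s a).trans hs) hb ((Blocks.orderOf_conj' t b).trans ht))).trans
      (isConj_iff.2 ⟨b, rfl⟩ : IsConj t _).symm
  obtain ⟨hk4, hR⟩ := klein_counts V eV hone hM
  -- the two parts of the block
  set B := Cfsg.principalBlock M G with hB'
  have hB : Cfsg.IsPBlock M B := isPBlock_principalBlock M
  set BQ := (Set.toFinite (Cfsg.principalBlock M (G ⧸ Z))).toFinset
  set T := (Set.toFinite B).toFinset.filter fun χ : Cfsg.IrrCharacter G =>
    (χ : G → ℂ) z = (χ : G → ℂ) 1 with hT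
  set F := (Set.toFinite B).toFinset.filter fun χ : Cfsg.IrrCharacter G =>
    ¬ (χ : G → ℂ) z = (χ : G → ℂ) 1 with hF
  have hCidx : ∃ k : ℕ, (Subgroup.centralizer (Z : Set G)).index = 2 ^ k := ⟨0, by
    rw [pow_zero, Subgroup.index_eq_one, Subgroup.centralizer_eq_top_iff_subset]
    exact Subgroup.zpowers_le.2 hzc⟩
  let ι : Cfsg.IrrCharacter (G ⧸ Z) → Cfsg.IrrCharacter G := fun φ =>
    ⟨_, Char.isIrrCharacter_mk Z φ.2⟩
  have hmemQ : ∀ φ : Cfsg.IrrCharacter (G ⧸ Z),
      φ ∈ Cfsg.principalBlock M (G ⧸ Z) ↔ ι φ ∈ B := fun φ => by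
    rw [hB', principalBlock_eq, principalBlock_eq]
    exact sameBlock_quotient_iff Z hM hZp hCidx (triv (G ⧸ Z)) φ
  have hT' : T = BQ.image ι := by
    ext χ
    simp only [hT, Finset.mem_filter, Finset.mem_image, Set.Finite.mem_toFinset, BQ]
    constructor
    · rintro ⟨hχ, hχz⟩
      obtain ⟨φ, hφi, hφ⟩ := Char.IsIrr.exists_quotient Z χ.2 fun n hn => by
        rcases (hZmem n).1 hn with rfl | rfl
        · rfl
        · exact hχz
      have he : ι ⟨φ, hφi⟩ = χ := Subtype.ext (funext fun g => (hφ g).symm)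
      exact ⟨⟨φ, hφi⟩, (hmemQ _).2 (he.symm ▸ hχ), he⟩
    · rintro ⟨φ, hφ, rfl⟩
      refine ⟨(hmemQ φ).1 hφ, ?_⟩
      show (φ : G ⧸ Z → ℂ) (z : G ⧸ Z) = (φ : G ⧸ Z → ℂ) ((1 : G) : G ⧸ Z)
      rw [(QuotientGroup.eq_one_iff z).2 (Subgroup.mem_zpowers z), QuotientGroup.mk_one]
  have hιinj : Function.Injective ι := fun a b h => Subtype.ext (funext fun q => by
    obtain ⟨g, rfl⟩ := QuotientGroup.mk_surjective q
    exact congrFun (congrArg Subtype.val h) g)
  have hTsum : ∀ g : G, ∑ χ ∈ T, (χ : G → ℂ) g * conj ((χ : G → ℂ) g) =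
      ∑ φ ∈ BQ, (φ : G ⧸ Z → ℂ) (g : G ⧸ Z) * conj ((φ : G ⧸ Z → ℂ) (g : G ⧸ Z)) := fun g => by
    rw [hT', Finset.sum_image hιinj.injOn]
  have hTcard : T.card = 4 := by
    rw [hT', Finset.card_image_of_injective _ hιinj, ← Set.ncard_eq_toFinset_card]
    exact hk4
  -- the sign at `z`
  have hzz : z * z = 1 := by rw [← pow_two, ← hz2, pow_orderOf_eq_one]
  have hsign : ∀ χ : Cfsg.IrrCharacter G, ¬ (χ : G → ℂ) z = (χ : G → ℂ) 1 →
      (χ : G → ℂ) z = -(χ : G → ℂ) 1 := by
    intro χ hne
    have h := central_mul χ.2 hzc z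
    rw [hzz] at h
    rcases mul_self_eq_mul_self_iff.1 h.symm with h' | h'
    · exact absurd h' hne
    · exact h'
  have hzy : ∀ χ : Cfsg.IrrCharacter G, ∀ y : G, (χ : G → ℂ) (z * y) =
      if (χ : G → ℂ) z = (χ : G → ℂ) 1 then (χ : G → ℂ) y else -(χ : G → ℂ) y := by
    intro χ y
    apply mul_left_cancel₀ (Char.IsIrr.one_ne_zero χ.2)
    rw [central_mul χ.2 hzc y]
    split_ifs with h
    · rw [h]
    · rw [hsign χ h]; ring
  -- values of the faithful part
  have hFreg : ∀ y : G, ¬ 2 ∣ orderOf y →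
      ∑ χ ∈ F, (χ : G → ℂ) y * conj ((χ : G → ℂ) y) =
        ∑ χ ∈ T, (χ : G → ℂ) y * conj ((χ : G → ℂ) y) := by
    intro y hy
    have hzy' : ¬ Cfsg.IsPRegular 2 (z * y) := by
      intro h
      have h1 := (parts_mul Nat.prime_two (show Commute z y from
        (Subgroup.mem_center_iff.1 hzc y).symm) ⟨1, by rw [hz2, pow_one]⟩ hy).1
      rw [(pPartOf_eq_one_iff Nat.prime_two _).2 h] at h1
      rw [← h1, orderOf_one] at hz2
      exact absurd hz2 (by norm_num)
    have h := BlockChar.sum_block_eq_zero hM hB hy hzy'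
    rw [← Finset.sum_filter, show Finset.univ.filter (· ∈ B) = (Set.toFinite B).toFinset by
      ext; simp, ← Finset.sum_filter_add_sum_filter_not _
      (fun χ : Cfsg.IrrCharacter G => (χ : G → ℂ) z = (χ : G → ℂ) 1), ← hT, ← hF] at h
    have h1 : ∑ χ ∈ T, (χ : G → ℂ) y * conj ((χ : G → ℂ) (z * y)) =
        ∑ χ ∈ T, (χ : G → ℂ) y * conj ((χ : G → ℂ) y) :=
      Finset.sum_congr rfl fun χ hχ => by rw [hzy, if_pos (Finset.mem_filter.1 hχ).2]
    have h2 : ∑ χ ∈ F, (χ : G → ℂ) y * conj ((χ : G → ℂ) (z * y)) =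
        -∑ χ ∈ F, (χ : G → ℂ) y * conj ((χ : G → ℂ) y) := by
      rw [← Finset.sum_neg_distrib]
      exact Finset.sum_congr rfl fun χ hχ => by
        rw [hzy, if_neg (Finset.mem_filter.1 hχ).2, map_neg, mul_neg]
    rw [h1, h2] at h
    linear_combination -h
  have hparts : ∀ y : G, ¬ 2 ∣ orderOf (y : G ⧸ Z) ↔ pPartOf 2 y ∈ Z := by
    intro y
    have hd := pPartOf_mul_pPrimePartOf Nat.prime_two y
    constructor
    · intro hy
      rw [← QuotientGroup.eq_one_iff]
      obtain ⟨k, hk⟩ := orderOf_pPartOf Nat.prime_two y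
      obtain ⟨j, -, hj⟩ := (Nat.dvd_prime_pow Nat.prime_two).1
        (hk ▸ orderOf_map_dvd (QuotientGroup.mk' Z) (pPartOf 2 y))
      have hp := parts_mul Nat.prime_two ((commute_pPartOf_pPrimePartOf y).map (QuotientGroup.mk' Z))
        ⟨j, hj⟩ (fun hh => not_dvd_orderOf_pPrimePartOf Nat.prime_two y
          (hh.trans (orderOf_map_dvd (QuotientGroup.mk' Z) _)))
      rw [← map_mul, hd] at hp
      exact hp.1.symm.trans ((pPartOf_eq_one_iff Nat.prime_two _).2 hy)
    · intro hy hh
      have : (y : G ⧸ Z) = (pPrimePartOf 2 y : G) := by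
        conv_lhs => rw [← hd, QuotientGroup.mk_mul, (QuotientGroup.eq_one_iff _).2 hy, one_mul]
      rw [this] at hh
      exact not_dvd_orderOf_pPrimePartOf Nat.prime_two y
        (hh.trans (orderOf_map_dvd (QuotientGroup.mk' Z) _))
  have hFg : ∀ g : G, ∑ χ ∈ F, (χ : G → ℂ) g * conj ((χ : G → ℂ) g) =
      if ¬ 2 ∣ orderOf (g : G ⧸ Z) then
        ∑ φ ∈ BQ, (φ : G ⧸ Z → ℂ) (g : G ⧸ Z) * conj ((φ : G ⧸ Z → ℂ) (g : G ⧸ Z)) else 0 := by
    intro g
    have hd := pPartOf_mul_pPrimePartOf Nat.prime_two g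
    by_cases hg : ¬ 2 ∣ orderOf (g : G ⧸ Z)
    · rw [if_pos hg]
      have hgZ := (hparts g).1 hg
      rw [← hTsum]
      rcases (hZmem _).1 hgZ with h | h
      · exact hFreg g ((pPartOf_eq_one_iff Nat.prime_two g).1 h)
      · rw [h] at hd
        rw [← hd]
        have e0 := hFreg _ (not_dvd_orderOf_pPrimePartOf Nat.prime_two g)
        rw [Finset.sum_congr rfl fun χ hχ => by
            rw [hzy, if_neg (Finset.mem_filter.1 hχ).2, map_neg, neg_mul_neg]]
        rw [e0]
        exact Finset.sum_congr rfl fun χ hχ => by rw [hzy, if_pos (Finset.mem_filter.1 hχ).2]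
    · rw [if_neg hg]
      have hgZ : pPartOf 2 g ∉ Z := fun h => hg ((hparts g).2 h)
      have hg2 : 2 ∣ orderOf g := by
        by_contra h
        exact hgZ (by rw [(pPartOf_eq_one_iff Nat.prime_two g).2 h]; exact one_mem _)
      set x := pPartOf 2 g with hx
      obtain ⟨c, hc⟩ := hconjS x (orderOf_pPartOf Nat.prime_two g)
      set a : (S : Subgroup G) := ⟨_, hc⟩ with ha
      have ha2 : e a * e a ≠ 1 := by
        rw [← map_mul, Ne, map_eq_one_iff e e.injective]
        intro h
        have hxx : x * x = 1 := by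
          have := congrArg Subtype.val h
          simp only [ha, Subgroup.coe_mul, Subgroup.coe_one, conj_mul, conj_eq_one_iff] at this
          exact this
        refine hgZ ((hZmem x).2 ?_)
        by_cases h1 : x = 1
        · exact Or.inl h1
        · exact Or.inr (hinvol x (orderOf_eq_prime (by rw [pow_two, hxx]) h1))
      have hca : orderOf x = 4 := by
        have h4 : (e a) ^ 4 = 1 := by
          have : ∀ b : QuaternionGroup 2, b ^ 4 = 1 := by decide
          exact this _
        have h5 : orderOf (e a) = 2 ^ 2 := orderOf_eq_prime_pow (n := 1) (p := 2)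
          (by rw [pow_one, pow_two]; exact ha2) h4
        rw [MulEquiv.orderOf_eq, ← Subgroup.orderOf_coe, ha] at h5
        exact ((Blocks.orderOf_conj' x c).symm.trans h5)
      set C := Subgroup.centralizer ({x} : Set G) with hC
      have : Fintype C := Fintype.ofFinite _
      obtain ⟨R⟩ : Nonempty (Sylow 2 C) := inferInstance
      set xC : C := ⟨x, Subgroup.mem_centralizer_singleton_iff.2 rfl⟩
      have hxR : xC ∈ (R : Subgroup C) := by
        obtain ⟨k, hk⟩ := orderOf_pPartOf Nat.prime_two g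
        have hxp : IsPGroup 2 (Subgroup.zpowers xC) := IsPGroup.of_card (n := k) (by
          rw [Nat.card_zpowers, ← Subgroup.orderOf_coe]; exact hk)
        have hn : (Subgroup.zpowers xC).Normal := ⟨fun n hn d => by
          obtain ⟨i, rfl⟩ := hn
          have hcm : Commute d xC := Subtype.ext (Subgroup.mem_centralizer_singleton_iff.1 d.2)
          rw [(hcm.zpow_right i).eq, mul_inv_cancel_right]
          exact zpow_mem (Subgroup.mem_zpowers _) i⟩
        have hsup := IsPGroup.to_sup_of_normal_left hxp R.2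
        exact R.3 hsup le_sup_right ▸ Subgroup.mem_sup_left (Subgroup.mem_zpowers _)
      obtain ⟨W, hW⟩ := (R.2.map C.subtype).exists_le_sylow
      obtain ⟨d, hd'⟩ := MulAction.exists_smul_eq G W S
      let j : (R : Subgroup C) →* (S : Subgroup G) :=
        { toFun := fun r => ⟨d * ((r : C) : G) * d⁻¹,
            hd' ▸ ⟨_, hW ⟨r, r.2, rfl⟩, rfl⟩⟩
          map_one' := Subtype.ext (by simp)
          map_mul' := fun r r' => Subtype.ext (by simp [mul_assoc]) }
      have hjinj : Function.Injective j := fun r r' h => by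
        have := congrArg Subtype.val h
        exact Subtype.ext (Subtype.ext (mul_left_cancel (mul_right_cancel this)))
      set f := e.toMonoidHom.comp j with hf
      have hfinj : Function.Injective f := e.injective.comp hjinj
      set q := f ⟨xC, hxR⟩ with hq
      have hq2 : q * q ≠ 1 := by
        rw [hq, ← map_mul, Ne, map_eq_one_iff f hfinj]
        intro h
        have h1 : x * x = 1 := congrArg (fun r : (R : Subgroup C) => ((r : C) : G)) h
        have := orderOf_dvd_of_pow_eq_one (by rw [pow_two]; exact h1 : x ^ 2 = 1)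
        rw [hca] at this
        norm_num at this
      have hcyc : IsCyclic (R : Subgroup C) := by
        refine ⟨⟨⟨xC, hxR⟩, fun r => ?_⟩⟩
        have hcm : q * f r = f r * q := by
          rw [hq, ← map_mul, ← map_mul]
          congr 1
          refine Subtype.ext (Subtype.ext ?_)
          exact (Subgroup.mem_centralizer_singleton_iff.1 (r : C).2).symm
        rcases q3 q (f r) hq2 hcm with h | h | h | h
        · exact ⟨0, hfinj (by simp [h])⟩
        · exact ⟨1, hfinj (by simp [h, hq])⟩
        · exact ⟨2, hfinj (by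
            show f ((⟨xC, hxR⟩ : (R : Subgroup C)) ^ (2 : ℤ)) = f r
            rw [zpow_two, map_mul, ← hq, h])⟩
        · exact ⟨((3 : ℕ) : ℤ), hfinj (by
            show f ((⟨xC, hxR⟩ : (R : Subgroup C)) ^ ((3 : ℕ) : ℤ)) = f r
            rw [zpow_natCast, map_pow, ← hq, h, pow_succ, pow_two])⟩
      have hmin : (Nat.card C).minFac = 2 := by
        refine (Nat.minFac_eq_two_iff _).2 ((dvd_trans ?_ (orderOf_dvd_natCard xC)))
        rw [← Subgroup.orderOf_coe]
        show 2 ∣ orderOf x
        rw [hca]; norm_num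
      have hcomp : Cfsg.HasNormalPComplement 2 C :=
        Fusion.hasNormalPComplement_of_normalizer_le_centralizer R
          (IsCyclic.normalizer_le_centralizer hmin hcyc)
      have hfac : (Nat.card C).factorization 2 = 2 := by
        have hR4 : Nat.card (R : Subgroup C) = 2 ^ 2 := by
          have : ∀ r : (R : Subgroup C), r ∈ Subgroup.zpowers (⟨xC, hxR⟩ : (R : Subgroup C)) := by
            intro r
            have hcm : q * f r = f r * q := by
              rw [hq, ← map_mul, ← map_mul]
              congr 1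
              refine Subtype.ext (Subtype.ext ?_)
              exact (Subgroup.mem_centralizer_singleton_iff.1 (r : C).2).symm
            rcases q3 q (f r) hq2 hcm with h | h | h | h
            · exact ⟨0, hfinj (by simp [h])⟩
            · exact ⟨1, hfinj (by simp [h, hq])⟩
            · exact ⟨2, hfinj (by
            show f ((⟨xC, hxR⟩ : (R : Subgroup C)) ^ (2 : ℤ)) = f r
            rw [zpow_two, map_mul, ← hq, h])⟩
            · exact ⟨((3 : ℕ) : ℤ), hfinj (by
                show f ((⟨xC, hxR⟩ : (R : Subgroup C)) ^ ((3 : ℕ) : ℤ)) = f r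
                rw [zpow_natCast, map_pow, ← hq, h, pow_succ, pow_two])⟩
          rw [← orderOf_eq_card_of_forall_mem_zpowers this, ← Subgroup.orderOf_coe,
            ← Subgroup.orderOf_coe]
          exact hca
        have h := R.card_eq_multiplicity
        rw [hR4] at h
        exact (Nat.pow_right_injective (le_refl 2) h).symm
      have htot := sum_norm_section hM (not_not.2 hg2) hcomp
      rw [hfac, ← Finset.sum_filter_add_sum_filter_not (Set.toFinite B).toFinset
        (fun χ : Cfsg.IrrCharacter G => (χ : G → ℂ) z = (χ : G → ℂ) 1), ← hT, ← hF, hTsum] at htot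
      have hgq : 2 ∣ orderOf (g : G ⧸ Z) := not_not.1 hg
      have h1 : orderOf (pPartOf 2 (g : G ⧸ Z)) = 2 := orderOf_eq_two V eV hone
        (orderOf_pPartOf Nat.prime_two _) fun h => (pPartOf_eq_one_iff Nat.prime_two _).1 h hgq
      obtain ⟨h2, h3⟩ := centralizer_facts V eV hone h1
      have hQ := sum_norm_section hM (not_not.2 hgq) h2
      rw [h3] at hQ
      rw [hQ] at htot
      simpa using htot
  have hFcard : F.card = 3 := by
    have hself : ∀ χ : Cfsg.IrrCharacter G, ∑ g, (χ : G → ℂ) g * conj ((χ : G → ℂ) g) =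
        (Nat.card G : ℂ) := fun χ => by
      have h := Char.classInner_irr_self χ.2
      rwa [Cfsg.classInner, inv_mul_eq_iff_eq_mul₀ Char.card_ne_zero, mul_one] at h
    have h1 : (F.card : ℂ) * (Nat.card G : ℂ) = 2 * (3 * (Nat.card (G ⧸ Z) : ℂ)) := by
      rw [← nsmul_eq_mul, ← Finset.sum_const, ← Finset.sum_congr rfl fun χ _ => hself χ,
        Finset.sum_comm, Finset.sum_congr rfl fun g _ => hFg g, ← hR]
      rw [← Finset.sum_fiberwise Finset.univ (fun g : G => (g : G ⧸ Z)), Finset.mul_sum,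
        Finset.sum_filter]
      refine Finset.sum_congr rfl fun q _ => ?_
      rw [Finset.sum_congr rfl (g := fun _ => if ¬ 2 ∣ orderOf q then
        ∑ φ ∈ BQ, (φ : G ⧸ Z → ℂ) q * conj ((φ : G ⧸ Z → ℂ) q) else 0) (fun g hg => by
          rw [(Finset.mem_filter.1 hg).2]), Finset.sum_const]
      have hfib : (Finset.univ.filter fun g : G => (g : G ⧸ Z) = q).card = 2 := by
        obtain ⟨g₀, rfl⟩ := QuotientGroup.mk_surjective q
        rw [← Nat.card_eq_finsetCard, ← hZcard]
        exact Nat.card_congr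
          { toFun := fun g => ⟨g₀⁻¹ * g.1, QuotientGroup.eq.1 (Finset.mem_filter.1 g.2).2.symm⟩
            invFun := fun w => ⟨g₀ * w.1, Finset.mem_filter.2 ⟨Finset.mem_univ _, by
              rw [QuotientGroup.mk_mul_of_mem _ w.2]⟩⟩
            left_inv := fun g => Subtype.ext (by simp)
            right_inv := fun w => Subtype.ext (by simp) }
      rw [hfib, nsmul_eq_mul]
      split_ifs <;> simp
    rw [hGQ] at h1
    have h2 : F.card * (Nat.card (G ⧸ Z) * 2) = 2 * (3 * Nat.card (G ⧸ Z)) := by exact_mod_cast h1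
    have hpos : 0 < Nat.card (G ⧸ Z) := Nat.card_pos
    nlinarith
  rw [Nat.card_coe_set_eq, Set.ncard_eq_toFinset_card (Cfsg.principalBlock M G),
    ← Finset.card_filter_add_card_filter_not
      (fun χ : Cfsg.IrrCharacter G => (χ : G → ℂ) z = (χ : G → ℂ) 1), ← hT, ← hF, hTcard, hFcard]

end Cfsg.Agent.BlockThms.QuaternionBlock
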