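import Mathlib
import Cfsg.Agent.BlockThms.Homocyclic
import Cfsg.Agent.BlockThms.QuaternionBlock
import Cfsg.Agent.BlockThms.SecondMainIdem
import Cfsg.Agent.CharArith.Basic
import Cfsg.Agent.Invol.BSBig
import Cfsg.Agent.Char.Brauer

/-!
# Brauer's theorem on homocyclic Sylow 2-subgroups of rank 2

For `P ≅ Z/2^m × Z/2^m` Sylow with automizer of order 3 we lift the functions `3 - η` from `P`
(`η` the sum of an orbit of linear characters) to generalized characters of norm 4.  Two of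
their constituents `A`, `B` are common to all orbits and take a constant value `±1` on `P ∖ 1`.
Counting pairs of involutions then forces `A` to be linear, so `P` lies in a proper normal
subgroup.
-/

set_option autoImplicit false

namespace Cfsg.Agent.BlockThms.HomocyclicBlock

open scoped ComplexConjugate
open Cfsg.Agent Cfsg.Agent.Blocks

universe u

/-- Five triples which meet pairwise in two points have two points in common. -/
theorem sunflower {α : Type*} [DecidableEq α] (F : Finset (Finset α))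
    (h3 : ∀ s ∈ F, s.card = 3) (hmeet : ∀ s ∈ F, ∀ t ∈ F, s ≠ t → (s ∩ t).card = 2)
    (h5 : 4 < F.card) : ∃ A B, A ≠ B ∧ ∀ s ∈ F, A ∈ s ∧ B ∈ s := by
  classical
  obtain ⟨s, hs, t, ht, hst⟩ := Finset.one_lt_card.1 (show 1 < F.card by omega)
  obtain ⟨A, B, hAB, hint⟩ := Finset.card_eq_two.1 (hmeet s hs t ht hst)
  refine ⟨A, B, hAB, ?_⟩
  by_contra hcon
  push Not at hcon
  obtain ⟨r, hr, hr'⟩ := hcon
  set U := s ∪ t with hU
  have hU4 : U.card = 4 := by
    have := Finset.card_union_add_card_inter s t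
    rw [h3 s hs, h3 t ht, hmeet s hs t ht hst, ← hU] at this
    omega
  have key : ∀ w ∈ F, ¬ w ⊆ U → w ∩ U = {A, B} ∧ A ∈ w ∧ B ∈ w := by
    intro w hw hwU
    have hlt : (w ∩ U).card ≤ 2 := by
      have h1 : w ∩ U ⊂ w := Finset.ssubset_iff_subset_ne.2
        ⟨Finset.inter_subset_left, fun h => hwU (Finset.inter_eq_left.1 h)⟩
      have := Finset.card_lt_card h1
      rw [h3 w hw] at this
      omega
    have hws : w ≠ s := fun h => hwU (h ▸ Finset.subset_union_left)
    have hwt : w ≠ t := fun h => hwU (h ▸ Finset.subset_union_right)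
    have e1 : w ∩ s = w ∩ U := Finset.eq_of_subset_of_card_le
      (Finset.inter_subset_inter_left Finset.subset_union_left)
      (by rw [hmeet w hw s hs hws]; exact hlt)
    have e2 : w ∩ t = w ∩ U := Finset.eq_of_subset_of_card_le
      (Finset.inter_subset_inter_left Finset.subset_union_right)
      (by rw [hmeet w hw t ht hwt]; exact hlt)
    have e3 : w ∩ U = {A, B} := by
      refine Finset.eq_of_subset_of_card_le (fun a ha => ?_) ?_
      · rw [← hint, Finset.mem_inter]
        exact ⟨(Finset.mem_inter.1 (e1 ▸ ha : a ∈ w ∩ s)).2,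
          (Finset.mem_inter.1 (e2 ▸ ha : a ∈ w ∩ t)).2⟩
      · rw [Finset.card_pair hAB, ← e1, hmeet w hw s hs hws]
    have hA : A ∈ w ∩ U := e3 ▸ Finset.mem_insert_self _ _
    have hB : B ∈ w ∩ U := e3 ▸ Finset.mem_insert_of_mem (Finset.mem_singleton_self _)
    exact ⟨e3, (Finset.mem_inter.1 hA).1, (Finset.mem_inter.1 hB).1⟩
  have hrU : r ⊆ U := by
    by_contra h
    exact hr' (key r hr h).2.1 (key r hr h).2.2
  have hall : F ⊆ U.powersetCard 3 := by
    intro w hw
    refine Finset.mem_powersetCard.2 ⟨?_, h3 w hw⟩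
    by_contra hwU
    obtain ⟨e3, -, -⟩ := key w hw hwU
    have hne : w ≠ r := fun h => hwU (h ▸ hrU)
    have hsub : w ∩ r ⊆ ({A, B} : Finset α) := e3 ▸ Finset.inter_subset_inter_left hrU
    have heq := Finset.eq_of_subset_of_card_le hsub
      (by rw [Finset.card_pair hAB, hmeet w hw r hr hne])
    have hA : A ∈ w ∩ r := heq ▸ Finset.mem_insert_self _ _
    have hB : B ∈ w ∩ r := heq ▸ Finset.mem_insert_of_mem (Finset.mem_singleton_self _)
    exact hr' (Finset.mem_inter.1 hA).2 (Finset.mem_inter.1 hB).2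
  have := Finset.card_le_card hall
  rw [Finset.card_powersetCard, hU4] at this
  simp only [show Nat.choose 4 3 = 4 from rfl] at this
  omega

/-- The arithmetic at the end. -/
theorem arith {a b : ℤ} (ha : (16 : ℤ) ∣ a - 1) (hb : (16 : ℤ) ∣ b - 1)
    (h : (1 + a + b) * (a * b + a + b) = 9 * (a * b)) : a = 1 ∧ b = 1 := by
  obtain ⟨i, hi⟩ := ha
  obtain ⟨j, hj⟩ := hb
  have mixed : ∀ u v k : ℤ, 15 ≤ u → 17 ≤ v → v - u = 16 * k + 2 →
      (1 + v - u) * (u * v + u - v) ≠ 9 * (u * v) := by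
    intro u v k hu hv hk he
    rcases lt_trichotomy k 0 with hk0 | rfl | hk0
    · have h2 : (1 + v - u) * (u * v + u - v) ≤ 0 :=
        mul_nonpos_of_nonpos_of_nonneg (by omega) (by nlinarith)
      nlinarith
    · have : (1 + v - u) = 3 := by omega
      rw [this] at he
      nlinarith
    · have h1 : (19 : ℤ) ≤ 1 + v - u := by omega
      have h2 : (0 : ℤ) ≤ u * v + u - v := by nlinarith
      nlinarith [mul_le_mul_of_nonneg_right h1 h2]
  rcases lt_trichotomy a 0 with ha0 | ha0 | ha0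
  · rcases lt_trichotomy b 0 with hb0 | hb0 | hb0
    · exfalso
      have h1 : (15 : ℤ) ≤ -a := by omega
      have h2 : (15 : ℤ) ≤ -b := by omega
      have h4 : (0 : ℤ) < a * b + a + b := by nlinarith
      have h5 : (1 + a + b) * (a * b + a + b) < 0 := mul_neg_of_neg_of_pos (by omega) h4
      nlinarith
    · omega
    · by_cases hb1 : b = 1
      · subst hb1
        have h2 : (a - 1) * (a - 1) = 0 := by linarith
        rcases mul_self_eq_zero.1 h2 with h3
        omega
      · exfalso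
        refine mixed (-a) b (i + j) (by omega) (by omega) (by omega) ?_
        linear_combination -h
  · omega
  · rcases lt_trichotomy b 0 with hb0 | hb0 | hb0
    · by_cases ha1 : a = 1
      · subst ha1
        have h2 : (b - 1) * (b - 1) = 0 := by linarith
        rcases mul_self_eq_zero.1 h2 with h3
        omega
      · exfalso
        refine mixed (-b) a (i + j) (by omega) (by omega) (by omega) ?_
        linear_combination -h
    · omega
    · have h0 : a * ((b - 1) * (b - 1)) + b * ((a - 1) * (a - 1)) + (a - b) * (a - b) = 0 := by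
        linear_combination h
      have h1 : 0 ≤ a * ((b - 1) * (b - 1)) := mul_nonneg ha0.le (mul_self_nonneg _)
      have h2 : 0 ≤ b * ((a - 1) * (a - 1)) := mul_nonneg hb0.le (mul_self_nonneg _)
      have h3 := mul_self_nonneg (a - b)
      have e1 : a * ((b - 1) * (b - 1)) = 0 := by linarith
      have e2 : b * ((a - 1) * (a - 1)) = 0 := by linarith
      rw [mul_eq_zero, mul_self_eq_zero] at e1 e2
      omega

variable {G : Type u} [Group G]

/-- `n` induces an automorphism of order 3 without fixed points on the abelian Sylow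
2-subgroup `P`, and generates the fusion. -/
structure Setup (P : Sylow 2 G) (n : G) : Prop where
  comm : ∀ a ∈ (P : Subgroup G), ∀ b ∈ (P : Subgroup G), a * b = b * a
  norm : ∀ x ∈ (P : Subgroup G), n * x * n⁻¹ ∈ (P : Subgroup G)
  cube : ∀ x ∈ (P : Subgroup G), n * (n * (n * x * n⁻¹) * n⁻¹) * n⁻¹ = x
  fpf : ∀ x ∈ (P : Subgroup G), n * x * n⁻¹ = x → x = 1
  fusion : ∀ x ∈ (P : Subgroup G), x ≠ 1 → ∀ c : G, c⁻¹ * x * c ∈ (P : Subgroup G) →
    ∃ i : Fin 3, Commute (c * (n ^ (i : ℕ))⁻¹) x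
  compl : ∀ x ∈ (P : Subgroup G), x ≠ 1 →
    Cfsg.HasNormalPComplement 2 (Subgroup.centralizer ({x} : Set G) : Subgroup G)

theorem exists_setup [Finite G] (P : Sylow 2 G) {m : ℕ} (hm : 1 ≤ m)
    (e : (P : Subgroup G) ≃* Multiplicative (ZMod (2 ^ m) × ZMod (2 ^ m)))
    (hne : (Subgroup.centralizer (P : Set G)).relIndex (Subgroup.normalizer (P : Set G)) ≠ 1) :
    ∃ n, Setup P n := by
  classical
  have := Fintype.ofFinite G
  obtain ⟨h13, htr⟩ := Homocyclic.automizer P hm e
  obtain ⟨hfix, -⟩ := htr hne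
  have h3 := h13.resolve_left hne
  set C := Subgroup.centralizer (P : Set G) with hC
  obtain ⟨n, hnN, hnC⟩ : ∃ n ∈ Subgroup.normalizer (P : Set G), n ∉ C := by
    by_contra h
    push Not at h
    exact hne (Subgroup.relIndex_eq_one.2 h)
  have hcomm : ∀ a ∈ (P : Subgroup G), ∀ b ∈ (P : Subgroup G), a * b = b * a := by
    intro a ha b hb
    have := e.injective ((by rw [map_mul, map_mul, mul_comm]) :
      e (⟨a, ha⟩ * ⟨b, hb⟩) = e (⟨b, hb⟩ * ⟨a, ha⟩))
    exact congrArg Subtype.val this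
  set C' := C.subgroupOf (Subgroup.normalizer (P : Set G)) with hC'
  have hCn : C'.Normal := by
    refine ⟨fun c hc k => ?_⟩
    rw [hC', Subgroup.mem_subgroupOf, hC, Subgroup.mem_centralizer_iff] at hc ⊢
    intro v hv
    simp only [Subgroup.coe_mul, Subgroup.coe_inv]
    have hv' : (k : G)⁻¹ * v * k ∈ (P : Subgroup G) := by
      have := (Subgroup.mem_normalizer_iff.1 (inv_mem k.2) v).1 hv
      simpa using this
    calc v * ((k : G) * c * (k : G)⁻¹) = (k : G) * (((k : G)⁻¹ * v * k) * c) * (k : G)⁻¹ := by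
          group
      _ = (k : G) * (c * ((k : G)⁻¹ * v * k)) * (k : G)⁻¹ := by rw [hc _ hv']
      _ = (k : G) * c * (k : G)⁻¹ * v := by group
  have hidx : C'.index = 3 := h3
  set nN : Subgroup.normalizer (P : Set G) := ⟨n, hnN⟩
  have hn3 : n ^ 3 ∈ C := by
    have := C'.pow_index_mem nN
    rw [hidx] at this
    exact Subgroup.mem_subgroupOf.1 this
  have hdec : ∀ y ∈ Subgroup.normalizer (P : Set G), ∃ i : Fin 3, y * (n ^ (i : ℕ))⁻¹ ∈ C := by
    intro y hy
    have hq : Nat.card (Subgroup.normalizer (P : Set G) ⧸ C') = 3 := hidx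
    have hne1 : (nN : Subgroup.normalizer (P : Set G) ⧸ C') ≠ 1 := fun h =>
      hnC (Subgroup.mem_subgroupOf.1 ((QuotientGroup.eq_one_iff nN).1 h))
    have hord : orderOf (nN : Subgroup.normalizer (P : Set G) ⧸ C') = 3 :=
      orderOf_eq_prime (by rw [← hq]; exact pow_card_eq_one') hne1
    have hmem : ((⟨y, hy⟩ : Subgroup.normalizer (P : Set G)) :
        Subgroup.normalizer (P : Set G) ⧸ C') ∈
        Subgroup.zpowers (nN : Subgroup.normalizer (P : Set G) ⧸ C') := by
      rw [Subgroup.eq_top_of_card_eq (Subgroup.zpowers _) (by rw [Nat.card_zpowers, hord, hq])]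
      exact Subgroup.mem_top _
    rw [mem_zpowers_iff_mem_range_orderOf, hord] at hmem
    obtain ⟨i, hi, he⟩ := Finset.mem_image.1 hmem
    refine ⟨⟨i, Finset.mem_range.1 hi⟩, ?_⟩
    have h' : (((⟨y, hy⟩ : Subgroup.normalizer (P : Set G)) * (nN ^ i)⁻¹ :
        Subgroup.normalizer (P : Set G)) : Subgroup.normalizer (P : Set G) ⧸ C') = 1 := by
      rw [QuotientGroup.mk_mul, QuotientGroup.mk_inv, QuotientGroup.mk_pow, he, mul_inv_cancel]
    exact Subgroup.mem_subgroupOf.1 ((QuotientGroup.eq_one_iff _).1 h')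
  have hnorm : ∀ x ∈ (P : Subgroup G), n * x * n⁻¹ ∈ (P : Subgroup G) := fun x hx =>
    (Subgroup.mem_normalizer_iff.1 hnN x).1 hx
  refine ⟨n, hcomm, hnorm, fun x hx => ?_, fun x hx hxn => ?_, fun x hx hx1 c hc => ?_,
    fun x hx hx1 => ?_⟩
  · have h := Subgroup.mem_centralizer_iff.1 hn3 x hx
    calc n * (n * (n * x * n⁻¹) * n⁻¹) * n⁻¹ = (n ^ 3 * x) * (n ^ 3)⁻¹ := by
          rw [pow_succ, pow_two]; group
      _ = x := by rw [← h, mul_inv_cancel_right]
  · by_contra hx1
    refine hnC ((hfix x hx hx1).le ⟨Subgroup.mem_centralizer_singleton_iff.2 ?_, hnN⟩)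
    exact mul_inv_eq_iff_eq_mul.1 hxn
  · set D := Subgroup.centralizer ({x} : Set G) with hD
    have hPD : (P : Subgroup G) ≤ D := fun a ha =>
      Subgroup.mem_centralizer_singleton_iff.2 (hcomm a ha x hx)
    set W : Sylow 2 G := c • P with hW
    have hmemW : ∀ a, a ∈ (W : Subgroup G) ↔ c⁻¹ * a * c ∈ (P : Subgroup G) := by
      intro a
      rw [hW, Sylow.coe_subgroup_smul, Subgroup.mem_pointwise_smul_iff_inv_smul_mem]
      simp [MulAut.smul_def, MulAut.conj]
    have hWD : (W : Subgroup G) ≤ D := fun a ha => Subgroup.mem_centralizer_singleton_iff.2 (by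
      have h := hcomm _ ((hmemW a).1 ha) _ hc
      calc a * x = c * ((c⁻¹ * a * c) * (c⁻¹ * x * c)) * c⁻¹ := by group
        _ = c * ((c⁻¹ * x * c) * (c⁻¹ * a * c)) * c⁻¹ := by rw [h]
        _ = x * a := by group)
    obtain ⟨k, hk⟩ := MulAction.exists_smul_eq D (W.subtype hWD) (P.subtype hPD)
    have hkc : (k : G) * c ∈ Subgroup.normalizer (P : Set G) := by
      rw [← Sylow.smul_eq_iff_mem_normalizer, mul_smul, ← hW]
      apply Sylow.ext
      ext a
      rw [Sylow.coe_subgroup_smul, Subgroup.mem_pointwise_smul_iff_inv_smul_mem]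
      simp only [← map_inv, MulAut.smul_def, MulAut.conj_apply, inv_inv]
      have h2 : ∀ ha : a ∈ D,
          ((k : G)⁻¹ * a * k ∈ (W : Subgroup G) ↔ a ∈ (P : Subgroup G)) := fun ha => by
        have h3 : (⟨a, ha⟩ : D) ∈ ((k • W.subtype hWD : Sylow 2 D) : Subgroup D) ↔
            (⟨a, ha⟩ : D) ∈ ((P.subtype hPD : Sylow 2 D) : Subgroup D) := by rw [hk]
        rw [Sylow.coe_subgroup_smul, Subgroup.mem_pointwise_smul_iff_inv_smul_mem] at h3
        simp only [← map_inv, MulAut.smul_def, MulAut.conj_apply, inv_inv,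
          Sylow.coe_subtype, Subgroup.mem_subgroupOf] at h3
        simpa using h3
      constructor
      · intro ha
        refine (h2 ?_).1 ha
        have := mul_mem (mul_mem k.2 (hWD ha)) (inv_mem k.2)
        simpa [mul_assoc] using this
      · intro ha
        exact (h2 (hPD ha)).2 ha
    obtain ⟨i, hi⟩ := hdec _ hkc
    refine ⟨i, ?_⟩
    have h1 : Commute ((k : G) * c * (n ^ (i : ℕ))⁻¹) x :=
      (Subgroup.mem_centralizer_iff.1 hi x hx).symm
    have h2 : Commute (k : G)⁻¹ x :=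
      (show Commute (k : G) x from Subgroup.mem_centralizer_singleton_iff.1 k.2).inv_left
    have h3 := h2.mul_left h1
    rwa [mul_assoc, inv_mul_cancel_left] at h3
  · set D := Subgroup.centralizer ({x} : Set G) with hD
    have hPD : (P : Subgroup G) ≤ D := fun a ha =>
      Subgroup.mem_centralizer_singleton_iff.2 (hcomm a ha x hx)
    refine Fusion.hasNormalPComplement_of_normalizer_le_centralizer (P.subtype hPD) fun k hk => ?_
    have hkN : (k : G) ∈ Subgroup.normalizer (P : Set G) := by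
      refine Subgroup.mem_normalizer_iff.2 fun a => ?_
      constructor
      · intro ha
        exact (Subgroup.mem_normalizer_iff.1 hk ⟨a, hPD ha⟩).1 ha
      · intro ha
        have haD : a ∈ D := by
          have := mul_mem (mul_mem (inv_mem k.2) (hPD ha)) k.2
          simpa [mul_assoc] using this
        exact (Subgroup.mem_normalizer_iff.1 hk ⟨a, haD⟩).2 ha
    have hkC : (k : G) ∈ C := (hfix x hx hx1).le ⟨k.2, hkN⟩
    exact Subgroup.mem_centralizer_iff.2 fun a ha =>
      Subtype.ext (Subgroup.mem_centralizer_iff.1 hkC (a : G) ha)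

variable {P : Sylow 2 G} {n : G} (hS : Setup P n)
include hS

theorem Setup.norm' {x : G} (hx : x ∈ (P : Subgroup G)) : n⁻¹ * x * n ∈ (P : Subgroup G) := by
  have h : n * (n * x * n⁻¹) * n⁻¹ = n⁻¹ * x * n := by
    conv_rhs => rw [← hS.cube x hx]
    group
  exact h ▸ hS.norm _ (hS.norm x hx)

theorem Setup.fpf2 {x : G} (hx : x ∈ (P : Subgroup G))
    (h : n * (n * x * n⁻¹) * n⁻¹ = x) : x = 1 := by
  have := hS.cube x hx
  rw [h] at this
  exact hS.fpf x hx this

/-- The three translates are distinct. -/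
theorem Setup.index_unique {x : G} (hx : x ∈ (P : Subgroup G)) (hx1 : x ≠ 1) {i j : Fin 3}
    {k : G} (hk : Commute k x) (h : k * n ^ (i : ℕ) = n ^ (j : ℕ)) : i = j := by
  have A : ¬ Commute n x := fun h => hx1 (hS.fpf x hx (by rw [h.eq, mul_inv_cancel_right]))
  have B : ¬ Commute (n * n) x := fun h => hx1 (hS.fpf2 hx (by
    calc n * (n * x * n⁻¹) * n⁻¹ = (n * n * x) * (n * n)⁻¹ := by group
      _ = x := by rw [h.eq, mul_inv_cancel_right]))
  by_contra hne
  have h' : k = n ^ (j : ℕ) * (n ^ (i : ℕ))⁻¹ := eq_mul_inv_of_mul_eq h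
  rw [h'] at hk
  have hk' := hk.inv_left
  rw [mul_inv_rev, inv_inv] at hk'
  obtain ⟨i, hi⟩ := i
  obtain ⟨j, hj⟩ := j
  interval_cases i <;> interval_cases j <;> simp [pow_two, mul_assoc] at hne hk hk' <;>
    first
    | exact A hk
    | exact A hk'
    | exact B hk
    | exact B hk'

/-- The elements conjugating `x` into `P`. -/
theorem Setup.card_into [Fintype G] {x : G} (hx : x ∈ (P : Subgroup G)) (hx1 : x ≠ 1) :
    Nat.card {c : G // c⁻¹ * x * c ∈ (P : Subgroup G)} =
      3 * Nat.card (Subgroup.centralizer ({x} : Set G)) := by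
  classical
  set D := Subgroup.centralizer ({x} : Set G) with hD
  let f : D × Fin 3 → {c : G // c⁻¹ * x * c ∈ (P : Subgroup G)} := fun q =>
    ⟨(q.1 : G) * n ^ (q.2 : ℕ), by
      have h : (q.1 : G)⁻¹ * x * q.1 = x := by
        rw [mul_assoc, ← Subgroup.mem_centralizer_singleton_iff.1 q.1.2, inv_mul_cancel_left]
      have e : ((q.1 : G) * n ^ (q.2 : ℕ))⁻¹ * x * ((q.1 : G) * n ^ (q.2 : ℕ)) =
          (n ^ (q.2 : ℕ))⁻¹ * x * n ^ (q.2 : ℕ) := by
        conv_rhs => rw [← h]
        group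
      rw [e]
      generalize (q.2 : ℕ) = i
      clear h e
      induction i generalizing x with
      | zero => simpa using hx
      | succ i ih =>
        have h2 := hS.norm' hx
        by_cases h3 : n⁻¹ * x * n = 1
        · have : x = 1 := by
            rw [mul_assoc, inv_mul_eq_one] at h3
            exact mul_eq_right.1 h3.symm
          simp [this]
        · have := ih h2 h3 rfl
          rw [pow_succ']
          simpa [mul_assoc] using this⟩
  have hbij : Function.Bijective f := by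
    refine ⟨fun a b h => ?_, fun c => ?_⟩
    · have h' : (a.1 : G) * n ^ (a.2 : ℕ) = (b.1 : G) * n ^ (b.2 : ℕ) := congrArg Subtype.val h
      have hc : Commute ((b.1 : G)⁻¹ * a.1) x :=
        (show Commute (b.1 : G) x from
          Subgroup.mem_centralizer_singleton_iff.1 b.1.2).inv_left.mul_left
          (Subgroup.mem_centralizer_singleton_iff.1 a.1.2)
      have hi := hS.index_unique hx hx1 hc
        (show (b.1 : G)⁻¹ * a.1 * n ^ (a.2 : ℕ) = n ^ (b.2 : ℕ) by
          rw [mul_assoc, h', inv_mul_cancel_left])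
      refine Prod.ext (Subtype.ext ?_) hi
      rw [hi] at h'
      exact mul_right_cancel h'
    · obtain ⟨i, hi⟩ := hS.fusion x hx hx1 c.1 c.2
      exact ⟨(⟨_, Subgroup.mem_centralizer_singleton_iff.2 hi.eq⟩, i),
        Subtype.ext (inv_mul_cancel_right _ _)⟩
  rw [← Nat.card_congr (Equiv.ofBijective f hbij), Nat.card_prod, Nat.card_eq_fintype_card
    (α := Fin 3), Fintype.card_fin, mul_comm]

omit hS

variable [Fintype G]

open scoped Classical in
/-- Elements with the given 2-part. -/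
noncomputable def fiber (u : G) : Finset G := Finset.univ.filter fun g => pPartOf 2 g = u

theorem mem_fiber {u g : G} : g ∈ fiber u ↔ pPartOf 2 g = u := by simp [fiber]

/-- The average over a 2-section. -/
noncomputable def avg (χ : G → ℂ) (u : G) : ℂ :=
  ((fiber u).card : ℂ)⁻¹ * ∑ g ∈ fiber u, χ g

theorem sum_fiber_conj {χ : G → ℂ} (hχ : Cfsg.IsClassFunction G χ) (c u : G) :
    ∑ g ∈ fiber (c * u * c⁻¹), χ g = ∑ g ∈ fiber u, χ g := by
  refine Finset.sum_nbij' (fun g => c⁻¹ * g * c) (fun g => c * g * c⁻¹) ?_ ?_ ?_ ?_ ?_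
  · intro g hg
    have hg := mem_fiber.1 hg
    refine mem_fiber.2 ?_
    rw [show c⁻¹ * g * c = c⁻¹ * g * c⁻¹⁻¹ by group, pPartOf_conj (p := 2), hg]
    group
  · intro g hg
    exact mem_fiber.2 (by rw [pPartOf_conj (p := 2), mem_fiber.1 hg])
  · intro g _; group
  · intro g _; group
  · intro g _
    rw [← hχ g c⁻¹, inv_inv]

theorem card_fiber_conj (c u : G) : ((fiber (c * u * c⁻¹)).card : ℂ) = (fiber u).card := by
  have h := sum_fiber_conj (χ := fun _ => (1 : ℂ)) (fun _ _ => rfl) c u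
  simpa using h

theorem avg_conj {χ : G → ℂ} (hχ : Cfsg.IsClassFunction G χ) (c u : G) :
    avg χ (c * u * c⁻¹) = avg χ u := by
  rw [avg, avg, sum_fiber_conj hχ, card_fiber_conj]

theorem pPartOf_self {u : G} (hu : ∃ k, orderOf u = 2 ^ k) : pPartOf 2 u = u := by
  have h := (parts_mul Nat.prime_two (Commute.one_right u) hu
    (by rw [orderOf_one]; norm_num)).1
  rwa [mul_one] at h

/-- Transport to the fixed Sylow subgroup. -/
noncomputable def rep (P : Sylow 2 G) (u : G) : G :=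
  open scoped Classical in
  if h : ∃ c : G, c * u * c⁻¹ ∈ (P : Subgroup G) then h.choose * u * h.choose⁻¹ else 1

/-- The lift of a function on `P`. -/
noncomputable def lift (P : Sylow 2 G) (φ : G → ℂ) : G → ℂ := fun g => φ (rep P (pPartOf 2 g))

theorem exists_conj_mem (P : Sylow 2 G) {u : G} (hu : ∃ k, orderOf u = 2 ^ k) :
    ∃ c : G, c * u * c⁻¹ ∈ (P : Subgroup G) := by
  have : Fact (Nat.Prime 2) := ⟨Nat.prime_two⟩
  obtain ⟨k, hk⟩ := hu
  obtain ⟨W, hW⟩ := (IsPGroup.of_card (p := 2) (n := k) (by rw [Nat.card_zpowers, hk]) :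
    IsPGroup 2 (Subgroup.zpowers u)).exists_le_sylow
  obtain ⟨c, hc⟩ := MulAction.exists_smul_eq G W P
  exact ⟨c, hc ▸ ⟨u, hW (Subgroup.mem_zpowers u), rfl⟩⟩

omit [Fintype G] in
theorem exists_orderOf_pow [Finite G] {x : G} (hx : x ∈ (P : Subgroup G)) :
    ∃ k, orderOf x = 2 ^ k := by
  have : Fact (Nat.Prime 2) := ⟨Nat.prime_two⟩
  obtain ⟨k, hk⟩ := (IsPGroup.iff_orderOf.1 P.2) ⟨x, hx⟩
  exact ⟨k, by rw [← hk, ← Subgroup.orderOf_coe]⟩

/-- A function on `P` vanishing at 1 and invariant under `n`. -/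
structure Adm (P : Sylow 2 G) (n : G) (φ : G → ℂ) : Prop where
  one : φ 1 = 0
  inv : ∀ x ∈ (P : Subgroup G), φ (n * x * n⁻¹) = φ x

include hS

omit [Fintype G] in
theorem Setup.adm_conj_pow {φ : G → ℂ} (hφ : Adm P n φ) (i : ℕ) :
    ∀ x ∈ (P : Subgroup G), (n ^ i)⁻¹ * x * n ^ i ∈ (P : Subgroup G) ∧
      φ ((n ^ i)⁻¹ * x * n ^ i) = φ x := by
  induction i with
  | zero => intro x hx; simp [hx]
  | succ i ih =>
    intro x hx
    have h2 := hS.norm' hx
    obtain ⟨h3, h4⟩ := ih _ h2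
    have e : (n ^ (i + 1))⁻¹ * x * n ^ (i + 1) = (n ^ i)⁻¹ * (n⁻¹ * x * n) * n ^ i := by
      rw [pow_succ']; group
    rw [e]
    refine ⟨h3, h4.trans ?_⟩
    rw [← hφ.inv _ h2]
    group

omit [Fintype G] in
theorem Setup.adm_isConj {φ : G → ℂ} (hφ : Adm P n φ) {x y : G} (hx : x ∈ (P : Subgroup G))
    (hy : y ∈ (P : Subgroup G)) (h : IsConj x y) : φ y = φ x := by
  obtain ⟨c, hc⟩ := isConj_iff.1 h
  by_cases hx1 : x = 1
  · rw [← hc, hx1]; simp
  obtain ⟨i, hi⟩ := hS.fusion x hx hx1 c⁻¹ (by rw [inv_inv, hc]; exact hy)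
  have e : y = (n ^ (i : ℕ))⁻¹ * x * n ^ (i : ℕ) := by
    have hi' := hi.inv_left.eq
    rw [mul_inv_rev, inv_inv, inv_inv] at hi'
    calc y = c * x * c⁻¹ := hc.symm
      _ = (n ^ (i : ℕ))⁻¹ * (n ^ (i : ℕ) * c * x) * c⁻¹ := by group
      _ = (n ^ (i : ℕ))⁻¹ * (x * (n ^ (i : ℕ) * c)) * c⁻¹ := by rw [hi']
      _ = _ := by group
  rw [e]
  exact (hS.adm_conj_pow hφ i x hx).2

theorem Setup.lift_apply {φ : G → ℂ} (hφ : Adm P n φ) {g y : G} (hy : y ∈ (P : Subgroup G))
    (h : IsConj (pPartOf 2 g) y) : lift P φ g = φ y := by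
  have hmem : ∃ c : G, c * pPartOf 2 g * c⁻¹ ∈ (P : Subgroup G) :=
    exists_conj_mem P (orderOf_pPartOf Nat.prime_two g)
  have h' : rep P (pPartOf 2 g) = hmem.choose * pPartOf 2 g * hmem.choose⁻¹ := by
    classical
    rw [rep, dif_pos hmem]
  rw [lift, h']
  exact hS.adm_isConj hφ hy hmem.choose_spec
    (h.symm.trans (isConj_iff.2 ⟨hmem.choose, rfl⟩))

theorem Setup.lift_class {φ : G → ℂ} (hφ : Adm P n φ) : Cfsg.IsClassFunction G (lift P φ) := by
  intro g h
  obtain ⟨c, hc⟩ := exists_conj_mem P (orderOf_pPartOf Nat.prime_two g)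
  rw [hS.lift_apply hφ hc (isConj_iff.2 ⟨c, rfl⟩),
    hS.lift_apply hφ hc ((isConj_iff.2 ⟨c * h⁻¹, by
      rw [pPartOf_conj (p := 2)]; group⟩))]

theorem Setup.lift_mem {φ : G → ℂ} (hφ : Adm P n φ) {g x : G} (hx : x ∈ (P : Subgroup G))
    (hg : g ∈ fiber x) : lift P φ g = φ x :=
  hS.lift_apply hφ hx (by rw [mem_fiber.1 hg])

theorem Setup.lift_regular {φ : G → ℂ} (hφ : Adm P n φ) {g : G} (hg : ¬ 2 ∣ orderOf g) :
    lift P φ g = 0 := by
  rw [hS.lift_apply hφ (one_mem _) (by rw [(pPartOf_eq_one_iff Nat.prime_two g).2 hg]), hφ.one]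

/-- The members of a section. -/
theorem Setup.sum_fiber_eq {x : G} (hx : x ∈ (P : Subgroup G)) (f : G → ℂ)
    [Fintype (Subgroup.centralizer ({x} : Set G))] :
    ∑ g ∈ fiber x, f g = ∑ y ∈ Finset.univ.filter
      (fun y : Subgroup.centralizer ({x} : Set G) => ¬ 2 ∣ orderOf y), f (x * (y : G)) := by
  refine Finset.sum_bij' (fun g hg => (⟨pPrimePartOf 2 g, Subgroup.mem_centralizer_singleton_iff.2
      (((congrArg (fun t => Commute t (pPrimePartOf 2 g)) (mem_fiber.1 hg)).mp
        (commute_pPartOf_pPrimePartOf g)).eq.symm)⟩ : Subgroup.centralizer ({x} : Set G)))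
    (fun y _ => x * (y : G)) ?_ ?_ ?_ ?_ ?_
  · intro g _
    refine Finset.mem_filter.2 ⟨Finset.mem_univ _, ?_⟩
    rw [← Subgroup.orderOf_coe]
    exact not_dvd_orderOf_pPrimePartOf Nat.prime_two g
  · intro y hy
    exact mem_fiber.2 (parts_mul Nat.prime_two
      (show Commute x (y : G) from (Subgroup.mem_centralizer_singleton_iff.1 y.2).symm)
      (exists_orderOf_pow hx) (by rw [Subgroup.orderOf_coe]; exact (Finset.mem_filter.1 hy).2)).1
  · intro g hg
    show x * pPrimePartOf 2 g = g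
    conv_rhs => rw [← pPartOf_mul_pPrimePartOf Nat.prime_two g, mem_fiber.1 hg]
  · intro y hy
    exact Subtype.ext (parts_mul Nat.prime_two
      (show Commute x (y : G) from (Subgroup.mem_centralizer_singleton_iff.1 y.2).symm)
      (exists_orderOf_pow hx) (by rw [Subgroup.orderOf_coe]; exact (Finset.mem_filter.1 hy).2)).2
  · intro g hg
    show f g = f (x * pPrimePartOf 2 g)
    congr 1
    conv_lhs => rw [← pPartOf_mul_pPrimePartOf Nat.prime_two g, mem_fiber.1 hg]

theorem Setup.factorization_centralizer {x : G} (hx : x ∈ (P : Subgroup G)) :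
    2 ^ (Nat.card (Subgroup.centralizer ({x} : Set G))).factorization 2 =
      Nat.card (P : Subgroup G) := by
  have : Fact (Nat.Prime 2) := ⟨Nat.prime_two⟩
  have hPD : (P : Subgroup G) ≤ Subgroup.centralizer ({x} : Set G) := fun a ha =>
    Subgroup.mem_centralizer_singleton_iff.2 (hS.comm a ha x hx)
  rw [← (P.subtype hPD).card_eq_multiplicity, Sylow.coe_subtype,
    Nat.card_congr (Subgroup.subgroupOfEquivOfLe hPD).toEquiv]

theorem Setup.card_fiber {x : G} (hx : x ∈ (P : Subgroup G)) (hx1 : x ≠ 1) :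
    (fiber x).card * Nat.card (P : Subgroup G) =
      Nat.card (Subgroup.centralizer ({x} : Set G)) := by
  classical
  have : Fintype (Subgroup.centralizer ({x} : Set G)) := Fintype.ofFinite _
  have h := (QuaternionBlock.card_regular_mul (hS.compl x hx hx1)).2
  rw [hS.factorization_centralizer hx, Nat.card_eq_fintype_card, Fintype.card_subtype] at h
  have e := hS.sum_fiber_eq hx (fun _ => (1 : ℂ))
  simp only [Finset.sum_const, nsmul_eq_mul, mul_one] at e
  rw [Nat.cast_injective e]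
  exact h

open scoped Classical in
/-- Sums of a lift against a class function. -/
theorem Setup.sum_lift {φ : G → ℂ} (hφ : Adm P n φ) {χ : G → ℂ}
    (hχ : Cfsg.IsClassFunction G χ) :
    3 * (Nat.card (P : Subgroup G) : ℂ) * ∑ g, lift P φ g * χ g =
      (Nat.card G : ℂ) * ∑ x : (P : Subgroup G), φ x * avg χ x := by
  set H : G → ℂ := fun u => ∑ g ∈ fiber u, lift P φ g * χ g with hH
  have hl := hS.lift_class hφ
  have hHc : ∀ c u, H (c * u * c⁻¹) = H u := fun c u =>
    sum_fiber_conj (χ := fun g => lift P φ g * χ g) (fun g h => by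
      simp only [hl g h, hχ g h]) c u
  have htot : ∑ g, lift P φ g * χ g = ∑ u, H u := by
    rw [hH]
    exact (Finset.sum_fiberwise Finset.univ (pPartOf 2) _).symm.trans
      (Finset.sum_congr rfl fun u _ => Finset.sum_congr (by ext g; simp [mem_fiber]) fun _ _ => rfl)
  set w : G → ℂ := fun u => (Nat.card (Subgroup.centralizer ({u} : Set G)) : ℂ)⁻¹ with hw
  have hwc : ∀ c u, w (c * u * c⁻¹) = w u := fun c u => by
    simp only [hw]
    rw [card_centralizer_conj]
  have hcount : ∀ u, H u ≠ 0 →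
      (Nat.card {c : G // c⁻¹ * u * c ∈ (P : Subgroup G)} : ℂ) * w u = 3 := by
    intro u hu
    obtain ⟨g, hg, hg0⟩ := Finset.exists_ne_zero_of_sum_ne_zero hu
    obtain ⟨d, hd⟩ := exists_conj_mem P (orderOf_pPartOf Nat.prime_two g)
    rw [mem_fiber.1 hg] at hd
    have hd1 : d * u * d⁻¹ ≠ 1 := by
      intro h1
      rw [conj_eq_one_iff] at h1
      apply hg0
      rw [hS.lift_regular hφ ((pPartOf_eq_one_iff Nat.prime_two g).1
        ((mem_fiber.1 hg).trans h1)), zero_mul]
    have h := hS.card_into hd hd1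
    have e : Nat.card {c : G // c⁻¹ * u * c ∈ (P : Subgroup G)} =
        Nat.card {c : G // c⁻¹ * (d * u * d⁻¹) * c ∈ (P : Subgroup G)} := by
      refine Nat.card_congr ((Equiv.mulLeft d).subtypeEquiv fun c => ?_)
      rw [Equiv.coe_mulLeft, show (d * c)⁻¹ * (d * u * d⁻¹) * (d * c) = c⁻¹ * u * c by group]
    rw [e, h, hw]
    have h1 : Nat.card (Subgroup.centralizer ({d * u * d⁻¹} : Set G)) =
        Nat.card (Subgroup.centralizer ({u} : Set G)) := card_centralizer_conj u d
    rw [h1]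
    push_cast
    exact mul_inv_cancel_right₀ (Nat.cast_ne_zero.2 Nat.card_pos.ne') 3
  have hdouble : (Nat.card G : ℂ) * ∑ x : (P : Subgroup G), H x * w x = 3 * ∑ u, H u := by
    have h1 : ∀ x : G, ∑ c : G, H (c * x * c⁻¹) * w (c * x * c⁻¹) =
        (Nat.card G : ℂ) * (H x * w x) := fun x => by
      simp [hHc, hwc, Nat.card_eq_fintype_card]
    rw [Finset.mul_sum, ← Finset.sum_congr rfl fun (x : (P : Subgroup G)) _ => h1 x,
      Finset.sum_comm, Finset.mul_sum]
    have h2 : ∀ c : G, ∑ x : (P : Subgroup G), H (c * x * c⁻¹) * w (c * x * c⁻¹) =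
        ∑ u, if c⁻¹ * u * c ∈ (P : Subgroup G) then H u * w u else 0 := by
      intro c
      rw [← Finset.sum_filter]
      refine Finset.sum_nbij' (fun x => c * (x : G) * c⁻¹)
        (fun u => if hu : c⁻¹ * u * c ∈ (P : Subgroup G) then ⟨_, hu⟩ else 1) ?_ ?_ ?_ ?_ ?_
      · intro x _
        refine Finset.mem_filter.2 ⟨Finset.mem_univ _, ?_⟩
        rw [show c⁻¹ * (c * (x : G) * c⁻¹) * c = x by group]
        exact x.2
      · intro u _; exact Finset.mem_univ _
      · intro x _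
        have e : c⁻¹ * (c * (x : G) * c⁻¹) * c = x := by group
        rw [dif_pos (by rw [e]; exact x.2)]
        exact Subtype.ext e
      · intro u hu
        rw [dif_pos (Finset.mem_filter.1 hu).2]
        show c * (c⁻¹ * u * c) * c⁻¹ = u
        group
      · intro x _; rfl
    rw [Finset.sum_congr rfl fun c _ => h2 c, Finset.sum_comm]
    refine Finset.sum_congr rfl fun u _ => ?_
    rw [← Finset.sum_filter, Finset.sum_const, nsmul_eq_mul, ← Fintype.card_subtype,
      ← Nat.card_eq_fintype_card]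
    by_cases hu : H u = 0
    · simp [hu]
    · rw [mul_left_comm, hcount u hu, mul_comm]
  have hpt : ∀ x : (P : Subgroup G),
      H x * w x = (Nat.card (P : Subgroup G) : ℂ)⁻¹ * (φ x * avg χ x) := by
    intro x
    have e : H x = φ x * ∑ g ∈ fiber (x : G), χ g := by
      simp only [hH]
      rw [Finset.mul_sum]
      exact Finset.sum_congr rfl fun g hg => by rw [hS.lift_mem hφ x.2 hg]
    by_cases hx1 : (x : G) = 1
    · rw [e, hx1, hφ.one]; simp
    · have hc := hS.card_fiber x.2 hx1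
      have hf : ((fiber (x : G)).card : ℂ) ≠ 0 := by
        intro h
        rw [Nat.cast_eq_zero] at h
        rw [h, zero_mul] at hc
        exact Nat.card_pos.ne hc
      rw [e, avg, hw]
      simp only [← hc, Nat.cast_mul, mul_inv]
      field_simp
  rw [Finset.sum_congr rfl fun x _ => hpt x, ← Finset.mul_sum] at hdouble
  rw [htot]
  have hP : (Nat.card (P : Subgroup G) : ℂ) ≠ 0 := Nat.cast_ne_zero.2 Nat.card_pos.ne'
  calc 3 * (Nat.card (P : Subgroup G) : ℂ) * ∑ u, H u
      = (Nat.card (P : Subgroup G) : ℂ) * (3 * ∑ u, H u) := by ring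
    _ = _ := by rw [← hdouble]; field_simp

open scoped Classical in
theorem Setup.classInner_lift {φ : G → ℂ} (hφ : Adm P n φ) {χ : G → ℂ}
    (hχ : Cfsg.IsClassFunction G χ) :
    3 * (Nat.card (P : Subgroup G) : ℂ) * Cfsg.classInner (lift P φ) χ =
      ∑ x : (P : Subgroup G), φ x * conj (avg χ x) := by
  have h := hS.sum_lift hφ (χ := fun g => conj (χ g)) (fun g h => by simp only [hχ g h])
  have hav : ∀ x : G, avg (fun g => conj (χ g)) x = conj (avg χ x) := fun x => by
    simp [avg, map_sum]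
  simp only [hav] at h
  rw [Cfsg.classInner, mul_left_comm, h, inv_mul_cancel_left₀ Char.card_ne_zero]

theorem Setup.avg_lift {φ : G → ℂ} (hφ : Adm P n φ) {x : G} (hx : x ∈ (P : Subgroup G)) :
    avg (lift P φ) x = φ x := by
  have hne : ((fiber x).card : ℂ) ≠ 0 := Nat.cast_ne_zero.2
    (Finset.card_ne_zero.2 ⟨x, mem_fiber.2 (pPartOf_self (exists_orderOf_pow hx))⟩)
  rw [avg, Finset.sum_congr rfl fun g hg => hS.lift_mem hφ hx hg, Finset.sum_const, nsmul_eq_mul,
    inv_mul_cancel_left₀ hne]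

open scoped Classical in
theorem Setup.classInner_lift_lift {φ ψ : G → ℂ} (hφ : Adm P n φ) (hψ : Adm P n ψ) :
    3 * (Nat.card (P : Subgroup G) : ℂ) * Cfsg.classInner (lift P φ) (lift P ψ) =
      ∑ x : (P : Subgroup G), φ x * conj (ψ x) := by
  rw [hS.classInner_lift hφ (hS.lift_class hψ)]
  exact Finset.sum_congr rfl fun x _ => by rw [hS.avg_lift hψ x.2]

/-- Conjugation by `n` on `P`. -/
noncomputable def Setup.act : (P : Subgroup G) ≃* (P : Subgroup G) where
  toFun x := ⟨n * (x : G) * n⁻¹, hS.norm _ x.2⟩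
  invFun x := ⟨n⁻¹ * (x : G) * n, hS.norm' x.2⟩
  left_inv x := Subtype.ext (by simp [mul_assoc])
  right_inv x := Subtype.ext (by simp [mul_assoc])
  map_mul' x y := Subtype.ext (by simp [mul_assoc])

open scoped Classical in
/-- The average over an orbit of a linear character, subtracted from 1. -/
noncomputable def Setup.theta (l : (P : Subgroup G) →* ℂˣ) : G → ℂ := fun g =>
  if h : g ∈ (P : Subgroup G) then
    3 - ((l ⟨g, h⟩ : ℂ) + (l (hS.act ⟨g, h⟩) : ℂ) + (l (hS.act (hS.act ⟨g, h⟩)) : ℂ))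
  else 0

omit [Fintype G] in
theorem Setup.act_three (x : (P : Subgroup G)) : hS.act (hS.act (hS.act x)) = x :=
  Subtype.ext (hS.cube _ x.2)

omit [Fintype G] in
theorem Setup.theta_mem (l : (P : Subgroup G) →* ℂˣ) (x : (P : Subgroup G)) :
    hS.theta l x = 3 - ((l x : ℂ) + (l (hS.act x) : ℂ) + (l (hS.act (hS.act x)) : ℂ)) := by
  rw [Setup.theta, dif_pos x.2]

omit [Fintype G] in
theorem Setup.adm_theta (l : (P : Subgroup G) →* ℂˣ) : Adm P n (hS.theta l) := by
  refine ⟨?_, fun x hx => ?_⟩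
  · have h := hS.theta_mem l 1
    rw [OneMemClass.coe_one] at h
    rw [h]
    simp
    norm_num
  · have h := hS.theta_mem l (hS.act ⟨x, hx⟩)
    rw [hS.act_three] at h
    exact h.trans (by rw [hS.theta_mem l ⟨x, hx⟩]; ring)

omit hS in
/-- In an elementary group taking 2-parts is a homomorphism. -/
theorem pPartOf_mul_elementary {E : Type u} [Group E] [Fintype E] {q : ℕ} (hq : q.Prime)
    (hE : Cfsg.IsElementary q E) (a b : E) :
    pPartOf 2 (a * b) = pPartOf 2 a * pPartOf 2 b := by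
  classical
  have : Fact (Nat.Prime 2) := ⟨Nat.prime_two⟩
  obtain ⟨x, hx, hco, k, hk⟩ := hE
  set X := Subgroup.zpowers x with hX
  have hXc : X ≤ Subgroup.center E := Subgroup.zpowers_le.2 hx
  have hXn : X.Normal := ⟨fun y hy g => by
    rw [Subgroup.mem_center_iff.1 (hXc hy) g, mul_inv_cancel_right]; exact hy⟩
  have hmem : ∀ u : E, ¬ q ∣ orderOf u → ∀ g : E, g * u = u * g := fun u hu =>
    Subgroup.mem_center_iff.1 (hXc (BlockThms.mem_of_regular hq ⟨k, hk⟩ hu))
  obtain ⟨Q⟩ : Nonempty (Sylow 2 E) := inferInstance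
  have hcases : (∀ u : E, ¬ 2 ∣ orderOf u → ∀ g : E, g * u = u * g) ∨
      (∀ u : E, (∃ j, orderOf u = 2 ^ j) → ∀ g : E, g * u = u * g) := by
    by_cases h2 : q = 2
    · left; subst h2; exact hmem
    · right
      rintro u ⟨j, hj⟩
      refine hmem u fun hd => h2 ?_
      rw [hj] at hd
      exact (Nat.prime_dvd_prime_iff_eq hq Nat.prime_two).1 (hq.dvd_of_dvd_pow hd)
  have hQn : (Q : Subgroup E).Normal := by
    rcases hcases with h | h
    · refine ⟨fun y hy g => ?_⟩
      have hnorm : Subgroup.normalizer (Q : Set E) = ⊤ := by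
        rw [← Subgroup.index_eq_one]
        by_contra hne
        obtain ⟨r, hr, hrd⟩ := Nat.exists_prime_and_dvd hne
        have : Fact r.Prime := ⟨hr⟩
        have hr2 : r ≠ 2 := fun h2 => Q.not_dvd_index
          ((h2 ▸ hrd : 2 ∣ _).trans (Subgroup.index_dvd_of_le Subgroup.le_normalizer))
        obtain ⟨R⟩ : Nonempty (Sylow r E) := inferInstance
        refine R.not_dvd_index (hrd.trans (Subgroup.index_dvd_of_le fun z hz =>
          Subgroup.center_le_normalizer _ (Subgroup.mem_center_iff.2 (h z fun hd => hr2 ?_))))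
        obtain ⟨j, hj⟩ := (IsPGroup.iff_orderOf.1 R.2) ⟨z, hz⟩
        rw [← Subgroup.orderOf_coe] at hj
        rw [hj] at hd
        exact ((Nat.prime_dvd_prime_iff_eq Nat.prime_two hr).1
          (Nat.prime_two.dvd_of_dvd_pow hd)).symm
      exact (Subgroup.mem_normalizer_iff.1 (hnorm ▸ Subgroup.mem_top g) y).1 hy
    · exact ⟨fun y hy g => by
        have hc := h y (by
          obtain ⟨j, hj⟩ := (IsPGroup.iff_orderOf.1 Q.2) ⟨y, hy⟩
          exact ⟨j, by rw [← hj, ← Subgroup.orderOf_coe]⟩) g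
        rw [hc, mul_inv_cancel_right]
        exact hy⟩
  have hinQ : ∀ u : E, (∃ j, orderOf u = 2 ^ j) → u ∈ (Q : Subgroup E) := by
    rintro u ⟨j, hj⟩
    obtain ⟨W, hW⟩ := (IsPGroup.of_card (p := 2) (n := j) (by rw [Nat.card_zpowers, hj]) :
      IsPGroup 2 (Subgroup.zpowers u)).exists_le_sylow
    obtain ⟨c, hc⟩ := MulAction.exists_smul_eq E Q W
    have hh := hW (Subgroup.mem_zpowers u)
    rwa [← hc, Sylow.smul_eq_of_normal] at hh
  have hcomm : ∀ u v : E, (∃ j, orderOf u = 2 ^ j) → ¬ 2 ∣ orderOf v → u * v = v * u := by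
    intro u v hu hv
    rcases hcases with h | h
    · exact h v hv u
    · exact (h u hu v).symm
  obtain ⟨L, hL⟩ := Subgroup.exists_right_complement'_of_coprime (N := (Q : Subgroup E))
    Q.card_coprime_index
  have hLidx : L.index = Nat.card (Q : Subgroup E) := hL.index_eq_card
  have hLodd : ∀ l ∈ L, ¬ 2 ∣ orderOf l := fun l hl hd => Q.not_dvd_index (by
    rw [hL.symm.index_eq_card]
    exact hd.trans (Subgroup.orderOf_dvd_natCard L hl))
  have hLn : L.Normal := by
    refine ⟨fun l hl g => ?_⟩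
    obtain ⟨⟨⟨q', hq'⟩, ⟨l', hl'⟩⟩, rfl⟩ := hL.2 g
    obtain ⟨j, hj⟩ := (IsPGroup.iff_orderOf.1 Q.2) ⟨q', hq'⟩
    have hm : l' * l * l'⁻¹ ∈ L := mul_mem (mul_mem hl' hl) (inv_mem hl')
    have hc := hcomm q' _ ⟨j, by rw [← hj, ← Subgroup.orderOf_coe]⟩ (hLodd _ hm)
    show q' * l' * l * (q' * l')⁻¹ ∈ L
    rw [show q' * l' * l * (q' * l')⁻¹ = q' * (l' * l * l'⁻¹) * q'⁻¹ by group, hc,
      mul_inv_cancel_right]
    exact hm
  have hinL : ∀ v : E, ¬ 2 ∣ orderOf v → v ∈ L := fun v hv => by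
    obtain ⟨j, hj⟩ := IsPGroup.iff_card.1 Q.2
    exact BlockThms.mem_of_regular Nat.prime_two ⟨j, by rw [hLidx, hj]⟩ hv
  set a₂ := pPartOf 2 a
  set b₂ := pPartOf 2 b
  set a' := pPrimePartOf 2 a
  set b' := pPrimePartOf 2 b
  have hab : a * b = a₂ * b₂ * (a' * b') := by
    have h := hcomm b₂ a' (orderOf_pPartOf Nat.prime_two b)
      (not_dvd_orderOf_pPrimePartOf Nat.prime_two a)
    conv_lhs => rw [← pPartOf_mul_pPrimePartOf Nat.prime_two a,
      ← pPartOf_mul_pPrimePartOf Nat.prime_two b]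
    show a₂ * a' * (b₂ * b') = _
    rw [mul_assoc a₂, ← mul_assoc a' b₂, ← h]
    group
  have h1 : ∃ j, orderOf (a₂ * b₂) = 2 ^ j := by
    obtain ⟨j, hj⟩ := (IsPGroup.iff_orderOf.1 Q.2) ⟨_, mul_mem
      (hinQ a₂ (orderOf_pPartOf Nat.prime_two a)) (hinQ b₂ (orderOf_pPartOf Nat.prime_two b))⟩
    exact ⟨j, by rw [← hj, ← Subgroup.orderOf_coe]⟩
  have h2 : ¬ 2 ∣ orderOf (a' * b') := hLodd _ (mul_mem
    (hinL _ (not_dvd_orderOf_pPrimePartOf Nat.prime_two a))
    (hinL _ (not_dvd_orderOf_pPrimePartOf Nat.prime_two b)))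
  have hc : Commute (a₂ * b₂) (a' * b') := hcomm _ _ h1 h2
  conv_lhs => rw [hab]
  exact (parts_mul Nat.prime_two hc h1 h2).1

/-- The lifts of the `theta`s are generalized characters. -/
theorem Setup.isGeneralized_lift (l : (P : Subgroup G) →* ℂˣ) :
    Cfsg.IsGeneralizedCharacter G (lift P (hS.theta l)) := by
  classical
  have : Fact (Nat.Prime 2) := ⟨Nat.prime_two⟩
  refine Char.isGeneralized_of_elementary (hS.lift_class (hS.adm_theta l)) fun E q hq hE => ?_
  have : Fintype E := Fintype.ofFinite E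
  have hco : ∀ a : E, pPartOf 2 (a : G) = ((pPartOf 2 a : E) : G) := fun a => by
    have h := parts_mul Nat.prime_two
      (show Commute ((pPartOf 2 a : E) : G) ((pPrimePartOf 2 a : E) : G) from
        congrArg Subtype.val (commute_pPartOf_pPrimePartOf a).eq)
      (by simpa only [Subgroup.orderOf_coe] using orderOf_pPartOf Nat.prime_two a)
      (by simpa only [Subgroup.orderOf_coe] using not_dvd_orderOf_pPrimePartOf Nat.prime_two a)
    rw [← Subgroup.coe_mul, pPartOf_mul_pPrimePartOf Nat.prime_two] at h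
    exact h.1
  obtain ⟨Q⟩ : Nonempty (Sylow 2 E) := inferInstance
  let π : E →* G := MonoidHom.mk' (fun a => ((pPartOf 2 a : E) : G)) fun a b => by
    rw [pPartOf_mul_elementary hq hE]; rfl
  have hπ : IsPGroup 2 π.range := by
    rw [IsPGroup.iff_orderOf]
    rintro ⟨_, a, rfl⟩
    obtain ⟨j, hj⟩ := orderOf_pPartOf Nat.prime_two a
    exact ⟨j, by rw [← Subgroup.orderOf_coe, ← hj, ← Subgroup.orderOf_coe]; rfl⟩
  obtain ⟨W, hW⟩ := hπ.exists_le_sylow
  obtain ⟨c, hc⟩ := MulAction.exists_smul_eq G W P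
  let ι : E →* (P : Subgroup G) := ((MulAut.conj c).toMonoidHom.comp π).codRestrict _ fun a =>
    hc ▸ ⟨π a, hW ⟨a, rfl⟩, rfl⟩
  have hval : (fun a : E => lift P (hS.theta l) (a : G)) = fun a => hS.theta l (ι a) := by
    funext a
    refine hS.lift_apply (hS.adm_theta l) (ι a).2 (isConj_iff.2 ⟨c, ?_⟩)
    rw [hco]
    rfl
  rw [hval]
  simp only [hS.theta_mem]
  have hg : ∀ f : E →* ℂˣ, Cfsg.IsGeneralizedCharacter E fun a => (f a : ℂ) := fun f =>
    Char.isGeneralized_of_isCharacter (Char.isCharacter_hom f)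
  have h3 : Cfsg.IsGeneralizedCharacter E fun _ => (3 : ℂ) := by
    have := Char.isGeneralized_intCast_smul 3
      (Char.isGeneralized_of_isCharacter (Char.isCharacter_one (G := E)))
    convert this using 1
    funext a
    simp
  exact Char.isGeneralized_sub h3 (Char.isGeneralized_add (Char.isGeneralized_add (hg (l.comp ι))
    (hg ((l.comp hS.act.toMonoidHom).comp ι)))
    (hg (((l.comp hS.act.toMonoidHom).comp hS.act.toMonoidHom).comp ι)))

open scoped Classical in
theorem Setup.sum_hom_conj (l k : (P : Subgroup G) →* ℂˣ) :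
    ∑ x, (l x : ℂ) * conj (k x : ℂ) =
      if l = k then (Nat.card (P : Subgroup G) : ℂ) else 0 := by
  have hconj : ∀ x, conj (k x : ℂ) = ((k x)⁻¹ : ℂˣ) := fun x => by
    have hc := Char.IsChar.inv_eq_conj (Char.isCharacter_hom k) x
    simp only [map_inv] at hc
    exact hc.symm
  simp only [hconj, ← Units.val_mul]
  split_ifs with h
  · subst h
    simp [Nat.card_eq_fintype_card]
  · refine (Invol.sum_hom_coe (l * k⁻¹) fun e => h ?_)
    exact mul_inv_eq_one.1 e

/-- The orbit of a linear character. -/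
noncomputable def Setup.orb (l : (P : Subgroup G) →* ℂˣ) : Fin 3 → ((P : Subgroup G) →* ℂˣ) :=
  ![l, l.comp hS.act.toMonoidHom, (l.comp hS.act.toMonoidHom).comp hS.act.toMonoidHom]

omit [Fintype G] in
theorem Setup.theta_orb (l : (P : Subgroup G) →* ℂˣ) (i : Fin 3) :
    hS.theta (hS.orb l i) = hS.theta l := by
  funext g
  unfold Setup.theta
  split_ifs with h
  · fin_cases i <;> simp [Setup.orb, hS.act_three] <;> ring
  · rfl

omit [Fintype G] in
theorem Setup.orb_orb (l k : (P : Subgroup G) →* ℂˣ) (i j : Fin 3)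
    (h : hS.orb l i = hS.orb k j) : ∃ r, hS.orb l r = k := by
  have hs : ∀ (a : (P : Subgroup G) →* ℂˣ) (i : Fin 3),
      (hS.orb a i).comp hS.act.toMonoidHom = hS.orb a (i + 1) := by
    intro a i
    ext x
    fin_cases i <;> simp [Setup.orb, hS.act_three]
  have h1 : hS.orb l (i + 1) = hS.orb k (j + 1) := by rw [← hs, h, hs]
  have h2 : hS.orb l (i + 1 + 1) = hS.orb k (j + 1 + 1) := by rw [← hs, h1, hs]
  fin_cases j
  · exact ⟨_, h⟩
  · exact ⟨_, h2⟩
  · exact ⟨_, h1⟩

omit [Fintype G] in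
theorem Setup.orb_inj [Finite G] {l : (P : Subgroup G) →* ℂˣ} (hl : l ≠ 1) :
    Function.Injective (hS.orb l) := by
  have hfix : l.comp hS.act.toMonoidHom ≠ l := by
    intro h
    apply hl
    let δ : ↥(P : Subgroup G) → ↥(P : Subgroup G) := fun x => x⁻¹ * hS.act x
    have hcomm : ∀ a b : (P : Subgroup G), a * b = b * a := fun a b =>
      Subtype.ext (hS.comm _ a.2 _ b.2)
    have hinj : Function.Injective δ := by
      intro a b hab
      have h1 : hS.act (a * b⁻¹) = a * b⁻¹ := by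
        rw [map_mul, map_inv, show hS.act a = a * (δ a) by simp [δ],
          show hS.act b = b * (δ b) by simp [δ], hab, mul_inv_rev, ← mul_assoc,
          mul_inv_cancel_right]
      have h2 := hS.fpf _ (a * b⁻¹).2 (congrArg Subtype.val h1)
      exact mul_inv_eq_one.1 (Subtype.ext h2)
    refine MonoidHom.ext fun y => ?_
    obtain ⟨x, rfl⟩ := (Finite.injective_iff_surjective.1 hinj) y
    have h' := DFunLike.congr_fun h x
    simp only [MonoidHom.comp_apply, MulEquiv.coe_toMonoidHom] at h'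
    simp [δ, h']
  have h3 : ((l.comp hS.act.toMonoidHom).comp hS.act.toMonoidHom).comp hS.act.toMonoidHom = l :=
    MonoidHom.ext fun x => by simp [hS.act_three]
  have hfix2 : (l.comp hS.act.toMonoidHom).comp hS.act.toMonoidHom ≠ l := fun h =>
    hfix (by conv_rhs => rw [← h3, h])
  have hfix12 : (l.comp hS.act.toMonoidHom).comp hS.act.toMonoidHom ≠
      l.comp hS.act.toMonoidHom := fun h => hfix2 (by
    conv_rhs => rw [← h3, h])
  intro i j h
  fin_cases i <;> fin_cases j <;> simp [Setup.orb] at h <;>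
    first
    | rfl
    | exact absurd h hfix
    | exact absurd h.symm hfix
    | exact absurd h hfix2
    | exact absurd h.symm hfix2
    | exact absurd h hfix12
    | exact absurd h.symm hfix12

omit [Fintype G] in
theorem Setup.orb_ne_one {l : (P : Subgroup G) →* ℂˣ} (hl : l ≠ 1) (i : Fin 3) :
    hS.orb l i ≠ 1 := by
  intro h
  refine hl (MonoidHom.ext fun x => ?_)
  fin_cases i <;> simp [Setup.orb] at h
  · rw [h]
  · obtain ⟨y, rfl⟩ := hS.act.surjective x
    exact DFunLike.congr_fun h y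
  · obtain ⟨y, rfl⟩ := hS.act.surjective x
    obtain ⟨z, rfl⟩ := hS.act.surjective y
    exact DFunLike.congr_fun h z

open scoped Classical in
theorem Setup.sum_hom_orb {l : (P : Subgroup G) →* ℂˣ} (hl : l ≠ 1) (i : Fin 3) :
    ∑ x, (hS.orb l i x : ℂ) = 0 :=
  Invol.sum_hom_coe _ (hS.orb_ne_one hl i)

theorem Setup.theta_eq_sum (l : (P : Subgroup G) →* ℂˣ) (x : (P : Subgroup G)) :
    hS.theta l x = 3 - ∑ i, (hS.orb l i x : ℂ) := by
  rw [hS.theta_mem, Fin.sum_univ_three]
  simp [Setup.orb]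

/-- The inner products of the lifts. -/
theorem Setup.inner_theta {l k : (P : Subgroup G) →* ℂˣ} (hl : l ≠ 1) (hk : k ≠ 1) :
    (Cfsg.classInner (lift P (hS.theta l)) (lift P (hS.theta l)) = 4) ∧
    ((∀ i, hS.orb l i ≠ k) →
      Cfsg.classInner (lift P (hS.theta l)) (lift P (hS.theta k)) = 3) ∧
    Cfsg.classInner (lift P (hS.theta l)) (fun _ => (1 : ℂ)) = 1 := by
  classical
  have hP : (Nat.card (P : Subgroup G) : ℂ) ≠ 0 := Nat.cast_ne_zero.2 Nat.card_pos.ne'
  have h3P : 3 * (Nat.card (P : Subgroup G) : ℂ) ≠ 0 := mul_ne_zero three_ne_zero hP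
  have hmain : ∀ k : (P : Subgroup G) →* ℂˣ, k ≠ 1 →
      ∑ x : (P : Subgroup G), hS.theta l x * conj (hS.theta k x) =
        (Nat.card (P : Subgroup G) : ℂ) *
          (9 + ∑ i, ∑ j, if hS.orb l i = hS.orb k j then 1 else 0) := by
    intro k hk
    simp only [hS.theta_eq_sum, map_sub, map_ofNat, map_sum, sub_mul, mul_sub, Finset.mul_sum,
      Finset.sum_mul, Finset.sum_sub_distrib]
    have e1 : ∑ x : (P : Subgroup G), ∑ j, 3 * conj (hS.orb k j x : ℂ) = 0 := by
      rw [Finset.sum_comm]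
      refine Finset.sum_eq_zero fun j _ => ?_
      rw [← Finset.mul_sum, ← map_sum, hS.sum_hom_orb hk, map_zero, mul_zero]
    have e2 : ∑ x : (P : Subgroup G), ∑ i, (hS.orb l i x : ℂ) * 3 = 0 := by
      rw [Finset.sum_comm]
      refine Finset.sum_eq_zero fun i _ => ?_
      rw [← Finset.sum_mul, hS.sum_hom_orb hl, zero_mul]
    have e3 : ∑ x : (P : Subgroup G), ∑ j, ∑ i, (hS.orb l i x : ℂ) * conj (hS.orb k j x : ℂ) =
        (Nat.card (P : Subgroup G) : ℂ) *
          ∑ i, ∑ j, (if hS.orb l i = hS.orb k j then 1 else 0) := by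
      rw [Finset.sum_comm, Finset.sum_congr rfl fun j _ => Finset.sum_comm, Finset.sum_comm]
      simp only [hS.sum_hom_conj, Finset.mul_sum, mul_ite, mul_one, mul_zero]
    rw [e1, e2, e3, mul_add, Finset.sum_const, Finset.card_univ, nsmul_eq_mul,
      ← Nat.card_eq_fintype_card]
    ring
  refine ⟨?_, fun hne => ?_, ?_⟩
  · apply mul_left_cancel₀ h3P
    rw [hS.classInner_lift_lift (hS.adm_theta l) (hS.adm_theta l), hmain l hl,
      Finset.sum_congr rfl fun i _ => Finset.sum_congr rfl fun j _ =>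
        if_congr (hS.orb_inj hl).eq_iff rfl rfl]
    simp [Finset.sum_ite_eq]
    ring
  · apply mul_left_cancel₀ h3P
    rw [hS.classInner_lift_lift (hS.adm_theta l) (hS.adm_theta k), hmain k hk,
      Finset.sum_eq_zero fun i _ => Finset.sum_eq_zero fun j _ => if_neg fun h => ?_]
    · ring
    · obtain ⟨r, hr⟩ := hS.orb_orb l k i j h
      exact hne r hr
  · apply mul_left_cancel₀ h3P
    rw [hS.classInner_lift (hS.adm_theta l) (fun _ _ => rfl)]
    have hav : ∀ x : (P : Subgroup G), avg (fun _ => (1 : ℂ)) (x : G) = 1 := fun x => by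
      have hne : ((fiber (x : G)).card : ℂ) ≠ 0 := Nat.cast_ne_zero.2 (Finset.card_ne_zero.2
        ⟨(x : G), mem_fiber.2 (pPartOf_self (exists_orderOf_pow x.2))⟩)
      simp [avg, inv_mul_cancel₀ hne]
    simp only [hav, map_one, mul_one, hS.theta_eq_sum, Finset.sum_sub_distrib]
    rw [Finset.sum_comm, Finset.sum_eq_zero fun i _ => hS.sum_hom_orb hl i, Finset.sum_const,
      Finset.card_univ, nsmul_eq_mul, ← Nat.card_eq_fintype_card]
    ring

variable {M : Ideal Cfsg.AlgInt}

/-- Outside the principal block the averages vanish. -/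
theorem Setup.avg_eq_zero (hM : Cfsg.IsPModular 2 M) {x : G} (hx : x ∈ (P : Subgroup G))
    (hx1 : x ≠ 1) {χ : Cfsg.IrrCharacter G} (hχ : χ ∉ Cfsg.principalBlock M G) :
    avg (χ : G → ℂ) x = 0 := by
  classical
  have : Fact (Nat.Prime 2) := ⟨Nat.prime_two⟩
  set D := Subgroup.centralizer ({x} : Set G) with hD
  have : Fintype D := Fintype.ofFinite _
  obtain ⟨k, hk⟩ := exists_orderOf_pow hx
  have hP' : IsPGroup 2 (Subgroup.zpowers x) :=
    IsPGroup.of_card (n := k) (by rw [Nat.card_zpowers, hk])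
  have hH' : ∀ c : G, c ∈ D ↔ ∀ u ∈ Subgroup.zpowers x, u * c = c * u := by
    intro c
    rw [hD, Blocks.mem_centralizer_iff_comm]
    exact ⟨fun h u ⟨i, hi⟩ => hi ▸ ((show Commute x c from h).zpow_left i).eq,
      fun h => h x (Subgroup.mem_zpowers x)⟩
  have hB : Cfsg.IsPBlock M (Cfsg.principalBlock M G) := isPBlock_principalBlock M
  have hind : Cfsg.IsInducedBlock M D (Cfsg.principalBlock M D) (Cfsg.principalBlock M G) := by
    refine (mem_inducing_iff hM hP' hH' hB (isPBlock_principalBlock M)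
      (triv_mem_principalBlock hM)).1 ?_
    rw [inducing_principalBlock hM hP' hH']
    exact triv_mem_principalBlock hM
  set xD : D := ⟨x, Subgroup.mem_centralizer_singleton_iff.2 rfl⟩
  have hpart : pPartOf 2 xD = xD := pPartOf_self ⟨k, by rw [← Subgroup.orderOf_coe]; exact hk⟩
  have h := BlockThms.sum_blockCoeff_mul_char_eq_zero hM hind xD
    (by rw [hpart]) hχ
  obtain ⟨⟨j, hj⟩, -⟩ := QuaternionBlock.card_regular_mul (hS.compl x hx hx1)
  set K := Cfsg.pPrimeCore 2 D with hK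
  have hKodd : ¬ 2 ∣ Nat.card K := Core.not_dvd_card_pPrimeCore
  have hKmem : ∀ y : D, y ∈ K ↔ ¬ 2 ∣ orderOf y := fun y =>
    ⟨fun hy hd => hKodd (hd.trans (Subgroup.orderOf_dvd_natCard K hy)),
      fun hy => BlockThms.mem_of_regular Nat.prime_two ⟨j, hj⟩ hy⟩
  simp only [blockCoeff_principalBlock_of_complement hM K hKodd ⟨j, hj⟩, ite_mul, zero_mul] at h
  rw [← Finset.sum_filter, ← Finset.mul_sum, mul_eq_zero] at h
  have h' := h.resolve_left (inv_ne_zero (Nat.cast_ne_zero.2 Nat.card_pos.ne'))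
  rw [avg, hS.sum_fiber_eq hx]
  refine mul_eq_zero_of_right _ (Eq.trans (Finset.sum_congr ?_ fun y _ => ?_) h')
  · ext y
    simp [hKmem]
  · exact congrArg (χ : G → ℂ) (Subgroup.mem_centralizer_singleton_iff.1 y.2).symm

/-- In the principal block the values on `P ∖ 1` are the averages. -/
theorem Setup.apply_eq_avg (hM : Cfsg.IsPModular 2 M) {x : G} (hx : x ∈ (P : Subgroup G))
    (hx1 : x ≠ 1) {χ : Cfsg.IrrCharacter G} (hχ : χ ∈ Cfsg.principalBlock M G) :
    (χ : G → ℂ) x = avg (χ : G → ℂ) x := by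
  classical
  set x₁ : G := n * x * n⁻¹ with hx₁
  set x₂ : G := n * x₁ * n⁻¹ with hx₂
  have h1m : x₁ ∈ (P : Subgroup G) := hS.norm x hx
  have h2m : x₂ ∈ (P : Subgroup G) := hS.norm _ h1m
  have hne1 : x₁ ≠ x := fun h => hx1 (hS.fpf x hx h)
  have hne2 : x₂ ≠ x := fun h => hx1 (hS.fpf2 hx h)
  have hne12 : x₂ ≠ x₁ := fun h => hne1 (mul_left_cancel (mul_right_cancel h))
  set φ : G → ℂ := fun g => if g = x ∨ g = x₁ ∨ g = x₂ then 1 else 0 with hφdef
  have hcyc : ∀ g ∈ (P : Subgroup G), (n * g * n⁻¹ = x₁ ↔ g = x) ∧ (n * g * n⁻¹ = x₂ ↔ g = x₁) ∧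
      (n * g * n⁻¹ = x ↔ g = x₂) := by
    intro g _
    refine ⟨by rw [hx₁, mul_left_inj, mul_right_inj], by rw [hx₂, mul_left_inj, mul_right_inj],
      ?_⟩
    conv_lhs => rw [← hS.cube x hx, mul_left_inj, mul_right_inj]
  have hφ : Adm P n φ := by
    refine ⟨?_, fun g hg => ?_⟩
    · simp only [hφdef]
      rw [if_neg]
      rintro (h | h | h)
      · exact hx1 h.symm
      · exact hx1 (conj_eq_one_iff.1 h.symm)
      · exact hx1 (conj_eq_one_iff.1 (conj_eq_one_iff.1 h.symm))
    · obtain ⟨h1, h2, h3⟩ := hcyc g hg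
      simp only [hφdef, h1, h2, h3]
      exact if_congr ⟨fun h => by tauto, fun h => by tauto⟩ rfl rfl
  have hsum : ∀ f : ↥(P : Subgroup G) → ℂ, ∑ y : (P : Subgroup G), φ y * f y =
      f ⟨x, hx⟩ + f ⟨x₁, h1m⟩ + f ⟨x₂, h2m⟩ := by
    intro f
    simp only [hφdef, ite_mul, one_mul, zero_mul]
    rw [← Finset.sum_filter, show (Finset.univ.filter fun y : (P : Subgroup G) =>
        (y : G) = x ∨ (y : G) = x₁ ∨ (y : G) = x₂) =
        {⟨x, hx⟩, ⟨x₁, h1m⟩, ⟨x₂, h2m⟩} by ext y; simp [Subtype.ext_iff]]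
    rw [Finset.sum_insert (by simp [hne1.symm, hne2.symm]), Finset.sum_pair
      (by simp [hne12.symm]), add_assoc]
  have hP : (Nat.card (P : Subgroup G) : ℂ) ≠ 0 := Nat.cast_ne_zero.2 Nat.card_pos.ne'
  set q := (Nat.card (P : Subgroup G) : ℂ) with hq
  have hcoef : ∀ ψ : Cfsg.IrrCharacter G,
      q * Cfsg.classInner (lift P φ) (ψ : G → ℂ) = conj (avg (ψ : G → ℂ) x) := by
    intro ψ
    have h := hS.classInner_lift hφ (Char.isClassFunction_of_isIrr ψ.2)
    have hc := Char.isClassFunction_of_isIrr ψ.2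
    rw [hsum (fun y => conj (avg (ψ : G → ℂ) (y : G)))] at h
    simp only [hx₂, hx₁, avg_conj hc] at h
    linear_combination h / 3
  have hnorm : q * Cfsg.classInner (lift P φ) (lift P φ) = 1 := by
    have h := hS.classInner_lift_lift hφ hφ
    rw [hsum (fun y => conj (φ y))] at h
    have e : ∀ y, (y = x ∨ y = x₁ ∨ y = x₂) → φ y = 1 := fun y hy => by simp [hφdef, hy]
    simp only [e x (Or.inl rfl), e x₁ (Or.inr (Or.inl rfl)), e x₂ (Or.inr (Or.inr rfl)),
      map_one] at h
    linear_combination h / 3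
  have hval : lift P φ x = 1 := by
    rw [hS.lift_mem hφ hx (mem_fiber.2 (pPartOf_self (exists_orderOf_pow hx)))]
    simp [hφdef]
  set S := (Set.toFinite (Cfsg.principalBlock M G)).toFinset with hSdef
  have hout : ∀ ψ, ψ ∉ S → avg (ψ : G → ℂ) x = 0 := fun ψ hψ =>
    hS.avg_eq_zero hM hx hx1 fun h => hψ ((Set.toFinite _).mem_toFinset.2 h)
  have hA : ∑ ψ ∈ S, conj (avg (ψ : G → ℂ) x) * (ψ : G → ℂ) x = q := by
    rw [Finset.sum_subset (Finset.subset_univ S) fun ψ _ hψ => by rw [hout ψ hψ, map_zero,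
      zero_mul]]
    simp only [← hcoef, mul_assoc, ← Finset.mul_sum, Invol.apply_eq_sum (hS.lift_class hφ), hval,
      mul_one]
  have hB : ∑ ψ ∈ S, conj (avg (ψ : G → ℂ) x) * avg (ψ : G → ℂ) x = q := by
    rw [Finset.sum_subset (Finset.subset_univ S) fun ψ _ hψ => by rw [hout ψ hψ, map_zero,
      zero_mul]]
    have h := Char.classInner_eq_sum (f' := lift P φ) (hS.lift_class hφ)
    have e : ∀ ψ : Cfsg.IrrCharacter G, conj (avg (ψ : G → ℂ) x) * avg (ψ : G → ℂ) x =
        q * (q * (Cfsg.classInner (lift P φ) (ψ : G → ℂ) *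
          Cfsg.classInner (ψ : G → ℂ) (lift P φ))) := fun ψ => by
      have e2 : avg (ψ : G → ℂ) x = q * Cfsg.classInner (ψ : G → ℂ) (lift P φ) := by
        have h0 := congrArg conj (hcoef ψ)
        rw [map_mul, Char.classInner_conj_symm, Complex.conj_conj, hq, Complex.conj_natCast] at h0
        exact h0.symm
      conv_lhs => rw [← hcoef ψ, e2]
      ring
    rw [Finset.sum_congr rfl fun ψ _ => e ψ, ← Finset.mul_sum, ← Finset.mul_sum, ← h, hnorm,
      mul_one]
  have hC : ∑ ψ ∈ S, (ψ : G → ℂ) x * conj ((ψ : G → ℂ) x) = q := by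
    have hp : pPartOf 2 x = x := pPartOf_self (exists_orderOf_pow hx)
    have h := QuaternionBlock.sum_norm_section hM (g := x) (fun hd => hx1 (by
      rw [← hp]; exact (pPartOf_eq_one_iff Nat.prime_two x).2 hd)) (by
        rw [hp]; exact hS.compl x hx hx1)
    rw [hp, hS.factorization_centralizer hx] at h
    exact h
  have hA' : ∑ ψ ∈ S, avg (ψ : G → ℂ) x * conj ((ψ : G → ℂ) x) = q := by
    have := congrArg conj hA
    rw [map_sum, hq, Complex.conj_natCast] at this
    rw [hq, ← this]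
    exact Finset.sum_congr rfl fun ψ _ => by rw [map_mul, Complex.conj_conj]
  have hzero : ∑ ψ ∈ S, ((Complex.normSq ((ψ : G → ℂ) x - avg (ψ : G → ℂ) x) : ℝ) : ℂ) = 0 := by
    have e : ∀ ψ : Cfsg.IrrCharacter G,
        ((Complex.normSq ((ψ : G → ℂ) x - avg (ψ : G → ℂ) x) : ℝ) : ℂ) =
          (ψ : G → ℂ) x * conj ((ψ : G → ℂ) x) - avg (ψ : G → ℂ) x * conj ((ψ : G → ℂ) x) -
            conj (avg (ψ : G → ℂ) x) * (ψ : G → ℂ) x +
            conj (avg (ψ : G → ℂ) x) * avg (ψ : G → ℂ) x := fun ψ => by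
      rw [← Complex.mul_conj, map_sub]
      ring
    rw [Finset.sum_congr rfl fun ψ _ => e ψ, Finset.sum_add_distrib, Finset.sum_sub_distrib,
      Finset.sum_sub_distrib, hC, hA', hA, hB]
    ring
  rw [← Complex.ofReal_sum, Complex.ofReal_eq_zero] at hzero
  exact sub_eq_zero.1 (Complex.normSq_eq_zero.1
    ((Finset.sum_eq_zero_iff_of_nonneg fun ψ _ => Complex.normSq_nonneg _).1 hzero χ
      ((Set.toFinite _).mem_toFinset.2 hχ)))

end Cfsg.Agent.BlockThms.HomocyclicBlock
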