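import Mathlib
import Cfsg.Agent.BlockThms.HomocyclicBlock
import Cfsg.Agent.Blocks.Modular
import Cfsg.Agent.Core.PCore

/-!
# Brauer's theorem on homocyclic Sylow 2-subgroups: the conclusion
-/

set_option autoImplicit false

namespace Cfsg.Agent.BlockThms.HomocyclicBlock

open scoped ComplexConjugate
open Cfsg.Agent Cfsg.Agent.Blocks

universe u

variable {G : Type u} [Group G] [Fintype G]

/-- A class function vanishing on products of two conjugates of `t` is orthogonal to
`χ ↦ χ(t)² / χ(1)`. -/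
theorem sum_mult_sq {F : G → ℂ} (hF : Cfsg.IsClassFunction G F) {t : G}
    (h0 : ∀ a, F (a * t * a⁻¹ * t) = 0) :
    ∑ χ : Cfsg.IrrCharacter G,
      Cfsg.classInner F (χ : G → ℂ) * ((χ : G → ℂ) t ^ 2 / (χ : G → ℂ) 1) = 0 := by
  have hG : (Nat.card G : ℂ) ≠ 0 := Char.card_ne_zero
  have e : ∀ χ : Cfsg.IrrCharacter G, (χ : G → ℂ) t ^ 2 / (χ : G → ℂ) 1 =
      (Nat.card G : ℂ)⁻¹ * ∑ a, (χ : G → ℂ) (a * t * a⁻¹ * t) := by
    intro χ
    have h := CharArith.classMult χ.2 t t
    have h1 := Char.IsIrr.one_ne_zero χ.2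
    field_simp
    linear_combination -h
  simp only [e, Finset.mul_sum]
  rw [Finset.sum_comm]
  refine Finset.sum_eq_zero fun a _ => ?_
  simp only [← mul_assoc, mul_comm _ (Nat.card G : ℂ)⁻¹]
  simp only [mul_assoc _ (Cfsg.classInner F _), ← Finset.mul_sum]
  rw [Invol.apply_eq_sum hF, h0, mul_zero]

variable {P : Sylow 2 G} {n : G}

open scoped Classical in
/-- The second orthogonality relation for the abelian group `P`. -/
theorem Setup.sum_dual (hS : Setup P n)
    [Fintype ((P : Subgroup G) →* ℂˣ)] (y : (P : Subgroup G)) :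
    ∑ l : (P : Subgroup G) →* ℂˣ, (l y : ℂ) =
      if y = 1 then (Nat.card (P : Subgroup G) : ℂ) else 0 := by
  let : CommGroup (P : Subgroup G) :=
    { (inferInstance : Group (P : Subgroup G)) with
      mul_comm := fun a b => Subtype.ext (hS.comm _ a.2 _ b.2) }
  split_ifs with h
  · subst h
    simp only [map_one, Units.val_one, Finset.sum_const, Finset.card_univ, nsmul_eq_mul, mul_one,
      ← Nat.card_eq_fintype_card, CommGroup.card_monoidHom_of_hasEnoughRootsOfUnity]
  · obtain ⟨φ, hφ⟩ :=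
      CommGroup.exists_apply_ne_one_of_hasEnoughRootsOfUnity (P : Subgroup G) ℂ h
    have key : (φ y : ℂ) * ∑ l : (P : Subgroup G) →* ℂˣ, (l y : ℂ) =
        ∑ l : (P : Subgroup G) →* ℂˣ, (l y : ℂ) := by
      rw [Finset.mul_sum]
      exact Fintype.sum_equiv (Equiv.mulLeft φ) _ _ fun l => by simp
    rcases eq_or_ne (∑ l : (P : Subgroup G) →* ℂˣ, (l y : ℂ)) 0 with h0 | h0
    · exact h0
    · exact absurd (Units.ext ((mul_eq_right₀ h0).1 key)) hφ

theorem Setup.card_dual (hS : Setup P n) :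
    Nat.card ((P : Subgroup G) →* ℂˣ) = Nat.card (P : Subgroup G) := by
  let : CommGroup (P : Subgroup G) :=
    { (inferInstance : Group (P : Subgroup G)) with
      mul_comm := fun a b => Subtype.ext (hS.comm _ a.2 _ b.2) }
  exact CommGroup.card_monoidHom_of_hasEnoughRootsOfUnity (P : Subgroup G) ℂ

/-- A linear character trivial on all involutions. -/
theorem Setup.exists_lambda (hS : Setup P n) {m : ℕ} (hm : 2 ≤ m)
    (e : (P : Subgroup G) ≃* Multiplicative (ZMod (2 ^ m) × ZMod (2 ^ m))) :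
    ∃ l : (P : Subgroup G) →* ℂˣ, l ≠ 1 ∧ ∀ t, t * t = 1 → l t = 1 := by
  let : CommGroup (P : Subgroup G) :=
    { (inferInstance : Group (P : Subgroup G)) with
      mul_comm := fun a b => Subtype.ext (hS.comm _ a.2 _ b.2) }
  set x := e.symm (Multiplicative.ofAdd ((1 : ZMod (2 ^ m)), (0 : ZMod (2 ^ m)))) with hx
  have hxx : x * x ≠ 1 := by
    intro h
    have h1 := congrArg e h
    rw [hx, map_mul, e.apply_symm_apply, map_one, ← ofAdd_add, ofAdd_eq_one] at h1
    have h2 : ((2 : ℕ) : ZMod (2 ^ m)) = 0 := by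
      have := congrArg Prod.fst h1
      simpa [one_add_one_eq_two] using this
    have h3 := Nat.le_of_dvd two_pos ((ZMod.natCast_eq_zero_iff 2 (2 ^ m)).1 h2)
    have h4 : 2 ^ 2 ≤ 2 ^ m := Nat.pow_le_pow_right two_pos hm
    omega
  obtain ⟨μ, hμ⟩ :=
    CommGroup.exists_apply_ne_one_of_hasEnoughRootsOfUnity (P : Subgroup G) ℂ hxx
  refine ⟨μ * μ, fun h => hμ ?_, fun t ht => ?_⟩
  · rw [map_mul]
    exact DFunLike.congr_fun h x
  · rw [MonoidHom.mul_apply, ← map_mul, ht, map_one]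

/-- Two characters common to all the lifts. -/
theorem Setup.exists_two_chars (hS : Setup P n) (h16 : 16 ≤ Nat.card (P : Subgroup G))
    {l₀ : (P : Subgroup G) →* ℂˣ} (hl₀ : l₀ ≠ 1) :
    ∃ (A B X : Cfsg.IrrCharacter G) (εA εB εX : ℤ),
      (εA = 1 ∨ εA = -1) ∧ (εB = 1 ∨ εB = -1) ∧ (εX = 1 ∨ εX = -1) ∧
      (A : G → ℂ) ≠ (fun _ => 1) ∧
      (∀ l : (P : Subgroup G) →* ℂˣ, l ≠ 1 →
        Cfsg.classInner (lift P (hS.theta l)) (A : G → ℂ) = (εA : ℂ) ∧
        Cfsg.classInner (lift P (hS.theta l)) (B : G → ℂ) = (εB : ℂ)) ∧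
      ∀ f : Cfsg.IrrCharacter G → ℂ,
        ∑ χ : Cfsg.IrrCharacter G, Cfsg.classInner (lift P (hS.theta l₀)) (χ : G → ℂ) * f χ =
          f ⟨fun _ => 1, Char.isIrrCharacter_one⟩ + (εA : ℂ) * f A + (εB : ℂ) * f B +
            (εX : ℂ) * f X := by
  classical
  have : Finite ((P : Subgroup G) →* ℂˣ) := Nat.finite_of_card_ne_zero (by
    rw [hS.card_dual]; exact Nat.card_pos.ne')
  have : Fintype ((P : Subgroup G) →* ℂˣ) := Fintype.ofFinite _
  let o : Cfsg.IrrCharacter G := ⟨fun _ => 1, Char.isIrrCharacter_one⟩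
  choose m hm _ hsq using fun l => Char.IsGen.exists_mult (hS.isGeneralized_lift l)
  have hmo : ∀ l, l ≠ 1 → m l o = 1 := fun l hl => by
    have h := hm l o
    rw [show Cfsg.classInner (lift P (hS.theta l)) (o : G → ℂ) = 1 from
      (hS.inner_theta hl hl).2.2] at h
    exact_mod_cast h.symm
  set R := (Finset.univ : Finset (Cfsg.IrrCharacter G)).erase o with hR
  have hsum3 : ∀ l, l ≠ 1 → ∑ χ ∈ R, m l χ ^ 2 = 3 := by
    intro l hl
    have h := hsq l
    rw [(hS.inner_theta hl hl).1] at h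
    have h' : ∑ χ, m l χ ^ 2 = 4 := by exact_mod_cast h.symm
    rw [← Finset.add_sum_erase _ _ (Finset.mem_univ o), hmo l hl] at h'
    rw [hR]
    linarith
  let S : ((P : Subgroup G) →* ℂˣ) → Finset (Cfsg.IrrCharacter G) :=
    fun l => R.filter fun χ => m l χ ≠ 0
  have hpm : ∀ l, l ≠ 1 → ∀ χ ∈ S l, m l χ = 1 ∨ m l χ = -1 := by
    intro l hl χ hχ
    obtain ⟨h1, h2⟩ := Finset.mem_filter.1 hχ
    have h3 : m l χ ^ 2 ≤ 3 :=
      hsum3 l hl ▸ Finset.single_le_sum (fun i _ => sq_nonneg (m l i)) h1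
    have h4 : m l χ ≤ 1 := by nlinarith
    have h5 : -1 ≤ m l χ := by nlinarith
    omega
  have hcardS : ∀ l, l ≠ 1 → (S l).card = 3 := by
    intro l hl
    have h := hsum3 l hl
    rw [← Finset.sum_subset (Finset.filter_subset (fun χ => m l χ ≠ 0) R) (fun χ hχ hn => by
      simp only [Finset.mem_filter, hχ, true_and, not_not] at hn
      simp [hn]), Finset.sum_congr rfl (fun χ hχ => (show m l χ ^ 2 = 1 by
        rcases hpm l hl χ hχ with e | e <;> rw [e] <;> norm_num)), Finset.sum_const,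
      nsmul_eq_mul, mul_one] at h
    exact_mod_cast h
  -- two orbits
  have hinner : ∀ l k, l ≠ 1 → k ≠ 1 → (∀ i, hS.orb l i ≠ k) →
      ∑ χ ∈ S l ∩ S k, m l χ * m k χ = 2 := by
    intro l k hl hk hne
    have h := Char.classInner_eq_sum (f' := lift P (hS.theta k))
      (Char.IsGen.isClassFunction (hS.isGeneralized_lift l))
    rw [(hS.inner_theta hl hk).2.1 hne] at h
    simp only [hm, ← Char.classInner_conj_symm (lift P (hS.theta k)), map_intCast,
      ← Int.cast_mul, ← Int.cast_sum] at h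
    have h' : ∑ χ, m l χ * m k χ = 3 := by exact_mod_cast h.symm
    rw [← Finset.add_sum_erase _ _ (Finset.mem_univ o), hmo l hl, hmo k hk] at h'
    rw [Finset.sum_subset (show S l ∩ S k ⊆ R from
      Finset.inter_subset_left.trans (Finset.filter_subset _ _)) fun χ hχ hn => ?_]
    · rw [hR]; linarith
    · simp only [Finset.mem_inter, S, Finset.mem_filter, hχ, true_and, not_and_or, not_not] at hn
      rcases hn with h | h <;> simp [h]
  have hsame : ∀ l k, l ≠ 1 → k ≠ 1 → S l = S k → ∃ i, hS.orb l i = k := by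
    intro l k hl hk he
    by_contra hne
    push Not at hne
    have h := hinner l k hl hk hne
    rw [← he, Finset.inter_self] at h
    obtain ⟨a, b, c, hab, hac, hbc, habc⟩ := Finset.card_eq_three.1 (hcardS l hl)
    rw [habc, Finset.sum_insert (by simp [hab, hac]), Finset.sum_pair hbc] at h
    have key : ∀ d ∈ S l, m l d * m k d = 1 ∨ m l d * m k d = -1 := fun d hd => by
      rcases hpm l hl d hd with e | e <;> rcases hpm k hk d (he ▸ hd) with e' | e' <;>
        simp [e, e']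
    have ha := key a (by rw [habc]; simp)
    have hb := key b (by rw [habc]; simp)
    have hc := key c (by rw [habc]; simp)
    omega
  have horbm : ∀ l i, ∀ χ, m (hS.orb l i) χ = m l χ := fun l i χ => by
    have h1 := hm (hS.orb l i) χ
    rw [hS.theta_orb, hm l χ] at h1
    exact_mod_cast h1.symm
  have hdiff : ∀ l k, l ≠ 1 → k ≠ 1 → S l ≠ S k →
      (S l ∩ S k).card = 2 ∧ ∀ χ ∈ S l ∩ S k, m l χ = m k χ := by
    intro l k hl hk hne
    have horb : ∀ i, hS.orb l i ≠ k := fun i h => hne (Finset.filter_congr fun χ _ => by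
      rw [← h, horbm])
    have h := hinner l k hl hk horb
    have hle : ∀ χ ∈ S l ∩ S k, m l χ * m k χ ≤ 1 := fun χ hχ => by
      rcases hpm l hl χ (Finset.mem_inter.1 hχ).1 with e | e <;>
        rcases hpm k hk χ (Finset.mem_inter.1 hχ).2 with e' | e' <;> simp [e, e']
    have h2 : (2 : ℤ) ≤ ((S l ∩ S k).card : ℤ) := by
      rw [← h]
      refine (Finset.sum_le_sum hle).trans ?_
      simp
    have h3 : (S l ∩ S k).card < 3 := by
      refine lt_of_le_of_ne ((Finset.card_le_card Finset.inter_subset_left).trans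
        (hcardS l hl).le) fun h3 => hne ?_
      have e1 := Finset.eq_of_subset_of_card_le
        (Finset.inter_subset_left : S l ∩ S k ⊆ S l) (by rw [h3, hcardS l hl])
      have e2 := Finset.eq_of_subset_of_card_le
        (Finset.inter_subset_right : S l ∩ S k ⊆ S k) (by rw [h3, hcardS k hk])
      exact e1.symm.trans e2
    have hc : (S l ∩ S k).card = 2 := by omega
    refine ⟨hc, fun χ hχ => ?_⟩
    have heq := (Finset.sum_eq_sum_iff_of_le hle).1 (by
      rw [h, Finset.sum_const, hc]; norm_num) χ hχ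
    rcases hpm l hl χ (Finset.mem_inter.1 hχ).1 with e | e <;>
      rcases hpm k hk χ (Finset.mem_inter.1 hχ).2 with e' | e' <;> simp [e, e'] at heq ⊢
  set L := (Finset.univ : Finset ((P : Subgroup G) →* ℂˣ)).erase 1 with hL
  have hmemL : ∀ l, l ∈ L ↔ l ≠ 1 := fun l => by simp [hL]
  have h5 : 4 < (L.image S).card := by
    have hle := Finset.card_le_mul_card_image (f := S) L 3 fun b hb => by
      obtain ⟨l, hl, rfl⟩ := Finset.mem_image.1 hb
      refine (Finset.card_le_card (t := Finset.univ.image (hS.orb l)) fun k hk => ?_).trans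
        (Finset.card_image_le.trans (by simp))
      obtain ⟨hk1, hk2⟩ := Finset.mem_filter.1 hk
      obtain ⟨i, hi⟩ := hsame l k ((hmemL l).1 hl) ((hmemL k).1 hk1) hk2.symm
      exact Finset.mem_image.2 ⟨i, Finset.mem_univ _, hi⟩
    have hc : L.card = Nat.card (P : Subgroup G) - 1 := by
      rw [hL, Finset.card_erase_of_mem (Finset.mem_univ _), Finset.card_univ,
        ← Nat.card_eq_fintype_card, hS.card_dual]
    omega
  obtain ⟨A, B, hAB, hall⟩ := sunflower (L.image S)
    (fun s hs => by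
      obtain ⟨l, hl, rfl⟩ := Finset.mem_image.1 hs
      exact hcardS l ((hmemL l).1 hl))
    (fun s hs t ht hne => by
      obtain ⟨l, hl, rfl⟩ := Finset.mem_image.1 hs
      obtain ⟨k, hk, rfl⟩ := Finset.mem_image.1 ht
      exact (hdiff l k ((hmemL l).1 hl) ((hmemL k).1 hk) hne).1) h5
  have hall' : ∀ l, l ≠ 1 → A ∈ S l ∧ B ∈ S l := fun l hl =>
    hall _ (Finset.mem_image.2 ⟨l, (hmemL l).2 hl, rfl⟩)
  have hconst : ∀ C : Cfsg.IrrCharacter G, (∀ l, l ≠ 1 → C ∈ S l) →
      ∀ l, l ≠ 1 → m l C = m l₀ C := by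
    intro C hC l hl
    by_cases he : S l = S l₀
    · obtain ⟨i, hi⟩ := hsame l l₀ hl hl₀ he
      rw [← hi, horbm]
    · exact (hdiff l l₀ hl hl₀ he).2 C (Finset.mem_inter.2 ⟨hC l hl, hC l₀ hl₀⟩)
  obtain ⟨hA0, hB0⟩ := hall' l₀ hl₀
  obtain ⟨X, hX⟩ : ∃ X, ((S l₀).erase A).erase B = {X} := Finset.card_eq_one.1 (by
    rw [Finset.card_erase_of_mem (Finset.mem_erase.2 ⟨hAB.symm, hB0⟩),
      Finset.card_erase_of_mem hA0, hcardS l₀ hl₀])
  have hXS : X ∈ S l₀ := Finset.mem_of_mem_erase (Finset.mem_of_mem_erase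
    (s := (S l₀).erase A) (a := B) (hX ▸ Finset.mem_singleton_self X))
  refine ⟨A, B, X, m l₀ A, m l₀ B, m l₀ X, hpm l₀ hl₀ A hA0, hpm l₀ hl₀ B hB0,
    hpm l₀ hl₀ X hXS, fun h => (Finset.mem_erase.1 (Finset.mem_filter.1 hA0).1).1 (Subtype.ext h),
    fun l hl => ⟨?_, ?_⟩, fun f => ?_⟩
  · rw [hm, hconst A (fun l hl => (hall' l hl).1) l hl]
  · rw [hm, hconst B (fun l hl => (hall' l hl).2) l hl]
  · simp only [hm]
    rw [← Finset.add_sum_erase _ _ (Finset.mem_univ o), hmo l₀ hl₀, Int.cast_one, one_mul,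
      ← Finset.sum_subset (Finset.filter_subset (fun χ => m l₀ χ ≠ 0) R) (fun χ hχ hn => by
        simp only [Finset.mem_filter, hχ, true_and, not_not] at hn
        simp [hn]),
      ← Finset.add_sum_erase _ _ hA0, ← Finset.add_sum_erase _ _
        (Finset.mem_erase.2 ⟨hAB.symm, hB0⟩), hX, Finset.sum_singleton]
    ring

/-- The averages of a constituent common to all the lifts. -/
theorem Setup.avg_eq_const (hS : Setup P n) {A : Cfsg.IrrCharacter G} {c : ℤ}
    (h : ∀ l : (P : Subgroup G) →* ℂˣ, l ≠ 1 →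
      Cfsg.classInner (lift P (hS.theta l)) (A : G → ℂ) = (c : ℂ))
    {x : G} (hx : x ∈ (P : Subgroup G)) (hx1 : x ≠ 1) : avg (A : G → ℂ) x = (c : ℂ) := by
  classical
  have : Finite ((P : Subgroup G) →* ℂˣ) := Nat.finite_of_card_ne_zero (by
    rw [hS.card_dual]; exact Nat.card_pos.ne')
  have : Fintype ((P : Subgroup G) →* ℂˣ) := Fintype.ofFinite _
  set q := (Nat.card (P : Subgroup G) : ℂ) with hq
  have hq0 : q ≠ 0 := Nat.cast_ne_zero.2 Nat.card_pos.ne'
  let f : ↥(P : Subgroup G) → ℂ := fun y => if y = 1 then 0 else conj (avg (A : G → ℂ) (y : G))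
  have hfact : ∀ y, f (hS.act y) = f y := fun y => by
    simp only [f, map_eq_one_iff _ hS.act.injective]
    split_ifs
    · rfl
    · exact congrArg conj (avg_conj (Char.isClassFunction_of_isIrr A.2) n (y : G))
  have hSl : ∀ l : (P : Subgroup G) →* ℂˣ, l ≠ 1 →
      ∑ y, (l y : ℂ) * f y = (∑ y, f y) - q * (c : ℂ) := by
    intro l hl
    have h1 := hS.classInner_lift (hS.adm_theta l) (Char.isClassFunction_of_isIrr A.2)
    rw [h l hl] at h1
    have h2 : ∀ y : (P : Subgroup G), hS.theta l y * conj (avg (A : G → ℂ) (y : G)) =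
        hS.theta l y * f y := by
      intro y
      by_cases hy : y = 1
      · subst hy
        rw [OneMemClass.coe_one, (hS.adm_theta l).one, zero_mul, zero_mul]
      · simp only [f, if_neg hy]
    rw [Finset.sum_congr rfl fun y _ => h2 y] at h1
    simp only [hS.theta_mem, sub_mul, add_mul, Finset.sum_sub_distrib, Finset.sum_add_distrib,
      ← Finset.mul_sum] at h1
    have e1 : ∀ g : ↥(P : Subgroup G) → ℂ, ∑ y, g (hS.act y) * f y = ∑ y, g y * f y := fun g => by
      rw [Finset.sum_congr rfl fun y _ => show g (hS.act y) * f y = g (hS.act y) * f (hS.act y) by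
        rw [hfact]]
      exact hS.act.toEquiv.sum_comp fun y => g y * f y
    rw [e1 fun y => (l (hS.act y) : ℂ), e1 fun y => (l y : ℂ)] at h1
    linear_combination h1 / 3
  set y₀ : (P : Subgroup G) := ⟨x, hx⟩ with hy₀
  have hy1 : y₀ ≠ 1 := fun e => hx1 (congrArg Subtype.val e)
  have hleft : ∑ l : (P : Subgroup G) →* ℂˣ, (∑ y, (l y : ℂ) * f y) * (l y₀⁻¹ : ℂ) =
      q * f y₀ := by
    simp only [Finset.sum_mul]
    rw [Finset.sum_comm]
    have : ∀ y, ∑ l : (P : Subgroup G) →* ℂˣ, (l y : ℂ) * f y * (l y₀⁻¹ : ℂ) =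
        if y = y₀ then q * f y₀ else 0 := by
      intro y
      have e : ∀ l : (P : Subgroup G) →* ℂˣ,
          (l y : ℂ) * f y * (l y₀⁻¹ : ℂ) = f y * (l (y * y₀⁻¹) : ℂ) := fun l => by
        rw [map_mul, Units.val_mul]; ring
      rw [Finset.sum_congr rfl fun l _ => e l, ← Finset.mul_sum, hS.sum_dual]
      simp only [mul_inv_eq_one]
      split_ifs with h
      · rw [h, mul_comm]
      · rw [mul_zero]
    rw [Finset.sum_congr rfl fun y _ => this y]
    simp
  have hright : ∑ l : (P : Subgroup G) →* ℂˣ, (∑ y, (l y : ℂ) * f y) * (l y₀⁻¹ : ℂ) =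
      q * (c : ℂ) := by
    have e : ∀ l : (P : Subgroup G) →* ℂˣ, (∑ y, (l y : ℂ) * f y) * (l y₀⁻¹ : ℂ) =
        ((∑ y, f y) - q * (c : ℂ)) * (l y₀⁻¹ : ℂ) + if l = 1 then q * (c : ℂ) else 0 := by
      intro l
      by_cases hl : l = 1
      · subst hl; simp
      · rw [hSl l hl, if_neg hl, add_zero]
    rw [Finset.sum_congr rfl fun l _ => e l, Finset.sum_add_distrib, ← Finset.mul_sum,
      hS.sum_dual, if_neg (inv_ne_one.2 hy1), mul_zero, zero_add]
    simp
  have h4 : f y₀ = (c : ℂ) := mul_left_cancel₀ hq0 (hleft.symm.trans hright)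
  simp only [f, if_neg hy1] at h4
  have h5 := congrArg conj h4
  rwa [Complex.conj_conj, map_intCast] at h5

omit [Fintype G] in
/-- An element of `P` conjugate to its inverse squares to 1. -/
theorem Setup.sq_eq_one_of_isConj_inv (hS : Setup P n) {x : G} (hx : x ∈ (P : Subgroup G))
    (h : IsConj x x⁻¹) : x * x = 1 := by
  by_cases hx1 : x = 1
  · simp [hx1]
  obtain ⟨c, hc⟩ := isConj_iff.1 h
  obtain ⟨i, hi⟩ := hS.fusion x hx hx1 c⁻¹ (by rw [inv_inv, hc]; exact inv_mem hx)
  set d := n ^ (i : ℕ) with hd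
  have hdx : d⁻¹ * x * d = x⁻¹ := by
    have hi' := hi.inv_left.eq
    rw [mul_inv_rev, inv_inv, inv_inv] at hi'
    calc d⁻¹ * x * d = d⁻¹ * (x * (d * c)) * c⁻¹ := by group
      _ = d⁻¹ * (d * c * x) * c⁻¹ := by rw [hi']
      _ = c * x * c⁻¹ := by group
      _ = _ := hc
  have hd3 : Commute (d * d * d) x := by
    have h3 : Commute (n * n * n) x := by
      have := hS.cube x hx
      rw [show n * (n * (n * x * n⁻¹) * n⁻¹) * n⁻¹ = n * n * n * x * (n * n * n)⁻¹ by group,
        mul_inv_eq_iff_eq_mul] at this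
      exact this
    have e : d * d * d = (n * n * n) ^ (i : ℕ) := by
      rw [hd, show n * n * n = n ^ 3 by simp [pow_succ], ← pow_add, ← pow_add, ← pow_mul]
      congr 1
      omega
    rw [e]
    exact h3.pow_left _
  have hinv : d⁻¹ * x⁻¹ * d = x := by
    have := congrArg (·⁻¹) hdx
    simpa [mul_assoc] using this
  have h4 : x = x⁻¹ := by
    calc x = (d * d * d)⁻¹ * (d * d * d * x) := by group
      _ = (d * d * d)⁻¹ * (x * (d * d * d)) := by rw [hd3.eq]
      _ = d⁻¹ * (d⁻¹ * (d⁻¹ * x * d) * d) * d := by group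
      _ = x⁻¹ := by rw [hdx, hinv, hdx]
  exact mul_eq_one_iff_eq_inv.2 h4

/-- `P` lies in a proper normal subgroup. -/
theorem Setup.exists_normal (hS : Setup P n) {m : ℕ} (hm : 2 ≤ m)
    (e : (P : Subgroup G) ≃* Multiplicative (ZMod (2 ^ m) × ZMod (2 ^ m))) :
    ∃ N : Subgroup G, N.Normal ∧ N ≠ ⊤ ∧ (P : Subgroup G) ≤ N := by
  classical
  obtain ⟨M, hM⟩ := Blocks.exists_isPModular 2 Nat.prime_two
  have : Fact (Nat.Prime 2) := ⟨Nat.prime_two⟩
  have hcard : Nat.card (P : Subgroup G) = 2 ^ m * 2 ^ m := by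
    rw [Nat.card_congr e.toEquiv, Nat.card_congr Multiplicative.toAdd, Nat.card_prod,
      Nat.card_zmod]
  have h4 : 2 ^ 2 ≤ 2 ^ m := Nat.pow_le_pow_right two_pos hm
  have h16 : 16 ≤ Nat.card (P : Subgroup G) := by rw [hcard]; nlinarith
  have hdvd16 : (16 : ℤ) ∣ (Nat.card (P : Subgroup G) : ℤ) := by
    have h : 2 ^ 2 ∣ 2 ^ m := pow_dvd_pow 2 hm
    rw [hcard]
    exact_mod_cast (show 16 ∣ 2 ^ m * 2 ^ m from mul_dvd_mul h h)
  obtain ⟨l₀, hl₀, hl₀t⟩ := hS.exists_lambda hm e
  obtain ⟨A, B, X, εA, εB, εX, hεA, hεB, hεX, hA1, hconst, hexp⟩ := hS.exists_two_chars h16 hl₀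
  obtain ⟨t', ht'⟩ : ∃ t : (P : Subgroup G), orderOf t = 2 :=
    exists_prime_orderOf_dvd_card' 2 (hcard ▸ (dvd_pow_self 2 (by omega : m ≠ 0)).mul_right _)
  set t : G := (t' : G) with ht
  have ht2 : orderOf t = 2 := by rw [ht, Subgroup.orderOf_coe, ht']
  have ht1 : t ≠ 1 := fun h => by rw [h, orderOf_one] at ht2; omega
  have htt : t * t = 1 := by rw [← pow_two, ← ht2, pow_orderOf_eq_one]
  set F := lift P (hS.theta l₀) with hF
  have hFc : Cfsg.IsClassFunction G F := hS.lift_class (hS.adm_theta l₀)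
  have hth : ∀ y : (P : Subgroup G), y * y = 1 → hS.theta l₀ y = 0 := fun y hy => by
    have h1 : hS.act y * hS.act y = 1 := by rw [← map_mul, hy, map_one]
    have h2 : hS.act (hS.act y) * hS.act (hS.act y) = 1 := by rw [← map_mul, h1, map_one]
    rw [hS.theta_mem, hl₀t y hy, hl₀t _ h1, hl₀t _ h2]
    norm_num
  have hF1 : F 1 = 0 := hS.lift_regular (hS.adm_theta l₀) (by rw [orderOf_one]; norm_num)
  have hFt : F t = 0 := by
    rw [hF, hS.lift_mem (hS.adm_theta l₀) t'.2
      (mem_fiber.2 (pPartOf_self (exists_orderOf_pow t'.2)))]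
    exact hth t' (Subtype.ext htt)
  have hFpair : ∀ a, F (a * t * a⁻¹ * t) = 0 := by
    intro a
    set g := a * t * a⁻¹ * t with hg
    have htinv : t⁻¹ = t := inv_eq_of_mul_eq_one_right htt
    have hginv : t * g * t⁻¹ = g⁻¹ := by
      rw [hg, htinv]
      have : (a * t * a⁻¹)⁻¹ = a * t * a⁻¹ := by
        rw [mul_inv_rev, mul_inv_rev, inv_inv, htinv, mul_assoc]
      rw [mul_inv_rev, this, htinv]
      simp [mul_assoc, htt]
    obtain ⟨k, hk⟩ := orderOf_pPartOf Nat.prime_two g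
    have hpinv : pPartOf 2 g⁻¹ = (pPartOf 2 g)⁻¹ := by
      have h := (parts_mul Nat.prime_two
        ((commute_pPartOf_pPrimePartOf (p := 2) g).inv_inv)
        ⟨k, by rw [orderOf_inv, hk]⟩
        (by rw [orderOf_inv]; exact not_dvd_orderOf_pPrimePartOf Nat.prime_two g)).1
      rwa [← mul_inv_rev, ← (commute_pPartOf_pPrimePartOf (p := 2) g).eq,
        pPartOf_mul_pPrimePartOf Nat.prime_two] at h
    obtain ⟨d, hd⟩ := exists_conj_mem P ⟨k, hk⟩
    rw [hF, hS.lift_apply (hS.adm_theta l₀) hd (isConj_iff.2 ⟨d, rfl⟩)]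
    refine hth ⟨_, hd⟩ (Subtype.ext (hS.sq_eq_one_of_isConj_inv hd ?_))
    have h1 : IsConj (pPartOf 2 g) (pPartOf 2 g)⁻¹ := isConj_iff.2 ⟨t, by
      rw [← pPartOf_conj (p := 2), hginv, hpinv]⟩
    have h2 : (d * pPartOf 2 g * d⁻¹)⁻¹ = d * (pPartOf 2 g)⁻¹ * d⁻¹ := by group
    rw [h2]
    exact ((isConj_iff.2 ⟨d, rfl⟩ : IsConj (pPartOf 2 g) _).symm.trans h1).trans
      (isConj_iff.2 ⟨d, rfl⟩)
  -- values
  have hval : ∀ (C : Cfsg.IrrCharacter G) (ε : ℤ), (ε = 1 ∨ ε = -1) →
      (∀ l : (P : Subgroup G) →* ℂˣ, l ≠ 1 →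
        Cfsg.classInner (lift P (hS.theta l)) (C : G → ℂ) = (ε : ℂ)) →
      (∀ x ∈ (P : Subgroup G), x ≠ 1 → (C : G → ℂ) x = (ε : ℂ)) ∧
        ∃ d : ℕ, 0 < d ∧ (C : G → ℂ) 1 = (d : ℂ) ∧ (16 : ℤ) ∣ (d : ℤ) - ε := by
    intro C ε hε hC
    have hε0 : (ε : ℂ) ≠ 0 := by
      rcases hε with rfl | rfl <;> norm_num
    have hin : C ∈ Cfsg.principalBlock M G := by
      by_contra hout
      refine hε0 ?_
      rw [← hS.avg_eq_const hC t'.2 ht1]
      exact hS.avg_eq_zero hM t'.2 ht1 hout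
    have hv : ∀ x ∈ (P : Subgroup G), x ≠ 1 → (C : G → ℂ) x = (ε : ℂ) := fun x hx hx1 => by
      rw [hS.apply_eq_avg hM hx hx1 hin, hS.avg_eq_const hC hx hx1]
    obtain ⟨d, hd0, hd⟩ := Char.IsIrr.degree C.2
    refine ⟨hv, d, Nat.pos_of_ne_zero (by omega), hd, ?_⟩
    obtain ⟨i, hi⟩ := Char.classInner_isCharacter_eq_natCast
      (Char.isCharacter_res (P : Subgroup G) (Char.IsIrr.isCharacter C.2))
      (Char.isCharacter_one (G := (P : Subgroup G)))
    simp only [Cfsg.classInner, map_one, mul_one] at hi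
    rw [inv_mul_eq_iff_eq_mul₀ (Nat.cast_ne_zero.2 Nat.card_pos.ne'),
      ← Finset.add_sum_erase _ _ (Finset.mem_univ (1 : (P : Subgroup G))),
      Finset.sum_congr rfl fun (y : (P : Subgroup G)) hy =>
        hv (y : G) y.2 fun e => Finset.ne_of_mem_erase hy (Subtype.ext e),
      Finset.sum_const, Finset.card_erase_of_mem (Finset.mem_univ _), Finset.card_univ,
      ← Nat.card_eq_fintype_card, nsmul_eq_mul, OneMemClass.coe_one, hd,
      Nat.cast_sub Nat.card_pos] at hi
    have hz : (d : ℤ) - ε = (Nat.card (P : Subgroup G) : ℤ) * ((i : ℤ) - ε) := by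
      have : ((d : ℤ) : ℂ) - (ε : ℂ) =
          ((Nat.card (P : Subgroup G) : ℤ) : ℂ) * (((i : ℤ) : ℂ) - (ε : ℂ)) := by
        push_cast at hi ⊢
        linear_combination hi
      exact_mod_cast this
    rw [hz]
    exact hdvd16.mul_right _
  obtain ⟨hAv, dA, hdA0, hdA, hA16⟩ := hval A εA hεA fun l hl => (hconst l hl).1
  obtain ⟨hBv, dB, hdB0, hdB, hB16⟩ := hval B εB hεB fun l hl => (hconst l hl).2
  obtain ⟨dX, hdX0, hdX⟩ := Char.IsIrr.degree X.2
  have hsqA : (εA : ℂ) * εA = 1 := by rcases hεA with rfl | rfl <;> norm_num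
  have hsqB : (εB : ℂ) * εB = 1 := by rcases hεB with rfl | rfl <;> norm_num
  have hsqX : (εX : ℂ) * εX = 1 := by rcases hεX with rfl | rfl <;> norm_num
  have e1 := (hexp fun χ => (χ : G → ℂ) 1).symm.trans (Invol.apply_eq_sum hFc 1)
  have et := (hexp fun χ => (χ : G → ℂ) t).symm.trans (Invol.apply_eq_sum hFc t)
  have eq' := (hexp fun χ => (χ : G → ℂ) t ^ 2 / (χ : G → ℂ) 1).symm.trans (sum_mult_sq hFc hFpair)
  rw [hF1, hdA, hdB, hdX] at e1
  rw [hFt, hAv t t'.2 ht1, hBv t t'.2 ht1, hsqA, hsqB] at et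
  rw [hAv t t'.2 ht1, hBv t t'.2 ht1, hdA, hdB, hdX] at eq'
  simp only at e1 et eq'
  have hXt : (X : G → ℂ) t = -3 * (εX : ℂ) := by
    linear_combination (εX : ℂ) * et - (X : G → ℂ) t * hsqX
  rw [hXt] at eq'
  set a : ℤ := εA * dA with ha
  set b : ℤ := εB * dB with hb
  have key : (1 + a + b) * (a * b + a + b) = 9 * (a * b) := by
    have h : ((1 : ℂ) + (a : ℂ) + (b : ℂ)) * ((a : ℂ) * b + a + b) = 9 * ((a : ℂ) * b) := by
      have nA : (dA : ℂ) ≠ 0 := Nat.cast_ne_zero.2 hdA0.ne'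
      have nB : (dB : ℂ) ≠ 0 := Nat.cast_ne_zero.2 hdB0.ne'
      have nX : (dX : ℂ) ≠ 0 := hdX ▸ Char.IsIrr.one_ne_zero X.2
      have q : ∀ ε : ℤ, (ε = 1 ∨ ε = -1) → ((ε : ℂ)) ^ 2 = 1 := by
        rintro ε (rfl | rfl) <;> norm_num
      rw [mul_pow, q εA hεA, q εB hεB, q εX hεX] at eq'
      norm_num at eq'
      have hP : (dA : ℂ) * dB * dX + εA * dB * dX + εB * dA * dX + 9 * εX * dA * dB = 0 := by
        field_simp at eq'
        linear_combination eq'
      simp only [ha, hb, Int.cast_mul, Int.cast_natCast]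
      linear_combination (-(εA : ℂ) * εB * εX) * hP +
        ((εA : ℂ) * dA * (εB * dB) + εA * dA + εB * dB) * e1 +
        ((dB : ℂ) * dX * εB * εX) * hsqA + ((dA : ℂ) * dX * εA * εX) * hsqB +
        (9 * (dA : ℂ) * dB * εA * εB) * hsqX
    exact_mod_cast h
  have hA16' : (16 : ℤ) ∣ a - 1 := by
    rcases hεA with rfl | rfl
    · simpa [ha] using hA16
    · rw [ha, show (-1 : ℤ) * dA - 1 = -((dA : ℤ) - -1) by ring]
      exact hA16.neg_right
  have hB16' : (16 : ℤ) ∣ b - 1 := by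
    rcases hεB with rfl | rfl
    · simpa [hb] using hB16
    · rw [hb, show (-1 : ℤ) * dB - 1 = -((dB : ℤ) - -1) by ring]
      exact hB16.neg_right
  obtain ⟨ha1, -⟩ := arith hA16' hB16' key
  have hε1 : εA = 1 := by
    rcases hεA with rfl | rfl
    · rfl
    · simp only [ha] at ha1; omega
  have hd1 : dA = 1 := by
    simp only [ha, hε1] at ha1
    omega
  refine ⟨Char.kerSubgroup (Char.IsIrr.isCharacter A.2), inferInstance, fun htop => hA1 ?_,
    fun x hx => ?_⟩
  · refine Invol.irr_eq_one_of_const A fun g => ?_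
    exact (htop ▸ Subgroup.mem_top g : g ∈ Char.kerSubgroup (Char.IsIrr.isCharacter A.2))
  · rw [Char.mem_kerSubgroup]
    by_cases hx1 : x = 1
    · rw [hx1]
    · rw [hAv x hx hx1, hdA, hε1, hd1]
      norm_num

omit [Fintype G] in
/-- Brauer's theorem. -/
theorem brauer_homocyclic (k : ℕ) : ∀ {G : Type u} [Group G] [Finite G], Nat.card G ≤ k →
    ∀ (P : Sylow 2 G) (m : ℕ), 2 ≤ m →
      ∀ _e : (P : Subgroup G) ≃* Multiplicative (ZMod (2 ^ m) × ZMod (2 ^ m)),
      (∀ N : Subgroup G, N.Normal → Odd (Nat.card N) → N = ⊥) →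
      (P : Subgroup G).Normal ∧ Subgroup.centralizer (P : Set G) = (P : Subgroup G) ∧
        ((P : Subgroup G).index = 1 ∨ (P : Subgroup G).index = 3) := by
  induction k with
  | zero =>
    intro G _ _ h
    exact absurd (Nat.card_pos (α := G)) (by omega)
  | succ k ih =>
    intro G _ _ hG P m hm e hO
    have : Fact (Nat.Prime 2) := ⟨Nat.prime_two⟩
    obtain ⟨h13, -⟩ := Homocyclic.automizer P (by omega : 1 ≤ m) e
    have hnormal : (P : Subgroup G).Normal := by
      by_cases h1 : (Subgroup.centralizer (P : Set G)).relIndex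
          (Subgroup.normalizer (P : Set G)) = 1
      · obtain ⟨N, hN, hc, j, hj⟩ := Fusion.hasNormalPComplement_iff_exists.1
          (Fusion.hasNormalPComplement_of_normalizer_le_centralizer P
            (Subgroup.relIndex_eq_one.1 h1))
        have hN1 := hO N hN (Nat.not_even_iff_odd.1 fun h =>
          (Nat.prime_two.coprime_iff_not_dvd.1 hc.symm) h.two_dvd)
        have htop : (P : Subgroup G) = ⊤ := by
          rw [hN1, Subgroup.index_bot] at hj
          refine Subgroup.eq_top_of_card_eq _ ?_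
          rw [P.card_eq_multiplicity, hj, Nat.prime_two.factorization_pow, Finsupp.single_eq_same]
        rw [htop]
        infer_instance
      · have : Fintype G := Fintype.ofFinite G
        obtain ⟨n, hS⟩ := exists_setup P (by omega : 1 ≤ m) e h1
        obtain ⟨N, hN, hNtop, hPN⟩ := hS.exists_normal hm e
        have hlt : Nat.card N < Nat.card G := Core.card_lt_of_ne_top hNtop
        obtain ⟨hn, -, -⟩ := ih (G := N) (by omega) (P.subtype hPN) m hm
          ((Subgroup.subgroupOfEquivOfLe hPN).trans e) fun L hL hodd => by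
            have h2 : L ≤ Cfsg.pPrimeCore 2 N := Core.le_pPrimeCore
              (Nat.coprime_two_right.2 hodd)
            have h3 : (Cfsg.pPrimeCore 2 N).map N.subtype = ⊥ := by
              rw [Core.map_pPrimeCore_normal, hO (Cfsg.pPrimeCore 2 G) inferInstance
                (Nat.coprime_two_right.1 Core.coprime_card_pPrimeCore), bot_inf_eq]
            rw [Subgroup.map_eq_bot_iff_of_injective _ N.subtype_injective] at h3
            exact le_bot_iff.1 (h3 ▸ h2)
        have hchar : ((P.subtype hPN : Sylow 2 N) : Subgroup N).Characteristic :=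
          Sylow.characteristic_of_normal _ hn
        have h4 : (((P.subtype hPN : Sylow 2 N) : Subgroup N).map N.subtype).Normal :=
          inferInstance
        rwa [Sylow.coe_subtype, Subgroup.map_subgroupOf_eq_of_le hPN] at h4
    have hcomm : ∀ a ∈ (P : Subgroup G), ∀ b ∈ (P : Subgroup G), a * b = b * a := by
      intro a ha b hb
      have := e.injective ((by rw [map_mul, map_mul, mul_comm]) :
        e (⟨a, ha⟩ * ⟨b, hb⟩) = e (⟨b, hb⟩ * ⟨a, ha⟩))
      exact congrArg Subtype.val this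
    set C := Subgroup.centralizer (P : Set G) with hC
    have hPC : (P : Subgroup G) ≤ C := fun a ha => Subgroup.mem_centralizer_iff.2 fun b hb =>
      hcomm b hb a ha
    have hCP : C = (P : Subgroup G) := by
      have hCn : C.Normal := by
        have := hnormal
        exact hC ▸ Subgroup.normal_centralizer
      have hcompl : Cfsg.HasNormalPComplement 2 C :=
        Fusion.hasNormalPComplement_of_normalizer_le_centralizer (P.subtype hPC) fun c _ =>
          Subgroup.mem_centralizer_iff.2 fun a ha =>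
            Subtype.ext (Subgroup.mem_centralizer_iff.1 c.2 (a : G) ha)
      obtain ⟨K, hK, hc, j, hj⟩ := Fusion.hasNormalPComplement_iff_exists.1 hcompl
      have h2 : K ≤ Cfsg.pPrimeCore 2 C := Core.le_pPrimeCore hc
      have h3 : (Cfsg.pPrimeCore 2 C).map C.subtype = ⊥ := by
        rw [Core.map_pPrimeCore_normal, hO (Cfsg.pPrimeCore 2 G) inferInstance
          (Nat.coprime_two_right.1 Core.coprime_card_pPrimeCore), bot_inf_eq]
      rw [Subgroup.map_eq_bot_iff_of_injective _ C.subtype_injective] at h3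
      have hK1 : K = ⊥ := le_bot_iff.1 (h3 ▸ h2)
      rw [hK1, Subgroup.index_bot] at hj
      refine (Subgroup.eq_of_le_of_card_ge hPC ?_).symm
      have h5 := (P.subtype hPC).card_eq_multiplicity
      rw [Sylow.coe_subtype, Nat.card_congr (Subgroup.subgroupOfEquivOfLe hPC).toEquiv] at h5
      rw [h5, hj, Nat.prime_two.factorization_pow,
        Finsupp.single_eq_same]
    refine ⟨hnormal, hCP, ?_⟩
    rw [show Subgroup.normalizer (P : Set G) = ⊤ from Subgroup.normalizer_eq_top_iff.2 hnormal,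
      Subgroup.relIndex_top_right] at h13
    rw [hCP] at h13
    exact h13

end Cfsg.Agent.BlockThms.HomocyclicBlock
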