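import Mathlib
import Cfsg.Agent.BlockThms.DefectGroup
import Cfsg.Agent.Blocks.SecondMain

/-!
# Characters vanish off the p-sections of a defect group
-/

set_option autoImplicit false

namespace Cfsg.Agent.DefectThms

open scoped ComplexConjugate
open Cfsg.Agent Cfsg.Agent.Blocks

universe u

variable {G : Type u} [Group G] [Fintype G] {p : ℕ} [Fact p.Prime] {M : Ideal Cfsg.AlgInt}

/-- A character vanishes at an element whose p-part lies in no conjugate of a defect group of
its block. -/
theorem char_eq_zero_of_pPart_notMem (hM : Cfsg.IsPModular p M)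
    {B : Set (Cfsg.IrrCharacter G)} (hB : Cfsg.IsPBlock M B) {D : Subgroup G}
    (hD : Cfsg.IsDefectGroup p M B D) {χ : Cfsg.IrrCharacter G} (hχ : χ ∈ B) {g : G}
    (hg : ∀ k : G, k * pPartOf p g * k⁻¹ ∉ D) : (χ : G → ℂ) g = 0 := by
  classical
  set u := pPartOf p g with hu
  set y₀ := pPrimePartOf p g
  set C := Subgroup.centralizer ({u} : Set G) with hCdef
  have : Fintype C := Fintype.ofFinite _
  have huk : ∃ k, orderOf u = p ^ k := orderOf_pPartOf hM.1 g
  have hmem : ∀ a : G, a ∈ C ↔ u * a = a * u := fun a => by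
    rw [hCdef, Subgroup.mem_centralizer_singleton_iff, eq_comm]
  let y : C := ⟨y₀, (hmem _).2 (commute_pPartOf_pPrimePartOf g).eq⟩
  have hy : ¬ p ∣ orderOf y := by
    rw [← Subgroup.orderOf_coe]; exact not_dvd_orderOf_pPrimePartOf hM.1 g
  have hP : IsPGroup p (Subgroup.zpowers u) := by
    obtain ⟨k, hk⟩ := huk
    exact IsPGroup.of_card (n := k) (by rw [Nat.card_zpowers, hk])
  have hH : ∀ a : G, a ∈ C ↔ ∀ v ∈ Subgroup.zpowers u, v * a = a * v := fun a => by
    rw [hmem]
    exact ⟨fun h v ⟨i, hi⟩ => hi ▸ ((show Commute u a from h).zpow_left i).eq,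
      fun h => h u (Subgroup.mem_zpowers u)⟩
  -- no block of the centralizer induces `B`
  have hnot : ∀ β : Set (Cfsg.IrrCharacter C), Cfsg.IsPBlock M β →
      ¬ Cfsg.IsInducedBlock M C β B := by
    intro β hβ hi
    obtain ⟨φ, hφ⟩ := IsPBlock.nonempty hM hβ
    have hd := (mem_inducing_iff hM hP hH hB hβ hφ).2 hi
    refine hd ?_
    have : Finite (ConjClasses C) := Quotient.finite _
    have := Fintype.ofFinite (ConjClasses C)
    rw [omega_eq_sum_classes (Char.isClassFunction_of_isIrr φ.2)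
      (isClassFunction_res C (isClassFunction_blockCoeff B))]
    refine memLocalIdeal_sum hM _ fun K _ =>
      memLocalIdeal_mul_right hM ?_ (memLocalRing_centralChar hM φ.2 _)
    generalize K.out = c
    by_contra hc
    have hle : Subgroup.zpowers u ≤ Subgroup.centralizer ({(c : G)} : Set G) :=
      (Subgroup.zpowers_le).2 (Subgroup.mem_centralizer_singleton_iff.2 ((hmem _).1 c.2))
    obtain ⟨S, hS, huS⟩ := exists_le_isSylC hP hle
    obtain ⟨d, hd', hdD⟩ := isDefectGroup_iff.1 hD
    obtain ⟨k, hk⟩ := exists_conj_le_of_unit_coeff hM hB hd' hdD hc hS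
    exact hg k (hk ⟨u, huS (Subgroup.mem_zpowers u), rfl⟩)
  have hF : Cfsg.IsClassFunction C fun c : C => (χ : G → ℂ) (u * (c : G)) := by
    intro c k
    show (χ : G → ℂ) (u * ((k * c * k⁻¹ : C) : G)) = (χ : G → ℂ) (u * (c : G))
    rw [← Char.isClassFunction_of_isIrr χ.2 (u * (c : G)) (k : G)]
    congr 1
    simp only [Subgroup.coe_mul, Subgroup.coe_inv]
    rw [← mul_assoc (k : G), ← (hmem _).1 k.2]
    group
  have hexp := congrFun (Char.classFun_expansion hF) y
  simp only [Finset.sum_apply, Pi.smul_apply, smul_eq_mul] at hexp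
  rw [show g = u * (y : G) from (pPartOf_mul_pPrimePartOf hM.1 g).symm, hexp,
    ← Finset.sum_fiberwise Finset.univ
      (fun φ : Cfsg.IrrCharacter C => Cfsg.blockOf M (φ : C → ℂ))]
  refine Finset.sum_eq_zero fun β _ => ?_
  by_cases hβ : Cfsg.IsPBlock M β
  · have h0 : Cfsg.blockPart β (fun c : C => (χ : G → ℂ) (u * (c : G))) y = 0 := by
      rw [blockPart_eq_kernel, sum_section_kernel_eq_zero hM huk hmem hB hχ hβ (hnot β hβ) hy,
        mul_zero]
    rw [← h0, Cfsg.blockPart, finsum_mem_eq_finite_toFinset_sum _ (Set.toFinite β)]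
    refine Finset.sum_congr ?_ fun φ _ => ?_
    · ext φ
      simp only [Finset.mem_filter, Finset.mem_univ, true_and, Set.Finite.mem_toFinset]
      exact ⟨fun h => h ▸ mem_blockOf_self hM φ,
        fun h => (IsPBlock.eq_blockOf hM hβ h).symm⟩
    · congr
      exact Subsingleton.elim _ _
  · refine Finset.sum_eq_zero fun φ hφ => ?_
    exact absurd ((Finset.mem_filter.1 hφ).2 ▸ isPBlock_blockOf φ) hβ

end Cfsg.Agent.DefectThms
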