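import Mathlib
import Cfsg.Agent.BlockThms.Vanish
import Cfsg.Agent.BlockThms.DefectZero
import Cfsg.Agent.Char.Artin

/-!
# Blocks with a defect group `P` when `G = P C(P)`
-/

set_option autoImplicit false

namespace Cfsg.Agent.DefectThms

open scoped ComplexConjugate
open Cfsg.Agent Cfsg.Agent.Blocks
open Cfsg.Agent.BlockThms hiding classInd conv omega IsClass exists_isPModular omega_conv

universe u

variable {G : Type u} [Group G] [Fintype G] {p : ℕ} {M : Ideal Cfsg.AlgInt}

section CentralProduct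

variable {P : Subgroup G} [P.Normal]

omit [Fintype G] in
theorem exists_mul_centralizer (hG : P ⊔ Subgroup.centralizer (P : Set G) = ⊤) (g : G) :
    ∃ u ∈ P, ∃ c ∈ Subgroup.centralizer (P : Set G), u * c = g := by
  have h : g ∈ ((P ⊔ Subgroup.centralizer (P : Set G) : Subgroup G) : Set G) := by simp [hG]
  rw [Subgroup.normal_mul] at h
  exact Set.mem_mul.1 h

omit [Fintype G] in
theorem invariant_of_sup (hG : P ⊔ Subgroup.centralizer (P : Set G) = ⊤) {f : P → ℂ}
    (hf : Cfsg.IsClassFunction P f) (g : G) : Char.conjFun g f = f := by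
  obtain ⟨u, hu, c, hc, rfl⟩ := exists_mul_centralizer hG g
  funext v
  have hcv : c * (v : G) * c⁻¹ = v := by
    rw [← Subgroup.mem_centralizer_iff.1 hc v v.2, mul_inv_cancel_right]
  rw [Char.conjFun_eq_comp]
  rw [← hf v ⟨u, hu⟩]
  show f _ = f _
  congr 1
  apply Subtype.ext
  simp only [MulAut.conjNormal_apply, Subgroup.coe_mul, Subgroup.coe_inv]
  rw [show u * c * (v : G) * (u * c)⁻¹ = u * (c * (v : G) * c⁻¹) * u⁻¹ by group, hcv]

/-- The centralizer of `P` has `p`-power index. -/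
theorem index_centralizer_pow [Fact p.Prime] (hP : IsPGroup p P)
    (hG : P ⊔ Subgroup.centralizer (P : Set G) = ⊤) :
    ∃ k : ℕ, (Subgroup.centralizer (P : Set G)).index = p ^ k := by
  set C := Subgroup.centralizer (P : Set G)
  have hq : IsPGroup p (G ⧸ C) := hP.of_surjective ((QuotientGroup.mk' C).comp P.subtype) fun q => by
    obtain ⟨g, rfl⟩ := QuotientGroup.mk_surjective q
    obtain ⟨u, hu, c, hc, rfl⟩ := exists_mul_centralizer hG g
    exact ⟨⟨u, hu⟩, (QuotientGroup.mk_mul_of_mem u hc).symm⟩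
  exact IsPGroup.iff_card.1 hq

theorem regular_mem_centralizer [Fact p.Prime] (hP : IsPGroup p P)
    (hG : P ⊔ Subgroup.centralizer (P : Set G) = ⊤) {y : G} (hy : Cfsg.IsPRegular p y) :
    y ∈ Subgroup.centralizer (P : Set G) :=
  BlockThms.mem_of_regular (Fact.out : p.Prime) (index_centralizer_pow hP hG) hy

/-- Factorization of a character on `P × C(P)`. -/
theorem char_mul_eq [Fintype P] (hG : P ⊔ Subgroup.centralizer (P : Set G) = ⊤)
    (χ : Cfsg.IrrCharacter G) (μ : Cfsg.IrrCharacter P)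
    (hμ : Cfsg.classInner (fun n : P => (χ : G → ℂ) n) (μ : P → ℂ) ≠ 0) (v : P) {y : G}
    (hy : y ∈ Subgroup.centralizer (P : Set G)) :
    (μ : P → ℂ) 1 * (χ : G → ℂ) ((v : G) * y) = (μ : P → ℂ) v * (χ : G → ℂ) y := by
  classical
  set F : P → ℂ := fun w => (χ : G → ℂ) ((w : G) * y) with hF
  have hFc : Cfsg.IsClassFunction P F := by
    intro w k
    simp only [hF, Subgroup.coe_mul, Subgroup.coe_inv]
    rw [← Char.isClassFunction_of_isIrr χ.2 ((w : G) * y) (k : G)]
    congr 1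
    rw [mul_assoc _ _ y, Subgroup.mem_centralizer_iff.1 hy _ (inv_mem k.2)]
    group
  have hμ1 := Char.IsIrr.one_ne_zero μ.2
  have hin : ∀ ν : Cfsg.IrrCharacter P, Cfsg.classInner F (ν : P → ℂ) =
      (if μ = ν then 1 else 0) * ((χ : G → ℂ) y / (μ : P → ℂ) 1) := by
    intro ν
    set f := Cfsg.extendByZero P (fun w => conj ((ν : P → ℂ) w)) with hf
    have hνc : Cfsg.IsClassFunction P fun w => conj ((ν : P → ℂ) w) := fun w k => by
      simp only [Char.isClassFunction_of_isIrr ν.2 w k]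
    have hfc : Cfsg.IsClassFunction G f :=
      isClassFunction_extend fun g => invariant_of_sup hG hνc g
    have hf0 : ∀ g, g ∉ P → f g = 0 := fun g hg => Char.extendByZero_of_not_mem P _ hg
    have hfv : ∀ w : P, f (w : G) = conj ((ν : P → ℂ) w) := fun w => Char.extendByZero_coe P _ w
    have h1 : ∑ g, f g * (χ : G → ℂ) (g * y) = omega (χ : G → ℂ) f * (χ : G → ℂ) y := by
      obtain ⟨n, ρ, hρ, hρe⟩ := χ.2
      rw [← hρe]
      have h := congrArg (fun T : Module.End ℂ (Fin n → ℂ) =>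
        LinearMap.trace ℂ (Fin n → ℂ) (T * ρ y)) (Blocks.sum_smul_rep_eq_omega ρ hρ hfc)
      simpa [Finset.sum_mul, map_sum, ← map_mul, Representation.character,
        ← Module.End.one_eq_id] using h
    have h2 : ∑ g, f g * (χ : G → ℂ) (g * y) = ∑ w : P, F w * conj ((ν : P → ℂ) w) := by
      rw [sum_eq_sum_subgroup (N := P) fun g hg => by rw [hf0 g hg, zero_mul]]
      exact Finset.sum_congr rfl fun w _ => by rw [hfv, mul_comm]
    have h3 : omega (χ : G → ℂ) f =
        (Nat.card P : ℂ) * (if μ = ν then 1 else 0) / (μ : P → ℂ) 1 := by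
      rw [omega_res_eq χ.2 μ.2 hμ hfc hf0, omega]
      congr 1
      have h := Char.classInner_irrChar μ ν
      rw [Cfsg.classInner, inv_mul_eq_iff_eq_mul₀ Char.card_ne_zero] at h
      rw [← h]
      exact Finset.sum_congr rfl fun w _ => by rw [hfv, mul_comm]
    rw [Cfsg.classInner, ← h2, h1, h3]
    field_simp [Char.card_ne_zero (G := P)]
  have hexp := congrFun (Char.classFun_expansion hFc) v
  simp only [Finset.sum_apply, Pi.smul_apply, smul_eq_mul, hin] at hexp
  rw [Finset.sum_eq_single μ (fun ν _ hν => by rw [if_neg (Ne.symm hν), zero_mul, zero_mul])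
    (by simp), if_pos rfl, one_mul] at hexp
  rw [show (χ : G → ℂ) ((v : G) * y) = F v from rfl, hexp]
  field_simp

open scoped Classical in
/-- Splitting a sum supported on elements with p-part in `P`. -/
theorem sum_pSection [Fact p.Prime] [Fintype P] (hP : IsPGroup p P)
    (hG : P ⊔ Subgroup.centralizer (P : Set G) = ⊤) (φ : G → ℂ)
    (hφ : ∀ g, pPartOf p g ∉ P → φ g = 0) :
    ∑ g, φ g =
      ∑ v : P, ∑ y ∈ Finset.univ.filter (Cfsg.IsPRegular p), φ ((v : G) * y) := by
  classical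
  have hp := (Fact.out : p.Prime)
  rw [← Finset.sum_subset (Finset.subset_univ (Finset.univ.filter fun g => pPartOf p g ∈ P))
    (fun g _ hg => hφ g fun h => hg (Finset.mem_filter.2 ⟨Finset.mem_univ g, h⟩)),
    ← Finset.sum_product']
  symm
  have hparts : ∀ (v : P) (y : G), Cfsg.IsPRegular p y →
      pPartOf p ((v : G) * y) = v ∧ pPrimePartOf p ((v : G) * y) = y := by
    intro v y hy
    obtain ⟨l, hl⟩ := (IsPGroup.iff_orderOf.1 hP) v
    rw [← Subgroup.orderOf_coe] at hl
    exact parts_mul hp (Subgroup.mem_centralizer_iff.1 (regular_mem_centralizer hP hG hy) _ v.2)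
      ⟨l, hl⟩ hy
  refine Finset.sum_bij' (fun t _ => (t.1 : G) * t.2)
    (fun g hg => (⟨pPartOf p g, (Finset.mem_filter.1 hg).2⟩, pPrimePartOf p g)) ?_ ?_ ?_ ?_ ?_
  · rintro ⟨v, y⟩ ht
    obtain ⟨-, hy⟩ := Finset.mem_product.1 ht
    refine Finset.mem_filter.2 ⟨Finset.mem_univ _, ?_⟩
    rw [(hparts v y (Finset.mem_filter.1 hy).2).1]
    exact v.2
  · intro g _
    exact Finset.mem_product.2 ⟨Finset.mem_univ _, Finset.mem_filter.2
      ⟨Finset.mem_univ _, not_dvd_orderOf_pPrimePartOf hp g⟩⟩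
  · rintro ⟨v, y⟩ ht
    obtain ⟨-, hy⟩ := Finset.mem_product.1 ht
    have h := hparts v y (Finset.mem_filter.1 hy).2
    exact Prod.ext (Subtype.ext h.1) h.2
  · intro g _
    exact pPartOf_mul_pPrimePartOf hp g
  · intros
    rfl

/-- A block with defect group `P` of `G = P C(P)`. -/
theorem central_product [Fact p.Prime] [Fintype P] (hM : Cfsg.IsPModular p M) (hP : IsPGroup p P)
    (hG : P ⊔ Subgroup.centralizer (P : Set G) = ⊤) {B : Set (Cfsg.IrrCharacter G)}
    (hB : Cfsg.IsPBlock M B) (hD : Cfsg.IsDefectGroup p M B P) :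
    ∃ θ : Cfsg.IrrCharacter G, θ ∈ B ∧ (∀ x ∈ P, (θ : G → ℂ) x = (θ : G → ℂ) 1) ∧
      (∀ θ' ∈ B, (∀ x ∈ P, ((θ' : Cfsg.IrrCharacter G) : G → ℂ) x = (θ' : G → ℂ) 1) → θ' = θ) ∧
      (Cfsg.charDegree (θ : G → ℂ)).factorization p = P.index.factorization p ∧
      ∃ e : B ≃ Cfsg.IrrCharacter P, ∀ χ : B,
        Cfsg.classInner (fun n : P => ((χ : Cfsg.IrrCharacter G) : G → ℂ) n)
          (e χ : P → ℂ) ≠ 0 ∧
        ((χ : Cfsg.IrrCharacter G) : G → ℂ) 1 = (e χ : P → ℂ) 1 * (θ : G → ℂ) 1 := by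
  classical
  have hp := hM.1
  obtain ⟨θ, hθB, hθP⟩ := exists_mem_trivial_on P hM hP hB
  set n := Cfsg.charDegree (θ : G → ℂ) with hn
  have hθc := Char.IsIrr.isCharacter θ.2
  have hn1 : (θ : G → ℂ) 1 = (n : ℂ) := (charDegree_cast hθc).symm
  obtain ⟨φ, hφi, hφ⟩ := Char.IsIrr.exists_quotient P θ.2 hθP
  let φ' : Cfsg.IrrCharacter (G ⧸ P) := ⟨φ, hφi⟩
  have : Fintype (G ⧸ P) := Fintype.ofFinite _
  have hφ1 : φ 1 = (n : ℂ) := by rw [← hn1, hφ 1, QuotientGroup.mk_one]
  have hndvd : n ∣ P.index := Char.IsIrr.degree_dvd_card hφi hφ1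
  have hθdeg : n.factorization p = P.index.factorization p := by
    refine le_antisymm ((Nat.factorization_le_iff_dvd (charDegree_pos θ.2).ne'
      Subgroup.index_ne_zero_of_finite).2 hndvd p) ?_
    have h1 := BlockChar.card_defectGroup hM hB hD
    have e := congrArg (fun t => t.factorization p) (Subgroup.index_mul_card P)
    simp only [Nat.factorization_mul Subgroup.index_ne_zero_of_finite Nat.card_pos.ne',
      Finsupp.add_apply] at e
    rw [h1, hp.factorization_pow, Finsupp.single_eq_same, BlockChar.blockDefect_eq] at e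
    have h2 := BlockChar.minVal_le (p := p) hθB
    rw [← hn] at h2
    omega
  have hCidx := index_centralizer_pow (p := p) hP hG
  have hregC : ∀ {y : G}, Cfsg.IsPRegular p y → y ∈ Subgroup.centralizer (P : Set G) := fun h =>
    regular_mem_centralizer hP hG h
  -- the block of `φ` is a singleton
  have hsing : Cfsg.blockOf M (φ : G ⧸ P → ℂ) = {φ'} := by
    refine blockOf_eq_singleton hM φ' ?_
    obtain ⟨c, hc⟩ := hndvd
    have hφn : Cfsg.charDegree (φ' : G ⧸ P → ℂ) = n :=
      charDegree_eq (n := n) hφ1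
    rw [hφn, show Nat.card (G ⧸ P) = n * c from hc, Nat.mul_div_cancel_left _ (charDegree_pos θ.2)]
    intro hpc
    have hc0 : c ≠ 0 := fun h => Subgroup.index_ne_zero_of_finite (by rw [hc, h, mul_zero])
    rw [hc, Nat.factorization_mul (show n ≠ 0 from (charDegree_pos θ.2).ne') hc0, Finsupp.add_apply] at hθdeg
    have := Nat.Prime.factorization_pos_of_dvd hp hc0 hpc
    omega
  -- on p-regular elements the characters of the block are proportional to `θ`
  have hprop : ∀ χ ∈ B, ∀ y, Cfsg.IsPRegular p y →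
      ((χ : Cfsg.IrrCharacter G) : G → ℂ) y * (n : ℂ) = (χ : G → ℂ) 1 * (θ : G → ℂ) y := by
    intro χ hχ
    set f := eta p (χ : G → ℂ) with hf
    set F := push P f with hF
    have hFc : Cfsg.IsClassFunction (G ⧸ P) F :=
      isClassFunction_push P (isClassFunction_eta (Char.isClassFunction_of_isIrr χ.2))
    have hom : ∀ ψ : Cfsg.IrrCharacter (G ⧸ P), ψ ≠ φ' → omega (ψ : G ⧸ P → ℂ) F = 0 := by
      intro ψ hψ
      rw [hF, ← omega_comp_mk]
      refine omega_eta_eq_zero (χ := χ)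
        (ψ := ⟨_, Char.isIrrCharacter_mk P ψ.2⟩) hM fun hs => hψ ?_
      have hs' : Cfsg.SameBlock M (θ : G → ℂ) fun g => (ψ : G ⧸ P → ℂ) (g : G ⧸ P) :=
        sameBlock_trans hM (IsPBlock.sameBlock hM hB hθB hχ) hs
      rw [show (θ : G → ℂ) = fun g : G => φ (g : G ⧸ P) from funext hφ] at hs'
      have := (sameBlock_quotient_iff P hM hP hCidx φ' ψ).2 hs'
      have hmem : ψ ∈ Cfsg.blockOf M (φ : G ⧸ P → ℂ) := this
      rwa [hsing, Set.mem_singleton_iff] at hmem
    have hval : ∀ y : G, Cfsg.IsPRegular p y → F (y : G ⧸ P) = conj ((χ : G → ℂ) y) := by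
      intro y hy
      rw [hF]
      simp only [push]
      rw [Finset.sum_eq_single y]
      · rw [if_pos rfl, hf, eta_of_regular _ hy]
      · intro x _ hx
        split_ifs with hxq
        · rw [hf, eta_of_singular _]
          intro hxr
          refine hx ?_
          have hu : y⁻¹ * x ∈ P := by rw [← QuotientGroup.eq]; exact hxq.symm
          have hcomm : Commute (y⁻¹ * x) y := Subgroup.mem_centralizer_iff.1 (hregC hy) _ hu
          obtain ⟨k, hk⟩ := (IsPGroup.iff_orderOf.1 hP) ⟨_, hu⟩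
          rw [Subgroup.orderOf_mk] at hk
          have hpp := parts_mul hp hcomm ⟨k, hk⟩ hy
          rw [hcomm.eq, mul_inv_cancel_left] at hpp
          exact (inv_mul_eq_one.1 (hpp.1.symm.trans ((pPartOf_eq_one_iff hp x).2 hxr))).symm
        · rfl
      · simp
    intro y hy
    set K := (Nat.card (G ⧸ P) : ℂ)⁻¹ * ((n : ℂ) * omega (φ : G ⧸ P → ℂ) F) with hK
    have hy' : ∀ z : G, Cfsg.IsPRegular p z → conj ((χ : G → ℂ) z) = K * conj ((θ : G → ℂ) z) := by
      intro z hz
      rw [← hval z hz, apply_eq_sum_omega hFc, Finset.sum_eq_single φ'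
        (fun ψ _ hψ => by rw [hom ψ hψ, mul_zero, zero_mul]) (by simp), hφ z, hK,
        show (φ' : G ⧸ P → ℂ) = φ from rfl, hφ1]
      ring
    have h1 := hy' 1 (by rw [Cfsg.IsPRegular, orderOf_one]; exact hp.not_dvd_one)
    have hy1 := hy' y hy
    apply (starRingEnd ℂ).injective
    rw [map_mul, map_mul, h1, hy1, hn1]
    ring
  -- constituents on `P`
  have hex : ∀ χ : Cfsg.IrrCharacter G, ∃ μ : Cfsg.IrrCharacter P,
      Cfsg.classInner (fun m : P => (χ : G → ℂ) m) (μ : P → ℂ) ≠ 0 := fun χ =>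
    Char.exists_constituent_res (N := P) χ.2
  choose μ hμ using hex
  have hθμ : μ θ = triv P := by
    have hc := (triv_constituent_iff (N := P) θ.2).2 hθP
    have h := char_mul_eq hG θ (triv P) hc
    have h' := char_mul_eq hG θ (μ θ) (hμ θ)
    have he : ∀ v : P, ((μ θ) : P → ℂ) v = ((μ θ) : P → ℂ) 1 := fun v => by
      have h1 := h v (one_mem _)
      have h2 := h' v (one_mem _)
      simp only [triv, mul_one, one_mul] at h1 h2
      rw [h1] at h2
      exact (mul_right_cancel₀ (Char.IsIrr.one_ne_zero θ.2) h2).symm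
    by_contra hne
    have h3 := (Char.classInner_irrChar (μ θ) (triv P)).trans (if_neg hne)
    rw [Cfsg.classInner] at h3
    simp only [triv, map_one, mul_one, he, Finset.sum_const, Finset.card_univ, nsmul_eq_mul,
      ← Nat.card_eq_fintype_card] at h3
    rw [← mul_assoc, inv_mul_cancel₀ Char.card_ne_zero, one_mul] at h3
    exact Char.IsIrr.one_ne_zero (μ θ).2 h3
  set R := Finset.univ.filter (Cfsg.IsPRegular p (G := G)) with hR
  set T := ∑ y ∈ R, (θ : G → ℂ) y * conj ((θ : G → ℂ) y) with hT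
  -- inner products inside the block
  have hpair : ∀ χ ∈ B, ∀ χ' ∈ B,
      ((χ : Cfsg.IrrCharacter G) : G → ℂ) 1 * ((χ' : Cfsg.IrrCharacter G) : G → ℂ) 1 *
        ((if μ χ = μ χ' then (Nat.card P : ℂ) else 0) * T) =
      (if χ = χ' then (Nat.card G : ℂ) else 0) * ((μ χ : P → ℂ) 1 * (μ χ' : P → ℂ) 1) *
        ((n : ℂ) * (n : ℂ)) := by
    intro χ hχ χ' hχ'
    have hG' : ∀ a b : Cfsg.IrrCharacter G, ∑ y, (a : G → ℂ) y * conj ((b : G → ℂ) y) =
        if a = b then (Nat.card G : ℂ) else 0 := by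
      intro a b
      have h := Char.classInner_irrChar a b
      rw [Cfsg.classInner, inv_mul_eq_iff_eq_mul₀ Char.card_ne_zero] at h
      rw [h]
      split_ifs <;> simp
    have hP' : ∑ v : P, (μ χ : P → ℂ) v * conj ((μ χ' : P → ℂ) v) =
        if μ χ = μ χ' then (Nat.card P : ℂ) else 0 := by
      have h := Char.classInner_irrChar (μ χ) (μ χ')
      rw [Cfsg.classInner, inv_mul_eq_iff_eq_mul₀ Char.card_ne_zero] at h
      rw [h]
      split_ifs <;> simp
    rw [← hG', ← hP', hT, sum_pSection (p := p) hP hG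
      (fun g => (χ : G → ℂ) g * conj ((χ' : G → ℂ) g)) fun g hg => by
        rw [char_eq_zero_of_pPart_notMem hM hB hD hχ (g := g) (fun k hk => hg (by
          have := (inferInstance : P.Normal).conj_mem _ hk k⁻¹
          simpa [mul_assoc] using this)), zero_mul]]
    simp only [Finset.sum_mul, Finset.mul_sum]
    rw [Finset.sum_comm]
    refine Finset.sum_congr rfl fun v _ => Finset.sum_congr rfl fun y hy => ?_
    have hyr := (Finset.mem_filter.1 hy).2
    have e1 := char_mul_eq hG χ (μ χ) (hμ χ) v (hregC hyr)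
    have e2 := congrArg conj (char_mul_eq hG χ' (μ χ') (hμ χ') v (hregC hyr))
    have e3 := hprop χ hχ y hyr
    have e4 := congrArg conj (hprop χ' hχ' y hyr)
    have hreal : ∀ {K : Type u} [Group K] [Finite K] (a : Cfsg.IrrCharacter K),
        conj ((a : K → ℂ) 1) = (a : K → ℂ) 1 := fun a => by
      rw [← charDegree_cast (Char.IsIrr.isCharacter a.2), Complex.conj_natCast]
    simp only [map_mul, Complex.conj_natCast, hreal] at e2 e4
    calc (χ : G → ℂ) 1 * (χ' : G → ℂ) 1 * ((μ χ : P → ℂ) v * conj ((μ χ' : P → ℂ) v) *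
          ((θ : G → ℂ) y * conj ((θ : G → ℂ) y))) =
        (μ χ : P → ℂ) v * conj ((μ χ' : P → ℂ) v) * (((χ : G → ℂ) 1 * (θ : G → ℂ) y) *
          ((χ' : G → ℂ) 1 * conj ((θ : G → ℂ) y))) := by ring
      _ = ((μ χ : P → ℂ) v * (χ : G → ℂ) y) * (conj ((μ χ' : P → ℂ) v) * conj ((χ' : G → ℂ) y)) *
          ((n : ℂ) * (n : ℂ)) := by rw [← e3, ← e4]; ring
      _ = (χ : G → ℂ) ((v : G) * y) * conj ((χ' : G → ℂ) ((v : G) * y)) *
          ((μ χ : P → ℂ) 1 * (μ χ' : P → ℂ) 1) * ((n : ℂ) * (n : ℂ)) := by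
        rw [← e1, ← e2]; ring
  have hn0 : (n : ℂ) ≠ 0 := Nat.cast_ne_zero.2 (charDegree_pos θ.2).ne'
  have hPT : (Nat.card P : ℂ) * T = (Nat.card G : ℂ) := by
    have h := hpair θ hθB θ hθB
    rw [if_pos rfl, if_pos rfl, hθμ, hn1] at h
    simp only [triv, one_mul, mul_one] at h
    apply mul_left_cancel₀ (mul_ne_zero hn0 hn0)
    rw [h]
    ring
  have hT0 : T ≠ 0 := fun h => Char.card_ne_zero (G := G) (by rw [← hPT, h, mul_zero])
  have hinj : ∀ χ ∈ B, ∀ χ' ∈ B, μ χ = μ χ' → (χ : Cfsg.IrrCharacter G) = χ' := by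
    intro χ hχ χ' hχ' he
    by_contra hne
    have h := hpair χ hχ χ' hχ'
    rw [if_pos he, if_neg hne, zero_mul, zero_mul] at h
    refine (mul_ne_zero (mul_ne_zero (Char.IsIrr.one_ne_zero χ.2) (Char.IsIrr.one_ne_zero χ'.2))
      (mul_ne_zero Char.card_ne_zero hT0)) h
  have hdeg : ∀ χ ∈ B, ((χ : Cfsg.IrrCharacter G) : G → ℂ) 1 =
      (μ χ : P → ℂ) 1 * (θ : G → ℂ) 1 := by
    intro χ hχ
    have h := hpair χ hχ χ hχ
    rw [if_pos rfl, if_pos rfl, hPT] at h
    rw [← charDegree_cast (Char.IsIrr.isCharacter χ.2),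
      ← charDegree_cast (Char.IsIrr.isCharacter (μ χ).2)] at h ⊢
    rw [hn1]
    have h' : (((Cfsg.charDegree (χ : G → ℂ)) ^ 2 * Nat.card G : ℕ) : ℂ) =
        (((Cfsg.charDegree (μ χ : P → ℂ) * n) ^ 2 * Nat.card G : ℕ) : ℂ) := by
      push_cast
      linear_combination h
    rw [Nat.cast_inj] at h'
    rw [← Nat.cast_mul, Nat.cast_inj]
    exact Nat.pow_left_injective two_ne_zero (Nat.eq_of_mul_eq_mul_right Nat.card_pos h')
  have hsurj : ∀ ν : Cfsg.IrrCharacter P, ∃ χ ∈ B, μ χ = ν := by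
    intro ν
    set f : G → ℂ := fun g => if h : pPartOf p g ∈ P then
      conj ((ν : P → ℂ) ⟨_, h⟩) * conj ((θ : G → ℂ) (pPrimePartOf p g)) else 0 with hf
    have hfval : ∀ (v : P) (y : G), Cfsg.IsPRegular p y →
        f ((v : G) * y) = conj ((ν : P → ℂ) v) * conj ((θ : G → ℂ) y) := by
      intro v y hy
      obtain ⟨l, hl⟩ := (IsPGroup.iff_orderOf.1 hP) v
      rw [← Subgroup.orderOf_coe] at hl
      have h := parts_mul hp (Subgroup.mem_centralizer_iff.1 (hregC hy) _ v.2) ⟨l, hl⟩ hy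
      simp only [hf, h.1, h.2, SetLike.coe_mem, dite_true, Subtype.coe_eta]
    have hfc : Cfsg.IsClassFunction G f := by
      intro g k
      by_cases h : pPartOf p g ∈ P
      · have hd := pPartOf_mul_pPrimePartOf hp g
        set v : P := ⟨pPartOf p g, h⟩
        set y := pPrimePartOf p g
        have hy : Cfsg.IsPRegular p y := not_dvd_orderOf_pPrimePartOf hp g
        have hy' : Cfsg.IsPRegular p (k * y * k⁻¹) := by
          rw [Cfsg.IsPRegular, Blocks.orderOf_conj']; exact hy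
        have e : k * g * k⁻¹ = ((MulAut.conjNormal k v : P) : G) * (k * y * k⁻¹) := by
          rw [← hd, MulAut.conjNormal_apply]
          show k * ((v : G) * y) * k⁻¹ = k * (v : G) * k⁻¹ * (k * y * k⁻¹)
          group
        rw [e, hfval _ _ hy', show g = (v : G) * y from hd.symm, hfval _ _ hy,
          Char.isClassFunction_of_isIrr θ.2 y k]
        congr 2
        have := congrFun (invariant_of_sup hG (Char.isClassFunction_of_isIrr ν.2) k) v
        rw [Char.conjFun_eq_comp] at this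
        exact this
      · have h' : pPartOf p (k * g * k⁻¹) ∉ P := by
          rw [pPartOf_conj]
          exact fun hh => h (by simpa [mul_assoc] using
            (inferInstance : P.Normal).conj_mem _ hh k⁻¹)
        simp only [hf, dif_neg h, dif_neg h']
    obtain ⟨ψ, hψ⟩ : ∃ ψ : Cfsg.IrrCharacter G, omega (ψ : G → ℂ) f ≠ 0 := by
      by_contra! hall
      have hz : f = 0 := classFun_ext_omega hfc (fun _ _ => rfl) fun ψ => by
        rw [hall ψ]; simp [omega]
      have h := hfval 1 1 (by rw [Cfsg.IsPRegular, orderOf_one]; exact hp.not_dvd_one)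
      rw [hz, Pi.zero_apply] at h
      exact mul_ne_zero (by simpa using Char.IsIrr.one_ne_zero ν.2)
        (by simpa using Char.IsIrr.one_ne_zero θ.2) h.symm
    have hsum : (∑ g, f g * (ψ : G → ℂ) g) * (μ ψ : P → ℂ) 1 =
        (∑ v : P, (μ ψ : P → ℂ) v * conj ((ν : P → ℂ) v)) *
          ∑ y ∈ R, conj ((θ : G → ℂ) y) * (ψ : G → ℂ) y := by
      rw [sum_pSection (p := p) hP hG (fun g => f g * (ψ : G → ℂ) g) fun g hg => by
        simp only [hf, dif_neg hg, zero_mul]]
      simp only [Finset.sum_mul, Finset.mul_sum]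
      conv_rhs => rw [Finset.sum_comm]
      refine Finset.sum_congr rfl fun v _ => Finset.sum_congr rfl fun y hy => ?_
      have hyr := (Finset.mem_filter.1 hy).2
      rw [hfval v y hyr]
      linear_combination conj ((ν : P → ℂ) v) * conj ((θ : G → ℂ) y) *
        char_mul_eq hG ψ (μ ψ) (hμ ψ) v (hregC hyr)
    have hne : (∑ g, f g * (ψ : G → ℂ) g) * (μ ψ : P → ℂ) 1 ≠ 0 := by
      refine mul_ne_zero (fun h => hψ ?_) (Char.IsIrr.one_ne_zero (μ ψ).2)
      rw [omega, h, zero_div]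
    rw [hsum] at hne
    refine ⟨ψ, ?_, ?_⟩
    · by_contra hψB
      refine right_ne_zero_of_mul hne ?_
      rw [← sum_eta_mul_eq_zero hM hB hθB hψB, hR, Finset.sum_filter]
      refine Finset.sum_congr rfl fun y _ => ?_
      split_ifs with hy
      · rw [eta_of_regular _ hy]
      · rw [eta_of_singular _ hy, zero_mul]
    · by_contra hne'
      refine left_ne_zero_of_mul hne ?_
      have h := Char.classInner_irrChar (μ ψ) ν
      rw [if_neg hne', Cfsg.classInner, mul_eq_zero, inv_eq_zero] at h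
      exact h.resolve_left Char.card_ne_zero
  refine ⟨θ, hθB, hθP, fun θ' hθ' htr => hinj θ' hθ' θ hθB ?_, hθdeg,
    Equiv.ofBijective (fun χ : B => μ χ) ⟨fun a b h => Subtype.ext (hinj a a.2 b b.2 h),
      fun ν => let ⟨χ, hχ, he⟩ := hsurj ν; ⟨⟨χ, hχ⟩, he⟩⟩, fun χ => ⟨hμ χ, hdeg χ χ.2⟩⟩
  rw [hθμ]
  have hc := (triv_constituent_iff (N := P) θ'.2).2 htr
  have he : ∀ v : P, ((μ θ') : P → ℂ) v = ((μ θ') : P → ℂ) 1 := fun v => by
    have h1 := char_mul_eq hG θ' (triv P) hc v (one_mem _)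
    have h2 := char_mul_eq hG θ' (μ θ') (hμ θ') v (one_mem _)
    simp only [triv, mul_one, one_mul] at h1 h2
    rw [h1] at h2
    exact (mul_right_cancel₀ (Char.IsIrr.one_ne_zero θ'.2) h2).symm
  by_contra hne
  have h3 := (Char.classInner_irrChar (μ θ') (triv P)).trans (if_neg hne)
  rw [Cfsg.classInner] at h3
  simp only [triv, map_one, mul_one, he, Finset.sum_const, Finset.card_univ, nsmul_eq_mul,
    ← Nat.card_eq_fintype_card] at h3
  rw [← mul_assoc, inv_mul_cancel₀ Char.card_ne_zero, one_mul] at h3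
  exact Char.IsIrr.one_ne_zero (μ θ').2 h3

end CentralProduct

end Cfsg.Agent.DefectThms
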