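import Mathlib
import Cfsg.Agent.BlockThms.DefectCor
import Cfsg.Agent.Blocks.BrauerChar

/-!
# Blocks of full defect
-/

set_option autoImplicit false

namespace Cfsg.Agent.DefectThms

open scoped ComplexConjugate
open Cfsg.Agent Cfsg.Agent.Blocks

universe u

variable {G : Type u} [Group G] [Fintype G] {p : ℕ} [Fact p.Prime] {M : Ideal Cfsg.AlgInt}

omit [Fintype G] in
/-- The `p`-regular elements of the centralizer of a Sylow `p`-subgroup form a subgroup. -/
theorem exists_regular_subgroup [Finite G] (P : Sylow p G) :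
    ∃ K : Subgroup (Subgroup.centralizer ((P : Subgroup G) : Set G)),
      ¬ p ∣ Nat.card K ∧ ∀ c, c ∈ K ↔ ¬ p ∣ orderOf c := by
  classical
  set C := Subgroup.centralizer ((P : Subgroup G) : Set G) with hC
  obtain ⟨Q⟩ : Nonempty (Sylow p C) := inferInstance
  have hQP : ∀ q ∈ (Q : Subgroup C), (q : G) ∈ (P : Subgroup G) := by
    intro q hq
    have hQp : IsPGroup p ((Q : Subgroup C).map C.subtype) := Q.2.map _
    have hle : (Q : Subgroup C).map C.subtype ≤ Subgroup.normalizer ((P : Subgroup G) : Set G) :=
      (Subgroup.map_subtype_le _).trans (Subgroup.centralizer_le_normalizer _)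
    have hsup := IsPGroup.to_sup_of_normal_right' hQp P.2 hle
    exact P.3 hsup le_sup_right ▸ (Subgroup.mem_sup_left ⟨q, hq, rfl⟩)
  have hQC : Subgroup.normalizer ((Q : Subgroup C) : Set C) ≤
      Subgroup.centralizer ((Q : Subgroup C) : Set C) := by
    intro x _
    rw [Subgroup.mem_centralizer_iff]
    intro q hq
    exact Subtype.ext (Subgroup.mem_centralizer_iff.1 x.2 q (hQP q hq))
  set f := MonoidHom.transferSylow Q hQC
  have hcard : ¬ p ∣ Nat.card f.ker := MonoidHom.not_dvd_card_ker_transferSylow Q hQC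
  refine ⟨f.ker, hcard, fun c => ⟨fun hc hd => hcard (hd.trans ?_), fun hc => ?_⟩⟩
  · have := orderOf_dvd_natCard (⟨c, hc⟩ : f.ker)
    rwa [← Subgroup.orderOf_coe] at this
  · rw [MonoidHom.mem_ker, ← orderOf_eq_one_iff]
    obtain ⟨k, hk⟩ := (IsPGroup.iff_orderOf.1 Q.2) (f c)
    rcases Nat.eq_zero_or_pos k with rfl | hk0
    · rw [hk, pow_zero]
    · exact absurd (((dvd_pow_self p hk0.ne').trans (hk ▸ dvd_rfl)).trans (orderOf_map_dvd f c)) hc

omit [Fintype G] in
/-- Burnside fusion. -/
theorem exists_normalizer_conj [Finite G] (P : Sylow p G) {a b : G}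
    (ha : a ∈ Subgroup.centralizer ((P : Subgroup G) : Set G))
    (hb : b ∈ Subgroup.centralizer ((P : Subgroup G) : Set G)) (h : IsConj a b) :
    ∃ n ∈ Subgroup.normalizer ((P : Subgroup G) : Set G), n * a * n⁻¹ = b := by
  classical
  obtain ⟨g, hg⟩ := isConj_iff.1 h
  have hPC : (P : Subgroup G) ≤ Subgroup.centralizer ({b} : Set G) := fun u hu =>
    Subgroup.mem_centralizer_singleton_iff.2 (Subgroup.mem_centralizer_iff.1 hb u hu)
  have hS : IsSylC p b (P : Subgroup G) := by
    refine ⟨hPC, P.2, le_antisymm ?_ ?_⟩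
    · rw [P.card_eq_multiplicity]
      refine Nat.pow_le_pow_right (Fact.out : p.Prime).pos ?_
      rw [← (Fact.out : p.Prime).pow_dvd_iff_le_factorization Nat.card_pos.ne',
        ← P.card_eq_multiplicity]
      exact Subgroup.card_dvd_of_le hPC
    · rw [P.card_eq_multiplicity]
      exact Nat.pow_le_pow_right (Fact.out : p.Prime).pos
        ((Nat.factorization_le_iff_dvd Nat.card_pos.ne' Nat.card_pos.ne').2
          (Subgroup.card_subgroup_dvd_card _) p)
  have hR : (P : Subgroup G).map (MulAut.conj g).toMonoidHom ≤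
      Subgroup.centralizer ({b} : Set G) :=
    hg ▸ map_conj_le_centralizer (fun u hu => Subgroup.mem_centralizer_singleton_iff.2
      (Subgroup.mem_centralizer_iff.1 ha u hu)) g
  obtain ⟨c, hc, hle⟩ := hS.exists_conj_le (P.2.map _) hR
  rw [map_conj_map_conj] at hle
  have heq := Subgroup.eq_of_le_of_card_ge hle (by rw [card_map_conj])
  refine ⟨c * g, ?_, ?_⟩
  · rw [Subgroup.mem_normalizer_iff]
    intro u
    constructor
    · intro hu
      have : c * g * u * (c * g)⁻¹ ∈ (P : Subgroup G).map (MulAut.conj (c * g)).toMonoidHom :=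
        ⟨u, hu, rfl⟩
      rwa [heq] at this
    · intro hu
      rw [← heq] at hu
      obtain ⟨v, hv, hvu⟩ := hu
      simp only [MulEquiv.coe_toMonoidHom, MulAut.conj_apply] at hvu
      rwa [mul_left_cancel (mul_right_cancel hvu)] at hv
  · rw [show c * g * a * (c * g)⁻¹ = c * (g * a * g⁻¹) * c⁻¹ by group, hg,
      Subgroup.mem_centralizer_singleton_iff.1 hc, mul_inv_cancel_right]

/-- A block has full defect iff a Sylow `p`-subgroup is a defect group. -/
theorem isDefectGroup_sylow_iff (hM : Cfsg.IsPModular p M) {B : Set (Cfsg.IrrCharacter G)}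
    (hB : Cfsg.IsPBlock M B) (P : Sylow p G) :
    Cfsg.IsDefectGroup p M B (P : Subgroup G) ↔
      (Nat.card G).factorization p ≤ Cfsg.blockDefect p B := by
  constructor
  · intro h
    have h1 := BlockChar.card_defectGroup hM hB h
    rw [P.card_eq_multiplicity] at h1
    exact (Nat.pow_right_injective hM.1.two_le h1).le
  · intro h
    obtain ⟨D, hD⟩ := exists_defectGroup hM hB
    have hDp := isPGroup_of_isDefectGroup hD
    obtain ⟨Q, hQ⟩ := hDp.exists_le_sylow
    have hDQ : D = Q := Subgroup.eq_of_le_of_card_ge hQ (by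
      rw [Q.card_eq_multiplicity, BlockChar.card_defectGroup hM hB hD]
      exact Nat.pow_le_pow_right hM.1.pos h)
    obtain ⟨x, hx⟩ := MulAction.exists_smul_eq G Q P
    subst hDQ
    rw [← hx]
    exact isDefectGroup_conj hD x

/-- Counting the blocks of full defect. -/
theorem card_full_defect (hM : Cfsg.IsPModular p M) (P : Sylow p G) :
    Nat.card {B : Set (Cfsg.IrrCharacter G) //
        Cfsg.IsPBlock M B ∧ Cfsg.IsDefectGroup p M B (P : Subgroup G)} =
      Nat.card {C : ConjClasses (Subgroup.normalizer ((P : Subgroup G) : Set G)) //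
        ∀ n : Subgroup.normalizer ((P : Subgroup G) : Set G), ConjClasses.mk n = C →
          ¬ p ∣ orderOf n ∧ (n : G) ∈ Subgroup.centralizer ((P : Subgroup G) : Set G)} := by
  classical
  set N := Subgroup.normalizer ((P : Subgroup G) : Set G) with hN
  set C := Subgroup.centralizer ((P : Subgroup G) : Set G) with hC
  have : Fintype N := Fintype.ofFinite _
  have hCN : C ≤ N := Subgroup.centralizer_le_normalizer _
  set a := (Nat.card G).factorization p
  set S := {B : Set (Cfsg.IrrCharacter G) //
    Cfsg.IsPBlock M B ∧ Cfsg.IsDefectGroup p M B (P : Subgroup G)}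
  set T := {D : ConjClasses N // ∀ n : N, ConjClasses.mk n = D →
    ¬ p ∣ orderOf n ∧ (n : G) ∈ C}
  have : Finite (ConjClasses N) := Quotient.finite _
  have : Finite (ConjClasses G) := Quotient.finite _
  have hmem : ∀ (n n' : N), IsConj n n' → (n : G) ∈ C → (n' : G) ∈ C := by
    intro n n' h hn
    obtain ⟨k, rfl⟩ := isConj_iff.1 h
    simpa [hC] using mem_centralizer_conj k.2 (hC ▸ hn)
  have hreg : ∀ (n n' : N), IsConj n n' → orderOf n = orderOf n' := by
    intro n n' h
    obtain ⟨k, rfl⟩ := isConj_iff.1 h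
    exact (orderOf_injective (MulAut.conj k).toMonoidHom (MulAut.conj k).injective n).symm
  have hout : ∀ D : T, ¬ p ∣ orderOf D.1.out ∧ ((D.1.out : N) : G) ∈ C := fun D =>
    D.2 _ (Quotient.out_eq D.1)
  refine le_antisymm ?_ ?_
  · -- by surjecting onto the classes of maximal defect
    have h1 := card_blocks_le hM (G := G) (p := p) a
    refine le_trans (le_of_eq (Nat.card_congr (Equiv.subtypeEquivRight fun B => ?_)))
      (h1.trans ?_)
    · exact and_congr_right fun hB => isDefectGroup_sylow_iff hM hB P
    refine Nat.card_le_card_of_surjective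
      (fun D : T => ⟨ConjClasses.mk ((D.1.out : N) : G), _, rfl,
        by rw [Cfsg.IsPRegular, Subgroup.orderOf_coe]; exact (hout D).1, ?_⟩) ?_
    · rw [← hM.1.pow_dvd_iff_le_factorization Nat.card_pos.ne', ← P.card_eq_multiplicity]
      exact Subgroup.card_dvd_of_le fun u hu => Subgroup.mem_centralizer_singleton_iff.2
        (Subgroup.mem_centralizer_iff.1 (hout D).2 u hu)
    rintro ⟨-, g, rfl, hg, hga⟩
    obtain ⟨R, hR⟩ := exists_isSylC p g
    obtain ⟨Q, hQ⟩ := hR.2.1.exists_le_sylow
    have hRQ : R = Q := Subgroup.eq_of_le_of_card_ge hQ (by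
      rw [Q.card_eq_multiplicity, hR.2.2]
      exact Nat.pow_le_pow_right hM.1.pos hga)
    obtain ⟨x, hx⟩ := MulAction.exists_smul_eq G Q P
    have hxC : x * g * x⁻¹ ∈ C := by
      rw [hC, ← hx]
      exact BlockThms.mem_centralizer_of_le (map_conj_le_centralizer (hRQ ▸ hR.1) x)
    set n : N := ⟨x * g * x⁻¹, hCN hxC⟩
    have hn : ¬ p ∣ orderOf n := by
      rw [← Subgroup.orderOf_coe]
      show ¬ p ∣ orderOf (x * g * x⁻¹)
      rw [Blocks.orderOf_conj']
      exact hg
    refine ⟨⟨ConjClasses.mk n, fun n' hn' => ?_⟩, Subtype.ext ?_⟩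
    · have h := ConjClasses.mk_eq_mk_iff_isConj.1 hn'
      exact ⟨hreg _ _ h ▸ hn, hmem _ _ h.symm hxC⟩
    · refine ConjClasses.mk_eq_mk_iff_isConj.2 ?_
      obtain ⟨k, hk⟩ := isConj_iff.1 (ConjClasses.mk_eq_mk_iff_isConj.1
        (Quotient.out_eq (ConjClasses.mk n) : ConjClasses.mk (ConjClasses.mk n).out = _))
      refine isConj_iff.2 ⟨x⁻¹ * (k : G), ?_⟩
      have hk' : (k : G) * ((ConjClasses.mk n).out : N) * (k : G)⁻¹ = x * g * x⁻¹ :=
        congrArg Subtype.val hk
      calc x⁻¹ * (k : G) * ((ConjClasses.mk n).out : N) * (x⁻¹ * (k : G))⁻¹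
          = x⁻¹ * ((k : G) * ((ConjClasses.mk n).out : N) * (k : G)⁻¹) * x := by group
        _ = g := by rw [hk']; group
  · -- the central characters of the blocks separate the classes
    have := hM.2.1
    let _ := Ideal.Quotient.field M
    have : Fintype S := Fintype.ofFinite _
    have : Fintype T := Fintype.ofFinite _
    have hrep : ∀ B : S, ∃ χ, χ ∈ B.1 := fun B => IsPBlock.nonempty hM B.2.1
    choose χ hχ using hrep
    let A : Matrix S T (localRing hM) := fun B D =>
      ⟨omega (χ B : G → ℂ) (classInd ((D.1.out : N) : G)),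
        memLocalRing_omega hM (χ B).2 (isClassFunction_classInd _)
          (Blocks.memLocalRing_classInd hM _)⟩
    have hinj : Function.Injective (Matrix.mulVecLin (A.map (residue hM))) := by
      rw [← LinearMap.ker_eq_bot, LinearMap.ker_eq_bot']
      intro v hv
      have hlift : ∀ D : T, ∃ c : localRing hM, residue hM c = v D := fun D => by
        obtain ⟨c, hc⟩ := Ideal.Quotient.mk_surjective (v D)
        exact ⟨⟨(c : ℂ), memLocalRing_coe hM c⟩, (residue_coe hM c).trans hc⟩
      choose c hc using hlift
      set z : G → ℂ := ∑ D : T, (c D : ℂ) • classInd ((D.1.out : N) : G) with hz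
      have hzc : Cfsg.IsClassFunction G z := fun x k => by
        simp only [hz, Finset.sum_apply, Pi.smul_apply, isClassFunction_classInd _ x k]
      have hzR : ∀ x, Cfsg.MemLocalRing M (z x) := fun x => by
        simp only [hz, Finset.sum_apply, Pi.smul_apply, smul_eq_mul]
        exact (localRing hM).sum_mem fun D _ =>
          (localRing hM).mul_mem (c D).2 (Blocks.memLocalRing_classInd hM _ _)
      have hzB : ∀ B : S, ∀ ψ ∈ B.1, Cfsg.MemLocalIdeal M (omega (ψ : G → ℂ) z) := by
        intro B ψ hψ
        have h0 : Cfsg.MemLocalIdeal M (omega (χ B : G → ℂ) z) := by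
          have h1 := congrFun hv B
          have h2 : ((∑ D, A B D * c D : localRing hM) : ℂ) = omega (χ B : G → ℂ) z := by
            rw [hz, omega_sum, AddSubmonoidClass.coe_finsetSum]
            exact Finset.sum_congr rfl fun D _ => by rw [omega_smul, mul_comm]; rfl
          rw [← h2, ← residue_eq_zero_iff]
          rw [map_sum]
          simpa [Matrix.mulVec, dotProduct, hc] using h1
        have := memLocalIdeal_add hM (memLocalIdeal_omega_sub hM ψ.2 (χ B).2 hzc hzR
          (IsPBlock.sameBlock hM B.2.1 hψ (hχ B))) h0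
        simpa using this
      have hθ : ∀ θ : Cfsg.IrrCharacter N,
          Cfsg.MemLocalIdeal M (omega (θ : N → ℂ) (trunc (P : Subgroup G) N z)) := by
        intro θ
        have hΦ := isCenHom_trunc hM P.2 hCN (le_refl _) θ
        obtain ⟨B, ⟨hB, hB'⟩, -⟩ := hΦ.existsUnique_block hM
        obtain ⟨ψ, hψ⟩ := IsPBlock.nonempty hM hB
        have he := hB' ψ hψ _ (isClassFunction_blockCoeff B) (memLocalRing_blockCoeff hM hB)
        rw [omega_blockCoeff, if_pos hψ] at he
        obtain ⟨x, hx, hxe⟩ : ∃ x ∈ C, ¬ Cfsg.MemLocalIdeal M (Cfsg.blockCoeff B x) := by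
          by_contra hne
          have : Fintype (ConjClasses N) := Fintype.ofFinite _
          refine not_memLocalIdeal_one hM ?_
          have h0 : Cfsg.MemLocalIdeal M
              (omega (θ : N → ℂ) (trunc (P : Subgroup G) N (Cfsg.blockCoeff B))) := by
            rw [omega_eq_sum_classes (Char.isClassFunction_of_isIrr θ.2)
              (isClassFunction_trunc (le_refl _) (isClassFunction_blockCoeff B))]
            refine memLocalIdeal_sum hM _ fun D _ =>
              memLocalIdeal_mul_right hM ?_ (memLocalRing_centralChar hM θ.2 _)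
            rw [trunc_apply]
            split_ifs with h
            · exact not_not.1 fun h' => hne ⟨_, h, h'⟩
            · exact memLocalIdeal_zero hM
          simpa using memLocalIdeal_sub hM h0 he
        have hPle : (P : Subgroup G) ≤ Subgroup.centralizer ({x} : Set G) := fun u hu =>
          Subgroup.mem_centralizer_singleton_iff.2 (Subgroup.mem_centralizer_iff.1 hx u hu)
        obtain ⟨R, hR, hPR⟩ := exists_le_isSylC P.2 hPle
        obtain ⟨D, hD⟩ := exists_defectGroup hM hB
        obtain ⟨g, hg, hgD⟩ := isDefectGroup_iff.1 hD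
        obtain ⟨k, hk⟩ := exists_conj_le_of_unit_coeff hM hB hg hgD hxe hR
        have hfull : Cfsg.IsDefectGroup p M B (P : Subgroup G) := by
          refine (isDefectGroup_sylow_iff hM hB P).2 ?_
          refine (Nat.pow_le_pow_iff_right hM.1.one_lt).1 ?_
          rw [← P.card_eq_multiplicity, ← BlockChar.card_defectGroup hM hB hD]
          refine (Nat.le_of_dvd Nat.card_pos (Subgroup.card_dvd_of_le hPR)).trans ?_
          rw [← card_map_conj R k]
          exact Nat.le_of_dvd Nat.card_pos (Subgroup.card_dvd_of_le hk)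
        have := memLocalIdeal_add hM (hB' ψ hψ z hzc hzR) (hzB ⟨B, hB, hfull⟩ ψ hψ)
        simpa using this
      obtain ⟨K₀, hK₀, hK₀'⟩ := exists_regular_subgroup P
      set K : Subgroup N := (K₀.map C.subtype).subgroupOf N with hK
      have hKmem : ∀ n : N, n ∈ K ↔ ¬ p ∣ orderOf n ∧ (n : G) ∈ C := by
        intro n
        rw [hK, Subgroup.mem_subgroupOf]
        constructor
        · rintro ⟨c', hc', hcn⟩
          rw [← hcn, ← Subgroup.orderOf_coe, ← hcn]
          exact ⟨by simpa using (hK₀' c').1 hc', c'.2⟩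
        · rintro ⟨h1, h2⟩
          exact ⟨⟨(n : G), h2⟩, (hK₀' _).2 (by rwa [← Subgroup.orderOf_coe] at h1 ⊢), rfl⟩
      have hKn : K.Normal := ⟨fun n hn k => by
        have hc : IsConj n (k * n * k⁻¹) := isConj_iff.2 ⟨k, rfl⟩
        rw [hKmem] at hn ⊢
        exact ⟨hreg _ _ hc ▸ hn.1, hmem _ _ hc hn.2⟩⟩
      have hKp : ¬ p ∣ Nat.card K := by
        intro hd
        refine hK₀ (hd.trans ?_)
        rw [← (Subgroup.card_map_of_injective N.subtype_injective :
            Nat.card (K.map N.subtype) = Nat.card K),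
          ← (Subgroup.card_map_of_injective C.subtype_injective :
            Nat.card (K₀.map C.subtype) = Nat.card K₀)]
        exact Subgroup.card_dvd_of_le (Subgroup.map_comap_le _ _)
      have : Fintype K := Fintype.ofFinite _
      set f := trunc (P : Subgroup G) N z with hf
      have hfc : Cfsg.IsClassFunction N f := isClassFunction_trunc (le_refl _) hzc
      have hsupp : ∀ n, n ∉ K → f n = 0 := by
        intro n hn
        rw [hf, trunc_apply]
        split_ifs with h
        · simp only [hz, Finset.sum_apply, Pi.smul_apply, smul_eq_mul]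
          refine Finset.sum_eq_zero fun D _ => ?_
          rw [classInd_apply, if_neg, mul_zero]
          intro hc'
          refine hn ((hKmem n).2 ⟨?_, h⟩)
          obtain ⟨k, hk⟩ := isConj_iff.1 hc'
          rw [← Subgroup.orderOf_coe, ← hk, Blocks.orderOf_conj', Subgroup.orderOf_coe]
          exact (hout D).1
        · rfl
      have hfR : ∀ n, Cfsg.MemLocalRing M (f n) := memLocalRing_trunc hM _ _ hzR
      have hfK : ∀ x : K, Cfsg.MemLocalIdeal M (f (x : N)) := by
        intro x
        rw [apply_eq_sum_omega (f := fun y : K => f (y : N)) (isClassFunction_res K hfc) x]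
        refine memLocalIdeal_mul_left hM (memLocalRing_natCast_inv hM hKp)
          (memLocalIdeal_sum hM _ fun φ _ => memLocalIdeal_mul_right hM
            (memLocalIdeal_mul_left hM (memLocalRing_char hM (Char.IsIrr.isCharacter φ.2) 1) ?_) ?_)
        · have hne : Cfsg.indFun K (φ : K → ℂ) ≠ 0 := fun h => by
            have h1 := congrFun h 1
            rw [Char.indFun_apply_one, Pi.zero_apply, mul_eq_zero] at h1
            exact h1.elim (fun h2 => Subgroup.index_ne_zero_of_finite (Nat.cast_eq_zero.1 h2))
              (Char.IsIrr.one_ne_zero φ.2)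
          obtain ⟨θ, hθc⟩ := Char.IsChar.exists_constituent
            (Char.isCharacter_indFun K (Char.IsIrr.isCharacter φ.2)) hne
          rw [Char.classInner_indFun_left K _ (Char.isClassFunction_of_isIrr θ.2)] at hθc
          rw [← BlockThms.omega_res_eq θ.2 φ.2 (by
            rw [← Char.classInner_conj_symm, map_ne_zero]; exact hθc) hfc hsupp]
          exact hθ θ
        · rw [← Char.IsChar.inv_eq_conj (Char.IsIrr.isCharacter φ.2)]
          exact memLocalRing_char hM (Char.IsIrr.isCharacter φ.2) _
      funext D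
      rw [Pi.zero_apply, ← hc D, residue_eq_zero_iff]
      have hval : f D.1.out = (c D : ℂ) := by
        rw [hf, trunc_apply, if_pos (hout D).2]
        simp only [hz, Finset.sum_apply, Pi.smul_apply, smul_eq_mul]
        rw [Finset.sum_eq_single D]
        · rw [classInd_apply, if_pos (IsConj.refl _), mul_one]
        · intro E _ hne
          rw [classInd_apply, if_neg, mul_zero]
          intro hc'
          obtain ⟨n, hn, hn'⟩ := exists_normalizer_conj P (hout E).2 (hout D).2 hc'
          refine hne (Subtype.ext ?_)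
          rw [← Quotient.out_eq E.1, ← Quotient.out_eq D.1]
          exact ConjClasses.mk_eq_mk_iff_isConj.2
            (isConj_iff.2 ⟨⟨n, hn⟩, Subtype.ext hn'⟩)
        · simp
      exact hval ▸ hfK ⟨D.1.out, (hKmem _).2 (hout D)⟩
    have h := LinearMap.finrank_le_finrank_of_injective hinj
    simpa [Module.finrank_pi, Nat.card_eq_fintype_card] using h

end Cfsg.Agent.DefectThms
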