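import Cfsg.Agent.BlockThms.LinearTwist

/-!
# Bounds for the number of linear characters
-/

namespace Cfsg.Agent.BlockThms.LinearTwist

open Char

universe u

variable {G : Type u} [Group G] [Fintype G] {N : Subgroup G} [hN : N.Normal] {φ : N → ℂ}

open scoped _root_.Classical in
theorem card_linear_le {ψ : inertia φ → ℂ} {hφ : IsIrrCharacter N φ} (hψ : IsExt hφ ψ)
    (hmin : ∀ M : Subgroup G, M.Normal → M ≤ N → M = ⊥ ∨ M = N) (hna : ¬ IsMulCommutative N)
    (P Q : (G → ℂ) → Prop)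
    (hPQ : ∀ f : G →* ℂˣ, P (fun g => (f g : ℂ)) →
      Q (indFun (inertia φ) (ψ * fun t : inertia φ => (f t : ℂ)))) :
    Nat.card {χ : IrrCharacter G // charDegree (χ : G → ℂ) = 1 ∧ P χ} ≤ (inertia φ).index *
      Nat.card {χ : IrrCharacter G //
        charDegree (χ : G → ℂ) = charDegree φ * (inertia φ).index ∧ Q χ} := by
  have hlin : ∀ χ : {χ : IrrCharacter G // charDegree (χ : G → ℂ) = 1 ∧ P χ},
      ∃ f : G →* ℂˣ, ((χ.1 : IrrCharacter G) : G → ℂ) = fun g => (f g : ℂ) := fun χ => by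
    obtain ⟨d, -, hd⟩ := IsIrr.degree χ.1.2
    have h1 := χ.2.1
    rw [charDegree_eq_natCast hd] at h1
    exact IsChar.exists_hom (IsIrr.isCharacter χ.1.2) (by rw [hd, h1, Nat.cast_one])
  choose f hf using hlin
  have hker := fun χ => hom_eq_one_of_minimal hmin hna (f χ)
  have hext := fun χ => isExt_twist hψ (f χ) (hker χ)
  refine card_le_mul (inertia φ)
    (fun χ => ⟨⟨_, (classInner_res_ext (hext χ)).1⟩, ?_,
      hPQ (f χ) (hf χ ▸ χ.2.2)⟩) f (fun a b hab => Subtype.ext (Subtype.ext ?_)) ?_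
  · obtain ⟨d, -, hd⟩ := IsIrr.degree hφ
    rw [charDegree_eq_natCast hd]
    refine charDegree_eq_natCast ?_
    show indFun (inertia φ) _ 1 = _
    rw [indFun_twist_apply_one hψ, hd]
    push_cast
    ring
  · rw [hf a, hf b, hab]
  · intro a b hab t ht
    refine hom_eq_of_twist_eq hψ (hker a) (hker b) ?_ ht
    exact indFun_ext_injective (hext a) (hext b)
      (congrArg (fun χ : {χ : IrrCharacter G // _} => ((χ.1 : IrrCharacter G) : G → ℂ)) hab)

end Cfsg.Agent.BlockThms.LinearTwist
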