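import Cfsg.Agent.Char.CliffordCorr
import Cfsg.Agent.Char.Gallagher
import Cfsg.Agent.Char.UniqueDivisible
import Cfsg.Agent.Char.FS

/-!
# Twisting the induced extension of a character by linear characters
-/

namespace Cfsg.Agent.BlockThms.LinearTwist

open Char
open scoped ComplexConjugate
open scoped _root_.Classical in
noncomputable local instance (priority := 10) instFin {α : Type*} [Finite α] : Fintype α := Fintype.ofFinite α

universe u

variable {G : Type u} [Group G] [Fintype G] {N : Subgroup G} [hN : N.Normal] {φ : N → ℂ}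

/-- The inclusion of `N` in the inertia group. -/
abbrev incl (hφ : IsIrrCharacter N φ) : N →* inertia φ :=
  Subgroup.inclusion (le_inertia (isClassFunction_of_isIrr hφ))

/-- An extension to the inertia group. -/
def IsExt (hφ : IsIrrCharacter N φ) (ψ : inertia φ → ℂ) : Prop :=
  IsIrrCharacter (inertia φ) ψ ∧ (fun n : N => ψ (incl hφ n)) = φ

theorem classInner_res_ext {hφ : IsIrrCharacter N φ} {ψ : inertia φ → ℂ} (hψ : IsExt hφ ψ) :
    IsIrrCharacter G (indFun (inertia φ) ψ) ∧
      classInner (fun n : N => indFun (inertia φ) ψ n) φ = 1 ∧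
      classInner (fun t : inertia φ => indFun (inertia φ) ψ t) ψ = 1 := by
  have hind := isCharacter_indFun (inertia φ) (IsIrr.isCharacter hψ.1)
  have hne : indFun (inertia φ) ψ ≠ 0 := fun h0 => by
    have h1 := congrFun h0 1
    rw [indFun_apply_one, Pi.zero_apply, mul_eq_zero] at h1
    exact h1.elim (fun h2 => Subgroup.index_ne_zero_of_finite (Nat.cast_eq_zero.1 h2))
      (IsIrr.one_ne_zero hψ.1)
  obtain ⟨χ, hχ⟩ := IsChar.exists_constituent hind hne
  have hcT : classInner (fun t : inertia φ => (χ : G → ℂ) t) ψ ≠ 0 := by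
    rw [← classInner_conj_symm, map_ne_zero,
      ← classInner_indFun_left _ _ (isClassFunction_of_isIrr χ.2)]
    exact hχ
  have hrest := isCharacter_comp (incl hφ)
    (IsChar.sub_constituent (isCharacter_res _ (IsIrr.isCharacter χ.2)) hψ.1 hcT)
  obtain ⟨a, ha⟩ := classInner_isCharacter_eq_natCast hrest (IsIrr.isCharacter hφ)
  have he : classInner (fun n : N => (χ : G → ℂ) n) φ = ((1 + a : ℕ) : ℂ) := by
    rw [Nat.cast_add, Nat.cast_one, ← classInner_irr_self hφ, ← ha, ← classInner_add_left]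
    congr 1
    funext n
    have h1 := congrFun hψ.2 n
    simp only [Pi.add_apply, Pi.sub_apply, h1]
    simp
  have hne1 : classInner (fun n : N => (χ : G → ℂ) n) φ ≠ 0 := by
    rw [he]; exact Nat.cast_ne_zero.2 (by omega)
  have hdeg := degree_eq_of_clifford χ.2 hφ hne1
  have hdiff := IsChar.sub_constituent hind χ.2 hχ
  obtain ⟨d, hd⟩ := IsChar.degree hdiff
  obtain ⟨l, hl0, hl⟩ := IsIrr.degree hφ
  have hψ1 : ψ 1 = φ 1 := by simpa using congrFun hψ.2 1
  rw [Pi.sub_apply, indFun_apply_one, hdeg, he, hψ1, hl] at hd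
  have h2 : (inertia φ).index * l = (1 + a) * (inertia φ).index * l + d := by
    have : (((inertia φ).index * l : ℕ) : ℂ) =
        (((1 + a) * (inertia φ).index * l + d : ℕ) : ℂ) := by
      push_cast; push_cast at hd; linear_combination hd
    exact_mod_cast this
  have hpos : 0 < (inertia φ).index * l :=
    Nat.mul_pos (Nat.pos_of_ne_zero Subgroup.index_ne_zero_of_finite) hl0
  have h3 : (1 + a) * (inertia φ).index * l =
      (inertia φ).index * l + a * ((inertia φ).index * l) := by ring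
  have hd0 : d = 0 := by omega
  have ha0 : a = 0 := by
    rcases Nat.eq_zero_or_pos a with h | h
    · exact h
    · have := Nat.le_mul_of_pos_left ((inertia φ).index * l) h
      omega
  have heq : indFun (inertia φ) ψ = (χ : G → ℂ) :=
    sub_eq_zero.1 ((IsChar.eq_zero_iff hdiff).2
      (by rw [Pi.sub_apply, indFun_apply_one, hdeg, he, hψ1, hl, ha0]; push_cast; ring))
  refine ⟨heq ▸ χ.2, by rw [heq, he, ha0]; simp, ?_⟩
  have h4 : classInner ψ (fun t : inertia φ => indFun (inertia φ) ψ t) = 1 := by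
    rw [← classInner_indFun_left _ _ (isClassFunction_indFun _ ψ), heq, classInner_irr_self χ.2]
  rw [← classInner_conj_symm, h4, map_one]

theorem indFun_ext_injective {hφ : IsIrrCharacter N φ} {ψ₁ ψ₂ : inertia φ → ℂ}
    (h₁ : IsExt hφ ψ₁) (h₂ : IsExt hφ ψ₂)
    (he : indFun (inertia φ) ψ₁ = indFun (inertia φ) ψ₂) : ψ₁ = ψ₂ := by
  by_contra hne
  obtain ⟨hχ, hN1, hT1⟩ := classInner_res_ext h₁
  have hT2 := (classInner_res_ext h₂).2.2
  rw [← he] at hT2
  have hr1 := IsChar.sub_constituent (isCharacter_res _ (IsIrr.isCharacter hχ)) h₁.1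
    (by rw [hT1]; exact one_ne_zero)
  have hr2 := isCharacter_comp (incl hφ) (IsChar.sub_constituent hr1 h₂.1 (by
    rw [classInner_sub_left, hT2, classInner_irr_ne h₁.1 h₂.1 hne, sub_zero]; exact one_ne_zero))
  obtain ⟨a, ha⟩ := classInner_isCharacter_eq_natCast hr2 (IsIrr.isCharacter hφ)
  have h3 : classInner (fun n : N => indFun (inertia φ) ψ₁ n) φ = ((2 + a : ℕ) : ℂ) := by
    rw [Nat.cast_add, ← ha, show ((2 : ℕ) : ℂ) = classInner φ φ + classInner φ φ by
      rw [classInner_irr_self hφ]; norm_num, ← classInner_add_left, ← classInner_add_left]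
    congr 1
    funext n
    have e1 := congrFun h₁.2 n
    have e2 := congrFun h₂.2 n
    simp only [Pi.add_apply, Pi.sub_apply, e1, e2]
    simp only [Subgroup.coe_inclusion]
    ring
  rw [hN1] at h3
  have : 1 = 2 + a := by exact_mod_cast h3
  omega

/-- An extension times a linear character trivial on `N` is an extension. -/
theorem isExt_twist {hφ : IsIrrCharacter N φ} {ψ : inertia φ → ℂ} (hψ : IsExt hφ ψ)
    (f : G →* ℂˣ) (hf : ∀ n ∈ N, f n = 1) :
    IsExt hφ (ψ * fun t : inertia φ => (f t : ℂ)) := by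
  refine ⟨isIrr_mul_hom hψ.1 (f.comp (inertia φ).subtype), funext fun n => ?_⟩
  have h1 := congrFun hψ.2 n
  simp only [Pi.mul_apply, h1]
  simp [hf n n.2]

theorem hom_eq_of_twist_eq {hφ : IsIrrCharacter N φ} {ψ : inertia φ → ℂ} (hψ : IsExt hφ ψ)
    {f f' : G →* ℂˣ} (hf : ∀ n ∈ N, f n = 1) (hf' : ∀ n ∈ N, f' n = 1)
    (he : (ψ * fun t : inertia φ => (f t : ℂ)) = ψ * fun t : inertia φ => (f' t : ℂ))
    {t : G} (ht : t ∈ inertia φ) : f t = f' t := by
  let e : N.subgroupOf (inertia φ) ≃* N :=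
    Subgroup.subgroupOfEquivOfLe (le_inertia (isClassFunction_of_isIrr hφ))
  have hres : IsIrrCharacter (N.subgroupOf (inertia φ))
      (fun n : N.subgroupOf (inertia φ) => ψ n) := by
    have h1 := (isIrrCharacter_comp_equiv e).2 hφ
    convert h1 using 1
    funext n
    exact (congrArg ψ (Subtype.ext rfl)).trans (congrFun hψ.2 (e n))
  have h1 := avg_normSq_eq_one (N.subgroupOf (inertia φ)) hψ.1 hres ⟨t, ht⟩
  obtain ⟨n, -, hn⟩ := Finset.exists_ne_zero_of_sum_ne_zero (right_ne_zero_of_mul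
    (h1.symm ▸ one_ne_zero : (Nat.card (N.subgroupOf (inertia φ)) : ℂ)⁻¹ * _ ≠ 0))
  have h2 := mul_left_cancel₀ (left_ne_zero_of_mul hn)
    (congrFun he ((n : inertia φ) * ⟨t, ht⟩))
  simp only [Subgroup.coe_mul, map_mul, hf _ (Subgroup.mem_subgroupOf.1 n.2),
    hf' _ (Subgroup.mem_subgroupOf.1 n.2), one_mul] at h2
  exact Units.ext h2

/-- At most `[G : T]` linear characters share a restriction to `T`. -/
theorem card_hom_le_index (T : Subgroup G) {ι : Type*} [Finite ι] (F : ι → (G →* ℂˣ))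
    (hinj : Function.Injective F) (h : ∀ i j, ∀ t ∈ T, F i t = F j t) :
    Nat.card ι ≤ T.index := by
  classical
  have := Fintype.ofFinite ι
  rcases isEmpty_or_nonempty ι with hι | ⟨⟨i₀⟩⟩
  · simp
  have hli : LinearIndependent ℂ (fun i (q : G ⧸ T) => (F i q.out : ℂ)) := by
    have h0 : LinearIndependent ℂ (fun i : ι => (((Units.coeHom ℂ).comp (F i) : G →* ℂ) : G → ℂ)) :=
      (linearIndependent_monoidHom G ℂ).comp (fun i => (Units.coeHom ℂ).comp (F i))
        fun i j hij => hinj (MonoidHom.ext fun g => Units.ext (DFunLike.congr_fun hij g))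
    rw [Fintype.linearIndependent_iff] at h0 ⊢
    intro c hc
    refine h0 c (funext fun g => ?_)
    set q : G ⧸ T := QuotientGroup.mk g
    have hq : q.out⁻¹ * g ∈ T := QuotientGroup.eq.1 (QuotientGroup.out_eq' q)
    have h1 := congrFun hc q
    simp only [Finset.sum_apply, Pi.smul_apply, smul_eq_mul, Pi.zero_apply,
      MonoidHom.coe_comp, Function.comp_apply, Units.coeHom_apply] at h1 ⊢
    have h2 : ∀ i, (F i g : ℂ) = (F i q.out : ℂ) * (F i₀ (q.out⁻¹ * g) : ℂ) := fun i => by
      rw [← h i i₀ _ hq, ← Units.val_mul, ← map_mul, mul_inv_cancel_left]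
    simp only [h2, ← mul_assoc, ← Finset.sum_mul, h1, zero_mul]
  have := hli.fintype_card_le_finrank
  rwa [Module.finrank_fintype_fun_eq_card, ← Nat.card_eq_fintype_card,
    ← Nat.card_eq_fintype_card] at this

/-- The count: linear characters map into characters of degree `φ 1 * [G : T]`. -/
theorem card_le_mul (T : Subgroup G) {α β : Type*} [Finite α] [Finite β] (F : α → β)
    (hF : α → (G →* ℂˣ)) (hinj : Function.Injective hF)
    (h : ∀ a a', F a = F a' → ∀ t ∈ T, hF a t = hF a' t) :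
    Nat.card α ≤ T.index * Nat.card β := by
  classical
  have := Fintype.ofFinite β
  have := Fintype.ofFinite α
  rw [Nat.card_congr (Equiv.sigmaFiberEquiv F).symm, Nat.card_sigma, Nat.card_eq_fintype_card
    (α := β), mul_comm, ← smul_eq_mul, ← Finset.card_univ, ← Finset.sum_const]
  refine Finset.sum_le_sum fun b _ => card_hom_le_index T (fun a => hF a.1)
    (fun a a' he => Subtype.ext (hinj he)) fun a a' => h a.1 a'.1 (a.2.trans a'.2.symm)

theorem indFun_twist (ψ : inertia φ → ℂ) (f : G →* ℂˣ) :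
    indFun (inertia φ) (ψ * fun t : inertia φ => (f t : ℂ)) =
      indFun (inertia φ) ψ * fun g => (f g : ℂ) :=
  indFun_mul_res (inertia φ) ψ (χ := fun g => (f g : ℂ))
    (isClassFunction_of_isCharacter (isCharacter_hom f))

theorem indFun_twist_apply_one {hφ : IsIrrCharacter N φ} {ψ : inertia φ → ℂ} (hψ : IsExt hφ ψ)
    (f : G →* ℂˣ) :
    indFun (inertia φ) (ψ * fun t : inertia φ => (f t : ℂ)) 1 =
      ((inertia φ).index : ℂ) * φ 1 := by
  rw [indFun_apply_one]
  have := congrFun hψ.2 1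
  simp only [map_one] at this
  simp [this]

/-! ## Indicators -/

variable {H : Type u} [Group H] [Fintype H]

theorem classInner_one (a : H → ℂ) :
    classInner a (fun _ => 1) = (Nat.card H : ℂ)⁻¹ * ∑ h, a h := by
  simp [classInner]

theorem inner_pos_of_res {a : G → ℂ} (ha : IsCharacter G a)
    (h : classInner a (fun _ => 1) ≠ 0) {f : H →* G} :
    ∃ k : ℕ, classInner (fun x : H => a (f x)) (fun _ => 1) = ((k + 1 : ℕ) : ℂ) := by
  obtain ⟨k, hk⟩ := classInner_isCharacter_eq_natCast
    (isCharacter_comp f (IsChar.sub_constituent ha isIrrCharacter_one h))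
    (isCharacter_one (G := H))
  refine ⟨k, ?_⟩
  rw [show ((k + 1 : ℕ) : ℂ) = (k : ℂ) + classInner (fun _ : H => (1 : ℂ)) (fun _ => 1) by
    rw [classInner_irr_self (isIrrCharacter_one (G := H))]; push_cast; rfl, ← hk,
    ← classInner_add_left]
  congr 1
  funext x
  simp

theorem real_inner_eq {χ : H → ℂ} (hreal : ∀ h, (χ h).im = 0) :
    classInner χ χ = classInner (χ * χ) (fun _ => 1) := by
  simp only [classInner, Pi.mul_apply, map_one, mul_one]
  congr 1
  exact Finset.sum_congr rfl fun h _ => by rw [Complex.conj_eq_iff_im.2 (hreal h)]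

/-- For a real `χ` the norm and the indicator are the sum and difference of the multiplicities
of the trivial character in the symmetric and alternating parts. -/
theorem norm_ind_of_split {χ s a : G → ℂ} (f : H →* G) (hreal : ∀ g, (χ g).im = 0)
    (hs : IsCharacter G s) (ha : IsCharacter G a)
    (hm : χ * χ = s + a) (hd : ∀ g, χ (g * g) = s g - a g) :
    ∃ i j : ℕ, classInner (fun x : H => s (f x)) (fun _ => 1) = i ∧
      classInner (fun x : H => a (f x)) (fun _ => 1) = j ∧
      classInner (fun x : H => χ (f x)) (fun x : H => χ (f x)) = i + j ∧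
      fsInd (fun x : H => χ (f x)) = (i : ℂ) - j := by
  obtain ⟨i, hi⟩ := classInner_isCharacter_eq_natCast (isCharacter_comp f hs)
    (isCharacter_one (G := H))
  obtain ⟨j, hj⟩ := classInner_isCharacter_eq_natCast (isCharacter_comp f ha)
    (isCharacter_one (G := H))
  refine ⟨i, j, hi, hj, ?_, ?_⟩
  · rw [real_inner_eq fun x => hreal _, ← hi, ← hj, ← classInner_add_left]
    congr 1
    funext x
    exact congrFun hm (f x)
  · rw [← hi, ← hj, ← classInner_sub_left, classInner_one, fsInd]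
    congr 1
    exact Finset.sum_congr rfl fun x _ => by rw [Pi.sub_apply, ← hd, map_mul]

theorem real_of_fsInd_one {θ : H → ℂ} (hθ : IsIrrCharacter H θ) (h : fsInd θ = 1) :
    ∀ x, (θ x).im = 0 := by
  rcases fsInd_irr (⟨θ, hθ⟩ : IrrCharacter H) with ⟨h0, -⟩ | ⟨-, h1⟩
  · rw [h] at h0; exact absurd h0 one_ne_zero
  · exact (conjIrr_eq_iff ⟨θ, hθ⟩).1 h1

theorem fsInd_res_ext {hφ : IsIrrCharacter N φ} {ψ : inertia φ → ℂ} (hψ : IsExt hφ ψ)
    (h : fsInd ψ = 1) : fsInd φ = 1 := by
  have hreal := real_of_fsInd_one hψ.1 h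
  obtain ⟨s, a, hs, ha, hm, hd⟩ := exists_sym_alt (IsIrr.isCharacter hψ.1)
  obtain ⟨i, j, hi, hj, hn, hf⟩ := norm_ind_of_split (MonoidHom.id _) hreal hs ha hm hd
  simp only [MonoidHom.id_apply] at hi hn hf
  have hij : i = 1 := by
    have h1 : (1 : ℂ) = i + j := (classInner_irr_self hψ.1).symm.trans hn
    have h2 : (1 : ℂ) = (i : ℂ) - j := h.symm.trans hf
    have h3 : (i : ℂ) = ((1 : ℕ) : ℂ) := by push_cast; linear_combination -(h1 + h2) / 2
    exact_mod_cast h3
  obtain ⟨k, hk⟩ := inner_pos_of_res hs (by rw [hi, hij]; simp) (f := incl hφ)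
  obtain ⟨i', j', hi', hj', hn', hf'⟩ := norm_ind_of_split (incl hφ) hreal hs ha hm hd
  rw [hψ.2, classInner_irr_self hφ] at hn'
  rw [hψ.2] at hf'
  have h4 : i' = k + 1 := by exact_mod_cast hi'.symm.trans hk
  have h5 : 1 = i' + j' := by exact_mod_cast hn'
  rw [hf', show j' = 0 by omega, show i' = 1 by omega]
  simp

theorem indFun_real {T : Subgroup G} {θ : T → ℂ} (hreal : ∀ t, (θ t).im = 0) (g : G) :
    (indFun T θ g).im = 0 := by
  classical
  refine Complex.conj_eq_iff_im.1 ?_
  simp only [indFun_apply, map_mul, map_inv₀, Complex.conj_natCast, map_sum]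
  congr 1
  refine Finset.sum_congr rfl fun x _ => ?_
  by_cases hx : x⁻¹ * g * x ∈ T
  · rw [extendByZero_of_mem T θ hx]; exact Complex.conj_eq_iff_im.2 (hreal _)
  · rw [extendByZero_of_not_mem T θ hx, map_zero]

theorem fsInd_conjFun (g : G) (φ : N → ℂ) : fsInd (conjFun g φ) = fsInd φ := by
  simp only [fsInd, conjFun_eq_comp, map_mul]
  congr 1
  exact Fintype.sum_equiv (MulAut.conjNormal g).toEquiv _ _ fun n => rfl

/-- The induced character of an extension of indicator one has indicator one. -/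
theorem fsInd_indFun_ext {hφ : IsIrrCharacter N φ} {ψ : inertia φ → ℂ} (hψ : IsExt hφ ψ)
    (h : fsInd ψ = 1) : fsInd (indFun (inertia φ) ψ) = 1 := by
  obtain ⟨hχ, he, -⟩ := classInner_res_ext hψ
  have hreal := indFun_real (G := G) (real_of_fsInd_one hψ.1 h)
  rcases fsInd_irr (⟨indFun (inertia φ) ψ, hχ⟩ : IrrCharacter G) with ⟨-, hc⟩ | ⟨hc | hc, -⟩
  · exact absurd ((conjIrr_eq_iff ⟨_, hχ⟩).2 hreal) hc
  · exact hc
  exfalso
  obtain ⟨s, a, hs, ha, hm, hd⟩ := exists_sym_alt (IsIrr.isCharacter hχ)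
  obtain ⟨i, j, hi, hj, hn, hf⟩ := norm_ind_of_split (MonoidHom.id G) hreal hs ha hm hd
  simp only [MonoidHom.id_apply] at hj hn hf
  have hj1 : j = 1 := by
    have h1 : (1 : ℂ) = i + j := (classInner_irr_self hχ).symm.trans hn
    have h2 : (-1 : ℂ) = (i : ℂ) - j := hc.symm.trans hf
    have h3 : (j : ℂ) = ((1 : ℕ) : ℂ) := by push_cast; linear_combination (h2 - h1) / 2
    exact_mod_cast h3
  obtain ⟨k, hk⟩ := inner_pos_of_res ha (by rw [hj, hj1]; simp) (f := N.subtype)
  obtain ⟨i', j', hi', hj', hn', hf'⟩ := norm_ind_of_split N.subtype hreal hs ha hm hd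
  simp only [Subgroup.coe_subtype] at hn' hf' hk hj'
  have hj0 : j' = k + 1 := by exact_mod_cast hj'.symm.trans hk
  have hcl := clifford hχ hφ (by rw [he]; exact one_ne_zero)
  rw [he, one_smul] at hcl
  have hnorm : classInner (fun n : N => indFun (inertia φ) ψ n)
      (fun n : N => indFun (inertia φ) ψ n) = ((orbit φ).card : ℂ) := by
    conv_lhs => arg 2; rw [hcl]
    rw [classInner_sum_right, Finset.sum_congr rfl fun η hη => show
      classInner (fun n : N => indFun (inertia φ) ψ n) η = 1 from ?_, Finset.sum_const,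
      nsmul_eq_mul, mul_one]
    obtain ⟨g, rfl⟩ := mem_orbit.1 hη
    conv_lhs => rw [← conjFun_res g (isClassFunction_of_isIrr hχ)]
    rw [classInner_conjFun, he]
  have hind : fsInd (fun n : N => indFun (inertia φ) ψ n) = ((orbit φ).card : ℂ) := by
    rw [hcl]
    simp only [fsInd, Finset.sum_apply]
    rw [Finset.sum_comm, Finset.mul_sum, Finset.sum_congr rfl fun η hη => show
      (Nat.card N : ℂ)⁻¹ * ∑ n : N, η (n * n) = 1 from ?_, Finset.sum_const,
      nsmul_eq_mul, mul_one]
    obtain ⟨g, rfl⟩ := mem_orbit.1 hη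
    exact (fsInd_conjFun g φ).trans (fsInd_res_ext hψ h)
  have h6 : (i' : ℂ) + j' = (i' : ℂ) - j' := (hn'.symm.trans hnorm).trans (hind.symm.trans hf')
  have h7 : (j' : ℂ) = ((0 : ℕ) : ℂ) := by push_cast; linear_combination h6 / 2
  have : j' = 0 := by exact_mod_cast h7
  omega

theorem sq_eq_one_of_fsInd_one (f : G →* ℂˣ) (h : fsInd (fun g => (f g : ℂ)) = 1) (g : G) :
    (f (g * g) : ℂ) = 1 := by
  by_contra hne
  have h1 := classInner_irr_ne (isIrrCharacter_hom (f * f)) isIrrCharacter_one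
    fun e => hne (by simpa using congrFun e g)
  rw [classInner_one] at h1
  simp only [fsInd, map_mul] at h
  simp only [MonoidHom.mul_apply] at h1
  rw [h1] at h
  exact zero_ne_one h

theorem fsInd_twist {ψ : inertia φ → ℂ} (h : fsInd ψ = 1) (f : G →* ℂˣ)
    (hf : fsInd (fun g => (f g : ℂ)) = 1) :
    fsInd (ψ * fun t : inertia φ => (f t : ℂ)) = 1 := by
  rw [← h]
  simp only [fsInd, Pi.mul_apply, Subgroup.coe_mul, sq_eq_one_of_fsInd_one f hf, mul_one]

/-- A minimal normal subgroup that is not abelian is killed by every linear character. -/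
theorem hom_eq_one_of_minimal (hmin : ∀ M : Subgroup G, M.Normal → M ≤ N → M = ⊥ ∨ M = N)
    (hna : ¬ IsMulCommutative N) (f : G →* ℂˣ) : ∀ n ∈ N, f n = 1 := by
  intro n hn
  refine hom_commutator_eq_one f ?_
  rcases hmin ⁅N, N⁆ inferInstance (Subgroup.commutator_le_left N N) with h | h
  · exact absurd ⟨⟨fun a b => Subtype.ext ((Subgroup.commutator_eq_bot_iff_le_centralizer.1 h
      b.2) a a.2)⟩⟩ hna
  · exact Subgroup.commutator_mono le_top le_top (h ▸ hn)

end Cfsg.Agent.BlockThms.LinearTwist
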