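import Mathlib
import Cfsg.Agent.BlockThms.CentralProduct
import Cfsg.Agent.BlockThms.DefectCor
import Cfsg.Agent.ProjExt.Ratio

/-!
# Blocks with a normal defect group: heights
-/

set_option autoImplicit false

namespace Cfsg.Agent.DefectThms

open scoped ComplexConjugate
open Cfsg.Agent Cfsg.Agent.Blocks
open Cfsg.Agent.BlockThms hiding classInd conv omega IsClass exists_isPModular omega_conv

universe u

variable {G : Type u} [Group G] [Fintype G] {p : ℕ} [Fact p.Prime] {M : Ideal Cfsg.AlgInt}

omit [Fact p.Prime] in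
/-- The degree over a constituent, in natural numbers. -/
theorem exists_mult_degree {H : Subgroup G} [H.Normal] [Fintype H] (χ : Cfsg.IrrCharacter G)
    (η : Cfsg.IrrCharacter H)
    (h : Cfsg.classInner (fun n : H => (χ : G → ℂ) n) (η : H → ℂ) ≠ 0) :
    ∃ e : ℕ, e ≠ 0 ∧ Cfsg.classInner (fun n : H => (χ : G → ℂ) n) (η : H → ℂ) = (e : ℂ) ∧
      Cfsg.charDegree (χ : G → ℂ) =
        e * (Char.inertia (η : H → ℂ)).index * Cfsg.charDegree (η : H → ℂ) := by
  obtain ⟨e, he⟩ := Char.classInner_isCharacter_eq_natCast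
    (Char.isCharacter_res H (Char.IsIrr.isCharacter χ.2)) (Char.IsIrr.isCharacter η.2)
  have h1 := Char.degree_eq_of_clifford χ.2 η.2 h
  rw [he] at h h1
  rw [← charDegree_cast (Char.IsIrr.isCharacter χ.2),
    ← charDegree_cast (Char.IsIrr.isCharacter η.2)] at h1
  exact ⟨e, Nat.cast_ne_zero.1 h, he, by exact_mod_cast h1⟩

omit [Fact p.Prime] in
/-- The squares of the multiplicities over an irreducible character add up to the inertia
index. -/
theorem sum_sq_mult {H : Subgroup G} [H.Normal] [Fintype H] (θ : Cfsg.IrrCharacter H)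
    (e : Cfsg.IrrCharacter G → ℕ) (he : ∀ ψ : Cfsg.IrrCharacter G,
      Cfsg.classInner (fun n : H => (ψ : G → ℂ) n) (θ : H → ℂ) = (e ψ : ℂ)) :
    (∑ ψ, e ψ * e ψ) * Nat.card H = Nat.card (Char.inertia (θ : H → ℂ)) := by
  classical
  set I := Cfsg.indFun H (θ : H → ℂ) with hI
  have hI1 : ∀ ψ : Cfsg.IrrCharacter G, Cfsg.classInner I (ψ : G → ℂ) = (e ψ : ℂ) := by
    intro ψ
    rw [hI, Char.classInner_indFun_left H _ (Char.isClassFunction_of_isIrr ψ.2),
      ← Char.classInner_conj_symm, he, Complex.conj_natCast]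
  have h := Char.classInner_indFun_indFun (G := G) θ.2 θ.2
  rw [← hI] at h
  have h2 : Cfsg.classInner I I = ∑ ψ : Cfsg.IrrCharacter G, (e ψ : ℂ) * (e ψ : ℂ) := by
    have hexp := Char.classFun_expansion (f := I)
      (Char.isClassFunction_indFun H (θ : H → ℂ))
    conv_lhs => arg 1; rw [hexp]
    rw [Char.classInner_sum_left]
    refine Finset.sum_congr rfl fun ψ _ => ?_
    rw [Char.classInner_smul_left, hI1, ← Char.classInner_conj_symm, hI1,
      Complex.conj_natCast]
  rw [h2, eq_inv_mul_iff_mul_eq₀ Char.card_ne_zero] at h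
  have h3 : ((((∑ ψ, e ψ * e ψ) * Nat.card H : ℕ)) : ℂ) =
      ((Nat.card (Char.inertia (θ : H → ℂ)) : ℕ) : ℂ) := by
    push_cast
    rw [mul_comm, h]
    rfl
  exact Nat.cast_inj.1 h3

/-- Reynolds: with a normal defect group, heights vanish iff the defect group is abelian. -/
theorem comm_iff_height_zero (hM : Cfsg.IsPModular p M) {B : Set (Cfsg.IrrCharacter G)}
    (hB : Cfsg.IsPBlock M B) {P : Subgroup G} [P.Normal] (hD : Cfsg.IsDefectGroup p M B P) :
    (∀ a ∈ P, ∀ c ∈ P, a * c = c * a) ↔
      ∀ χ ∈ B, Cfsg.blockHeight p B ((χ : Cfsg.IrrCharacter G) : G → ℂ) = 0 := by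
  classical
  have hp := hM.1
  have hP := isPGroup_of_isDefectGroup hD
  set H := P ⊔ Subgroup.centralizer (P : Set G) with hH
  have hHn : H.Normal := inferInstance
  have : Fintype H := Fintype.ofFinite _
  have hPH : P ≤ H := le_sup_left
  set P' := P.subgroupOf H with hP'
  have : Fintype P' := Fintype.ofFinite _
  have hP'p : IsPGroup p P' := hP.comap_subtype
  have hG' : P' ⊔ Subgroup.centralizer (P' : Set H) = ⊤ := by
    rw [eq_top_iff]
    intro x _
    have hx : (x : G) ∈ ((P ⊔ Subgroup.centralizer (P : Set G) : Subgroup G) : Set G) := x.2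
    rw [Subgroup.normal_mul] at hx
    obtain ⟨u, hu, c, hc, huc⟩ := Set.mem_mul.1 hx
    have hcH : c ∈ H := Subgroup.mem_sup_right hc
    have : x = ⟨u, hPH hu⟩ * ⟨c, hcH⟩ := Subtype.ext huc.symm
    rw [this]
    refine Subgroup.mul_mem_sup (show (⟨u, hPH hu⟩ : H) ∈ P' from hu) ?_
    rw [Subgroup.mem_centralizer_iff]
    intro w hw
    exact Subtype.ext (Subgroup.mem_centralizer_iff.1 hc _ hw)
  -- a block of `H` under `B`
  obtain ⟨χ₀, hχ₀⟩ := IsPBlock.nonempty hM hB
  obtain ⟨θ₀, hθ₀⟩ := Char.exists_constituent_res (N := H) χ₀.2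
  set b := Cfsg.blockOf M (θ₀ : H → ℂ) with hb'
  have hb : Cfsg.IsPBlock M b := isPBlock_blockOf θ₀
  obtain ⟨hdef, hind⟩ := induced_of_covering hM P hP (le_sup_right : _ ≤ H) hb
  have hindB := hind B hB ⟨χ₀, hχ₀, θ₀, mem_blockOf_self hM θ₀, hθ₀⟩
  have hbD : Cfsg.IsDefectGroup p M b P' := by
    obtain ⟨E, hE⟩ := exists_defectGroup hM hb
    have hle := le_defectGroup_of_normal hM hb hE P' hP'p
    obtain ⟨E', hE', hEE'⟩ := exists_defectGroup_ge_of_induced hM H hb hB hindB hE
    rwa [Subgroup.eq_of_le_of_card_ge hle ?_]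
    rw [Nat.card_congr (Subgroup.subgroupOfEquivOfLe hPH).toEquiv,
      BlockChar.card_defectGroup hM hB hD, ← BlockChar.card_defectGroup hM hB hE',
      ← Subgroup.card_map_of_injective (Subgroup.subtype_injective H)]
    exact Nat.le_of_dvd Nat.card_pos (Subgroup.card_dvd_of_le hEE')
  obtain ⟨θ, hθb, hθP, huniq, hθdeg, e, he⟩ := central_product hM hP'p hG' hb hbD
  -- every character of `B` has a constituent in `b`
  have hcon : ∀ χ ∈ B, ∃ η ∈ b, Cfsg.classInner
      (fun n : H => ((χ : Cfsg.IrrCharacter G) : G → ℂ) n)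
        ((η : Cfsg.IrrCharacter H) : H → ℂ) ≠ 0 := by
    intro χ hχ
    obtain ⟨ψ, hψ⟩ := Char.exists_constituent_res (N := H) χ.2
    obtain ⟨g, θ', hθ', hg⟩ := covering_orbit hM hB hb hχ₀ (mem_blockOf_self hM θ₀) hθ₀ hχ hψ
    refine ⟨θ', hθ', ?_⟩
    rw [show (ψ : H → ℂ) = Char.conjFun g (θ' : H → ℂ) from funext hg,
      ← Char.conjFun_res g (Char.isClassFunction_of_isIrr χ.2), Char.classInner_conjFun] at hψ
    exact hψ
  -- characters over `b` lie in `B`
  have hover : ∀ (ψ : Cfsg.IrrCharacter G) (η : Cfsg.IrrCharacter H), η ∈ b →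
      Cfsg.classInner (fun n : H => (ψ : G → ℂ) n) (η : H → ℂ) ≠ 0 → ψ ∈ B := by
    intro ψ η hη h
    have hi := hind _ (isPBlock_blockOf ψ) ⟨ψ, mem_blockOf_self hM ψ, η, hη, h⟩
    refine IsPBlock.mem_of_sameBlock hM hB hχ₀ fun g => ?_
    have := memLocalIdeal_sub hM (hi.2.2 η hη ψ (mem_blockOf_self hM ψ) g)
      (hindB.2.2 η hη χ₀ hχ₀ g)
    simpa using this
  -- arithmetic
  have hmin : BlockChar.minVal p B = H.index.factorization p + P'.index.factorization p := by
    have h1 := BlockChar.card_defectGroup hM hB hD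
    have e1 := congrArg (fun t => t.factorization p) (Subgroup.index_mul_card P)
    simp only [Nat.factorization_mul Subgroup.index_ne_zero_of_finite Nat.card_pos.ne',
      Finsupp.add_apply] at e1
    rw [h1, hp.factorization_pow, Finsupp.single_eq_same, BlockChar.blockDefect_eq] at e1
    have h2 := (BlockChar.minVal_le (p := p) hχ₀).trans (BlockChar.degree_val_le χ₀)
    have e2 : P.index = P'.index * H.index := (Subgroup.relIndex_mul_index hPH).symm
    rw [e2, Nat.factorization_mul Subgroup.index_ne_zero_of_finite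
      Subgroup.index_ne_zero_of_finite, Finsupp.add_apply] at e1
    omega
  have hheight : ∀ χ ∈ B, Cfsg.blockHeight p B ((χ : Cfsg.IrrCharacter G) : G → ℂ) = 0 ↔
      (Cfsg.charDegree (χ : G → ℂ)).factorization p ≤
        H.index.factorization p + P'.index.factorization p := by
    intro χ hχ
    rw [blockHeight_eq_zero_iff hχ, ← hmin]
    constructor
    · intro h
      obtain ⟨χ₁, hχ₁, hh⟩ := BlockChar.exists_height_zero (p := p) ⟨χ, hχ⟩
      exact (h χ₁ hχ₁).trans hh.le
    · exact fun h ψ hψ => h.trans (BlockChar.minVal_le hψ)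
  have hvb : ∀ η : b, (Cfsg.charDegree ((η : Cfsg.IrrCharacter H) : H → ℂ)).factorization p =
      (Cfsg.charDegree ((e η : Cfsg.IrrCharacter P') : P' → ℂ)).factorization p +
        P'.index.factorization p := by
    intro η
    have h := (he η).2
    rw [← charDegree_cast (Char.IsIrr.isCharacter η.1.2),
      ← charDegree_cast (Char.IsIrr.isCharacter θ.2),
      ← charDegree_cast (Char.IsIrr.isCharacter (e η).2), ← Nat.cast_mul, Nat.cast_inj] at h
    rw [h, Nat.factorization_mul (charDegree_pos (e η).2).ne' (charDegree_pos θ.2).ne',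
      Finsupp.add_apply, hθdeg]
  constructor
  · intro hcomm χ hχ
    rw [hheight χ hχ]
    obtain ⟨η, hη, hc⟩ := hcon χ hχ
    obtain ⟨k, hk, hkd⟩ := ProjExt.exists_ratio_dvd_index χ.2 η.2 hc
    have h1 : ((e ⟨η, hη⟩ : Cfsg.IrrCharacter P') : P' → ℂ) 1 = 1 :=
      Char.forall_degree_one_iff.2 (fun a c => Subtype.ext (Subtype.ext
        (hcomm _ a.2 _ c.2))) _
    have h2 : Cfsg.charDegree ((e ⟨η, hη⟩ : Cfsg.IrrCharacter P') : P' → ℂ) = 1 :=
      charDegree_eq (n := 1) (by rw [h1, Nat.cast_one])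
    rw [← charDegree_cast (Char.IsIrr.isCharacter χ.2),
      ← charDegree_cast (Char.IsIrr.isCharacter η.2), ← Nat.cast_mul, Nat.cast_inj] at hk
    have hk0 : k ≠ 0 := fun h => (charDegree_pos χ.2).ne' (by rw [hk, h, zero_mul])
    have h3 := hvb ⟨η, hη⟩
    rw [h2, Nat.factorization_one, Finsupp.zero_apply, zero_add] at h3
    rw [hk, Nat.factorization_mul hk0 (charDegree_pos η.2).ne', Finsupp.add_apply, h3]
    have := (Nat.factorization_le_iff_dvd hk0 Subgroup.index_ne_zero_of_finite).2 hkd p
    omega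
  · intro hall
    -- the inertia group of `θ` has index prime to p over `H`
    have hT : H.index.factorization p ≤ (Char.inertia (θ : H → ℂ)).index.factorization p := by
      have hm : ∀ ψ : Cfsg.IrrCharacter G, ∃ m : ℕ,
          Cfsg.classInner (fun n : H => (ψ : G → ℂ) n) (θ : H → ℂ) = (m : ℂ) := fun ψ =>
        Char.classInner_isCharacter_eq_natCast
          (Char.isCharacter_res H (Char.IsIrr.isCharacter ψ.2)) (Char.IsIrr.isCharacter θ.2)
      choose m hm using hm
      have hsum := sum_sq_mult θ m hm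
      set t := H.index.factorization p - (Char.inertia (θ : H → ℂ)).index.factorization p with ht
      have hdvd : ∀ ψ, p ^ t ∣ m ψ := by
        intro ψ
        by_cases h0 : m ψ = 0
        · rw [h0]; exact dvd_zero _
        have hne : Cfsg.classInner (fun n : H => (ψ : G → ℂ) n) (θ : H → ℂ) ≠ 0 := by
          rw [hm]; exact Nat.cast_ne_zero.2 h0
        obtain ⟨m', -, hm', hdeg⟩ := exists_mult_degree ψ θ hne
        rw [hm, Nat.cast_inj] at hm'
        rw [← hm'] at hdeg
        have hge : H.index.factorization p + P'.index.factorization p ≤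
            (Cfsg.charDegree (ψ : G → ℂ)).factorization p :=
          hmin ▸ BlockChar.minVal_le (hover ψ θ hθb hne)
        rw [hdeg, Nat.factorization_mul (mul_ne_zero h0 Subgroup.index_ne_zero_of_finite)
          (charDegree_pos θ.2).ne', Nat.factorization_mul h0 Subgroup.index_ne_zero_of_finite,
          Finsupp.add_apply, Finsupp.add_apply, hθdeg] at hge
        exact (hp.pow_dvd_iff_le_factorization h0).2 (by rw [ht]; omega)
      have hHT : H ≤ (Char.inertia (θ : H → ℂ)) := Char.le_inertia (Char.isClassFunction_of_isIrr θ.2)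
      have e1 : Nat.card (Char.inertia (θ : H → ℂ)) = H.relIndex (Char.inertia (θ : H → ℂ)) * Nat.card H := by
        rw [Subgroup.relIndex, ← Nat.card_congr (Subgroup.subgroupOfEquivOfLe hHT).toEquiv,
          Subgroup.index_mul_card]
      rw [e1] at hsum
      have hsum' := Nat.eq_of_mul_eq_mul_right Nat.card_pos hsum
      have hd : p ^ (t + t) ∣ H.relIndex (Char.inertia (θ : H → ℂ)) := by
        rw [← hsum', pow_add]
        exact Finset.dvd_sum fun ψ _ => Nat.mul_dvd_mul (hdvd ψ) (hdvd ψ)
      have hne : H.relIndex (Char.inertia (θ : H → ℂ)) ≠ 0 := Subgroup.index_ne_zero_of_finite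
      have hle := (hp.pow_dvd_iff_le_factorization hne).1 hd
      have e2 := congrArg (fun x => x.factorization p) (Subgroup.relIndex_mul_index hHT)
      simp only [Nat.factorization_mul hne Subgroup.index_ne_zero_of_finite,
        Finsupp.add_apply] at e2
      omega
    have hdeg1 : ∀ ν : Cfsg.IrrCharacter P', (ν : P' → ℂ) 1 = 1 := by
      intro ν
      set η := e.symm ν with hη
      have hne : Cfsg.indFun H ((η : Cfsg.IrrCharacter H) : H → ℂ) ≠ 0 := fun h => by
        have h1 := congrFun h 1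
        rw [Char.indFun_apply_one, Pi.zero_apply, mul_eq_zero] at h1
        exact h1.elim (fun h2 => Subgroup.index_ne_zero_of_finite (Nat.cast_eq_zero.1 h2))
          (Char.IsIrr.one_ne_zero η.1.2)
      obtain ⟨χ, hχ⟩ := Char.IsChar.exists_constituent
        (Char.isCharacter_indFun H (Char.IsIrr.isCharacter η.1.2)) hne
      rw [Char.classInner_indFun_left H _ (Char.isClassFunction_of_isIrr χ.2)] at hχ
      have hc : Cfsg.classInner (fun n : H => (χ : G → ℂ) n)
          ((η : Cfsg.IrrCharacter H) : H → ℂ) ≠ 0 := by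
        rw [← Char.classInner_conj_symm, map_ne_zero]; exact hχ
      have hχB := hover χ η η.2 hc
      obtain ⟨m, hm0, -, hdeg⟩ := exists_mult_degree χ η.1 hc
      -- the inertia group shrinks
      have hsub : Char.inertia ((η : Cfsg.IrrCharacter H) : H → ℂ) ≤
          Char.inertia (θ : H → ℂ) := by
        intro g hg
        have hg' : Char.conjFun g ((η : Cfsg.IrrCharacter H) : H → ℂ) =
          ((η : Cfsg.IrrCharacter H) : H → ℂ) := hg
        show Char.conjFun g (θ : H → ℂ) = (θ : H → ℂ)
        let θg : Cfsg.IrrCharacter H := ⟨_, Char.isIrr_conjFun g θ.2⟩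
        have hs := sameBlock_conjFun η.1.2 θ.2 (IsPBlock.sameBlock hM hb η.2 hθb) g
        rw [hg'] at hs
        refine congrArg Subtype.val (huniq θg (IsPBlock.mem_of_sameBlock hM hb η.2 hs)
          fun x hx => ?_)
        show Char.conjFun g (θ : H → ℂ) x = Char.conjFun g (θ : H → ℂ) 1
        rw [Char.conjFun_apply_one, Char.conjFun_apply]
        exact hθP _ ((inferInstance : P.Normal).conj_mem _ hx g)
      have hidx := (Nat.factorization_le_iff_dvd Subgroup.index_ne_zero_of_finite
        Subgroup.index_ne_zero_of_finite).2 (Subgroup.index_dvd_of_le hsub) p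
      have hz := (hheight χ hχB).1 (hall χ hχB)
      rw [hdeg, Nat.factorization_mul (mul_ne_zero hm0 Subgroup.index_ne_zero_of_finite)
        (charDegree_pos η.1.2).ne', Nat.factorization_mul hm0 Subgroup.index_ne_zero_of_finite,
        Finsupp.add_apply, Finsupp.add_apply, hvb η, show e η = ν from e.apply_symm_apply ν] at hz
      have h0 : (Cfsg.charDegree (ν : P' → ℂ)).factorization p = 0 := by omega
      obtain ⟨l, hl⟩ := IsPGroup.iff_card.1 hP'p
      have hdvd := Char.IsIrr.degree_dvd_card ν.2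
        (charDegree_cast (Char.IsIrr.isCharacter ν.2)).symm
      rw [hl] at hdvd
      obtain ⟨i, -, hi⟩ := (Nat.dvd_prime_pow hp).1 hdvd
      rw [hi, hp.factorization_pow, Finsupp.single_eq_same] at h0
      rw [h0, pow_zero] at hi
      rw [← charDegree_cast (Char.IsIrr.isCharacter ν.2), hi, Nat.cast_one]
    intro a ha c hc
    have := Char.forall_degree_one_iff.1 hdeg1 ⟨⟨a, hPH ha⟩, ha⟩ ⟨⟨c, hPH hc⟩, hc⟩
    exact congrArg (fun x : P' => ((x : H) : G)) this

end Cfsg.Agent.DefectThms
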