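import Mathlib
import Cfsg.Agent.BlockThms.DefectZero
import Cfsg.Agent.S0910

/-!
# Simple groups of order `p ^ a * q ^ b * r`
-/

namespace Cfsg.Agent.BlockThms

open Cfsg.Agent Cfsg.Agent.Blocks

universe u

variable {G : Type u} [Group G] [Finite G] [IsSimpleGroup G]

theorem not_commute_of_orderOf {p q r a b : ℕ} (hp : p.Prime) (hq : q.Prime) (hr : r.Prime)
    (hpr : p ≠ r) (hqr : q ≠ r) (hcard : Nat.card G = p ^ a * q ^ b * r)
    (hna : ∃ u v : G, u * v ≠ v * u) {x y : G} (hx : orderOf x = p) (hy : orderOf y = r)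
    (hc : Commute x y) : False := by
  classical
  have := Fintype.ofFinite G
  have := Fact.mk hp
  obtain ⟨M, hM⟩ := exists_isPModular p hp
  obtain ⟨M', hM'⟩ := exists_isPModular r hr
  obtain ⟨Q, hQ⟩ := exists_isPModular q hq
  have hord : orderOf (x * y) = p * r := by
    rw [hc.orderOf_mul_eq_mul_orderOf_of_coprime
      (by rw [hx, hy]; exact (Nat.coprime_primes hp hr).2 hpr), hx, hy]
  have hz : ¬ Cfsg.IsPRegular p (x * y) := fun h => h (hord ▸ dvd_mul_right p r)
  have hz' : ¬ Cfsg.IsPRegular r (x * y) := fun h => h (hord ▸ dvd_mul_left r p)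
  have hsum := BlockChar.sum_block_degree_mul_eq_zero hM (isPBlock_principalBlock (G := G) M) hz
  rw [← Finset.add_sum_erase _ _ (Finset.mem_univ (triv G)),
    if_pos (triv_mem_principalBlock hM)] at hsum
  refine not_memLocalIdeal_one hQ ?_
  have h1 : (1 : ℂ) = -(∑ χ ∈ Finset.univ.erase (triv G),
      if χ ∈ Cfsg.principalBlock M G then (χ : G → ℂ) 1 * (χ : G → ℂ) (x * y) else 0) := by
    rw [← eq_neg_of_add_eq_zero_left hsum]
    simp [triv]
  rw [h1]
  refine memLocalIdeal_neg (memLocalIdeal_sum hQ _ fun χ hχ => ?_)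
  split_ifs with hB
  swap
  · exact memLocalIdeal_zero hQ
  have hn : (χ : G → ℂ) 1 = (Cfsg.charDegree (χ : G → ℂ) : ℂ) :=
    (charDegree_cast (Char.IsIrr.isCharacter χ.2)).symm
  by_cases hqn : q ∣ Cfsg.charDegree (χ : G → ℂ)
  · rw [hn]
    exact memLocalIdeal_mul_right hQ ((memLocalIdeal_natCast_iff hQ _).2 hqn)
      (memLocalRing_char hQ (Char.IsIrr.isCharacter χ.2) _)
  by_cases hrn : r ∣ Cfsg.charDegree (χ : G → ℂ)
  · rw [eq_zero_of_not_dvd_codegree hM' χ ?_ hz', mul_zero]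
    · exact memLocalIdeal_zero hQ
    intro hdvd
    obtain ⟨c, hc'⟩ := Char.IsIrr.degree_dvd_card χ.2 hn
    rw [hc', Nat.mul_div_cancel_left _ (charDegree_pos χ.2)] at hdvd
    have h2 : r * r ∣ p ^ a * q ^ b * r := hcard ▸ hc' ▸ mul_dvd_mul hrn hdvd
    have h3 : r ∣ p ^ a * q ^ b := Nat.dvd_of_mul_dvd_mul_right hr.pos h2
    rcases hr.dvd_mul.1 h3 with h | h
    · exact hpr ((Nat.prime_dvd_prime_iff_eq hr hp).1 (hr.dvd_of_dvd_pow h)).symm
    · exact hqr ((Nat.prime_dvd_prime_iff_eq hr hq).1 (hr.dvd_of_dvd_pow h)).symm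
  exfalso
  have hd := hcard ▸ Char.IsIrr.degree_dvd_card χ.2 hn
  have hd' : Cfsg.charDegree (χ : G → ℂ) ∣ p ^ a * q ^ b :=
    (((hr.coprime_iff_not_dvd).2 hrn).symm).dvd_of_dvd_mul_right hd
  have hd'' : Cfsg.charDegree (χ : G → ℂ) ∣ p ^ a :=
    ((((hq.coprime_iff_not_dvd).2 hqn).pow_left b).symm).dvd_of_dvd_mul_right hd'
  obtain ⟨k, -, hk⟩ := (Nat.dvd_prime_pow hp).1 hd''
  have := S0910.result p M hM hna χ hB k (by rw [hn, hk]; push_cast; rfl)
  exact (Finset.mem_erase.1 hχ).1 (Subtype.ext this)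

theorem sylow_self_centralizing (p q r a b : ℕ) (hp : p.Prime) (hq : q.Prime) [Fact r.Prime]
    (hpr : p ≠ r) (hqr : q ≠ r) (hcard : Nat.card G = p ^ a * q ^ b * r) (S : Sylow r G) :
    Subgroup.centralizer (S : Set G) = (S : Subgroup G) := by
  classical
  have hr : r.Prime := Fact.out
  have hScard : Nat.card (S : Subgroup G) = r := by
    rw [S.card_eq_multiplicity, hcard]
    have h1 : (p ^ a * q ^ b * r).factorization r = 1 := by
      rw [Nat.factorization_mul (Nat.mul_ne_zero (pow_ne_zero _ hp.ne_zero)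
        (pow_ne_zero _ hq.ne_zero)) hr.ne_zero,
        Nat.factorization_mul (pow_ne_zero _ hp.ne_zero) (pow_ne_zero _ hq.ne_zero),
        hp.factorization_pow, hq.factorization_pow, hr.factorization]
      simp [hpr, hqr]
    rw [h1, pow_one]
  by_cases hna : ∃ u v : G, u * v ≠ v * u
  · have hle : (S : Subgroup G) ≤ Subgroup.centralizer (S : Set G) := by
      have : IsCyclic (S : Subgroup G) := isCyclic_of_prime_card hScard
      intro g hg h hh
      exact congrArg Subtype.val (IsMulCommutative.is_comm.comm (⟨h, hh⟩ : (S : Subgroup G)) ⟨g, hg⟩)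
    refine (Subgroup.eq_of_le_of_card_ge hle ?_).symm
    obtain ⟨⟨y, hyS⟩, hy⟩ := exists_prime_orderOf_dvd_card' r (by rw [hScard] :
      r ∣ Nat.card (S : Subgroup G))
    rw [Subgroup.orderOf_mk] at hy
    set C := Subgroup.centralizer (S : Set G)
    have hC : ∀ ℓ : ℕ, ℓ.Prime → ℓ ∣ Nat.card C → ∃ x, orderOf x = ℓ ∧ Commute x y := by
      intro ℓ hℓ h
      have := Fact.mk hℓ
      obtain ⟨⟨x, hx⟩, hxo⟩ := exists_prime_orderOf_dvd_card' ℓ h
      exact ⟨x, by rwa [Subgroup.orderOf_mk] at hxo, (hx y hyS).symm⟩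
    have hp' : ¬ p ∣ Nat.card C := fun h => by
      obtain ⟨x, hx, hc⟩ := hC p hp h
      exact not_commute_of_orderOf hp hq hr hpr hqr hcard hna hx hy hc
    have hq' : ¬ q ∣ Nat.card C := fun h => by
      obtain ⟨x, hx, hc⟩ := hC q hq h
      exact not_commute_of_orderOf hq hp hr hqr hpr (a := b) (b := a)
        (by rw [hcard]; ring) hna hx hy hc
    rw [hScard]
    have hd : Nat.card C ∣ p ^ a * q ^ b * r := hcard ▸ Subgroup.card_subgroup_dvd_card C
    exact Nat.le_of_dvd hr.pos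
      ((((hp.coprime_iff_not_dvd.2 hp').pow_left a).mul_left
        ((hq.coprime_iff_not_dvd.2 hq').pow_left b)).symm.dvd_of_dvd_mul_left hd)
  · push Not at hna
    have hS : (S : Subgroup G) = ⊤ := by
      have hN : (S : Subgroup G).Normal :=
        ⟨fun s hs g => by rw [hna g s, mul_inv_cancel_right]; exact hs⟩
      refine hN.eq_bot_or_eq_top.resolve_left fun h => hr.ne_one ?_
      rw [← hScard, h, Subgroup.card_bot]
    rw [hS, Subgroup.eq_top_iff']
    exact fun g h _ => hna h g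

end Cfsg.Agent.BlockThms
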